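import Cfsg.Agent.H66.SharpSimple
import Cfsg.Agent.S0739
import Cfsg.Agent.S0740
import Cfsg.Agent.S0742

/-!
Two-point stabilisers of simple Zassenhaus groups.
-/

set_option autoImplicit false

namespace H66.Sharp

open MulAction

theorem not_two_points {G Ω : Type*} [Group G] [MulAction G Ω] (hZ : Cfsg.IsZassenhausGroup G Ω)
    (a b : Ω) (hab : a ≠ b) : ∃ c : Ω, c ≠ a ∧ c ≠ b := by
  by_contra hcon
  push Not at hcon
  obtain ⟨hfaith, -, -, ⟨g, hg1, x, y, hxy, hgx, hgy⟩, -⟩ := hZ
  haveI := hfaith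
  refine hg1 (eq_of_smul_eq_smul (α := Ω) fun p => ?_)
  rw [one_smul]
  have hall : ∀ q, q = a ∨ q = b := fun q => (em (q = a)).imp_right (hcon q)
  rcases hall p with rfl | rfl <;> rcases hall x with rfl | rfl <;> rcases hall y with rfl | rfl <;>
    first | exact hgx | exact hgy | exact absurd rfl hxy

theorem cyclic_inverted {G Ω : Type*} [Group G] [Finite G] [MulAction G Ω] [Finite Ω]
    (hZ : Cfsg.IsZassenhausGroup G Ω) [IsSimpleGroup G] {a b : Ω} (hab : a ≠ b) :
    IsCyclic ↥(stabilizer G a ⊓ stabilizer G b) ∧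
      ∃ v : G, orderOf v = 2 ∧ v • a = b ∧ v • b = a ∧
        ∀ h ∈ stabilizer G a ⊓ stabilizer G b, v * h * v⁻¹ = h⁻¹ := by
  classical
  letI := Fintype.ofFinite Ω
  obtain ⟨hfaith, h2, h3, -, -⟩ := id hZ
  haveI := hfaith
  obtain ⟨⟨s, hs, hsa, hsb⟩, -, -⟩ := Cfsg.Agent.S0740.result hZ hab
  obtain ⟨c, hca, hcb⟩ := not_two_points hZ a b hab
  set H := stabilizer G a ⊓ stabilizer G b with hH
  rcases Nat.even_or_odd (Nat.card H) with heven | hodd
  · have hd := two_mul_le hZ hab heven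
    have hsq := H59.swap_sq_of_even h2 h3 hab heven hd a b hab
    have hinv : ∀ h ∈ H, s * h * s⁻¹ = h⁻¹ := by
      intro h hh
      have e := hsq (s * h) (by rw [mul_smul, mem_stabilizer_iff.mp (Subgroup.mem_inf.mp hh).1, hsa])
        (by rw [mul_smul, mem_stabilizer_iff.mp (Subgroup.mem_inf.mp hh).2, hsb])
      rw [inv_eq_of_mul_eq_one_right (hsq s hsa hsb)]
      exact eq_inv_of_mul_eq_one_left (by rw [← e]; group)
    have hcomm : ∀ x ∈ H, ∀ y ∈ H, x * y = y * x := by
      intro x hx y hy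
      have e := hinv (x * y) (mul_mem hx hy)
      have e' : s * (x * y) * s⁻¹ = x⁻¹ * y⁻¹ := by
        rw [← hinv x hx, ← hinv y hy]; group
      rw [e', ← mul_inv_rev, inv_inj] at e
      exact e.symm
    refine ⟨?_, s, hs, hsa, hsb, hinv⟩
    -- `H` acts without fixed points on the regular normal subgroup of `G_a`
    by_cases hbot : H = ⊥
    · rw [hbot]; exact isCyclic_of_subsingleton
    obtain ⟨U, hUle, hUn, hreg⟩ := H59.exists_point_kernel h2 h3 hab hbot ⟨c, hca, hcb⟩
    have hUn' : ∀ h ∈ stabilizer G a, ∀ u ∈ U, h * u * h⁻¹ ∈ U := fun h hh u hu =>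
      hUn.conj_mem ⟨u, hUle hu⟩ hu ⟨h, hh⟩
    have hfix : ∀ f ∈ H, f ≠ 1 → ∀ u ∈ U, f * u = u * f → u = 1 := by
      intro f hf hf1 u hu e
      obtain ⟨hfa, hfb⟩ := Subgroup.mem_inf.mp hf
      by_contra hu1
      have hub : u • b ≠ a := fun e => hab (by
        rw [← inv_smul_smul u b, e]
        exact (mem_stabilizer_iff.mp (inv_mem (hUle hu))).symm)
      refine hf1 (h3 f a b (u • b) hab ?_ hub.symm hfa hfb ?_)
      · intro e
        obtain ⟨w, -, hw⟩ := hreg b b hab.symm hab.symm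
        exact hu1 (congrArg Subtype.val ((hw ⟨u, hu⟩ e.symm).trans (hw 1 (one_smul _ _)).symm))
      · rw [← mul_smul, e, mul_smul, mem_stabilizer_iff.mp hfb]
    -- an involution of `H` inverts `U`, so `U` is commutative
    haveI : Fact (Nat.Prime 2) := ⟨Nat.prime_two⟩
    obtain ⟨⟨j, hj⟩, hjo⟩ := exists_prime_orderOf_dvd_card' 2 heven.two_dvd
    rw [Subgroup.orderOf_mk] at hjo
    have hj1 : j ≠ 1 := fun e => by rw [e, orderOf_one] at hjo; norm_num at hjo
    have hj2 : j * j = 1 := by rw [← pow_two, ← hjo, pow_orderOf_eq_one]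
    have hji : j⁻¹ = j := inv_eq_of_mul_eq_one_right hj2
    let F : U → U := fun u => ⟨(u : G)⁻¹ * (j * u * j⁻¹),
      mul_mem (inv_mem u.2) (hUn' j (Subgroup.mem_inf.mp hj).1 _ u.2)⟩
    have hFinj : Function.Injective F := by
      rintro ⟨u, hu⟩ ⟨w, hw⟩ e
      have e' : u⁻¹ * (j * u * j⁻¹) = w⁻¹ * (j * w * j⁻¹) := congrArg Subtype.val e
      refine Subtype.ext (mul_inv_eq_one.mp (hfix j hj hj1 _ (mul_mem hw (inv_mem hu)) ?_)).symm
      calc j * (w * u⁻¹) = w * (w⁻¹ * (j * w * j⁻¹)) * j * u⁻¹ := by group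
        _ = w * (u⁻¹ * (j * u * j⁻¹)) * j * u⁻¹ := by rw [e']
        _ = w * u⁻¹ * j := by group
    have hjinv : ∀ u ∈ U, j * u * j⁻¹ = u⁻¹ := by
      intro u hu
      obtain ⟨⟨x, hx⟩, hxe⟩ := (Finite.injective_iff_surjective.mp hFinj) ⟨u, hu⟩
      rw [← show x⁻¹ * (j * x * j⁻¹) = u from congrArg Subtype.val hxe, hji]
      calc j * (x⁻¹ * (j * x * j)) * j = j * x⁻¹ * j * x * (j * j) := by group
        _ = (j * x * j)⁻¹ * x := by rw [hj2, mul_inv_rev, mul_inv_rev, hji]; group
        _ = _ := by group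
    letI : CommGroup U :=
      { (inferInstance : Group U) with
        mul_comm := fun ⟨u, hu⟩ ⟨w, hw⟩ => Subtype.ext (by
          show u * w = w * u
          have e := hjinv (u * w) (mul_mem hu hw)
          have e' : j * (u * w) * j⁻¹ = u⁻¹ * w⁻¹ := by
            rw [← hjinv u hu, ← hjinv w hw]; group
          rw [e', ← mul_inv_rev, inv_inj] at e
          exact e.symm) }
    letI : MulDistribMulAction H U :=
      { smul := fun h u => ⟨(h : G) * u * (h : G)⁻¹, hUn' _ (Subgroup.mem_inf.mp h.2).1 _ u.2⟩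
        one_smul := fun u => Subtype.ext (show (1 : G) * u * 1⁻¹ = u by group)
        mul_smul := fun g h u => Subtype.ext
          (show (g : G) * h * u * ((g : G) * h)⁻¹ = g * (h * u * (h : G)⁻¹) * (g : G)⁻¹ by group)
        smul_mul := fun h u w => Subtype.ext
          (show (h : G) * (u * w) * (h : G)⁻¹ = (h * u * (h : G)⁻¹) * (h * w * (h : G)⁻¹) by group)
        smul_one := fun h => Subtype.ext (show (h : G) * 1 * (h : G)⁻¹ = 1 by group) }
    obtain ⟨u₀, hu₀, -⟩ := hreg b c hab.symm hca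
    haveI : Nontrivial U := ⟨⟨u₀, 1, fun e => hcb (by
      rw [e] at hu₀; simpa using hu₀.symm)⟩⟩
    refine H2.isCyclic_of_fpf_comm (M := U) (fun f hf u hu => ?_)
      (fun x y => Subtype.ext (hcomm x x.2 y y.2))
    exact Subtype.ext (hfix f f.2 (fun e => hf (Subtype.ext e)) u u.2
      (mul_inv_eq_iff_eq_mul.mp (congrArg Subtype.val hu)))
  · obtain ⟨hcyc, -, hinv⟩ := Cfsg.Agent.S0739.result hZ hab hodd (fun q hq hqd => by
      haveI := Fact.mk hq
      rintro ⟨N, hN, hNi⟩
      have hqG : q ∣ Nat.card G := hqd.trans (Subgroup.card_subgroup_dvd_card H)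
      have hpos : 0 < (Nat.card G).factorization q := hq.factorization_pos_of_dvd Nat.card_pos.ne' hqG
      rcases hN.eq_bot_or_eq_top with h | h
      · rw [h, Subgroup.index_bot] at hNi
        have hp : IsPGroup q G := IsPGroup.of_card hNi
        haveI : Nontrivial G := inferInstance
        haveI := hp.center_nontrivial
        have htop : Subgroup.center G = ⊤ := (inferInstance : (Subgroup.center G).Normal).eq_bot_or_eq_top.resolve_left
          (fun h => (Subgroup.nontrivial_iff_ne_bot _).mp inferInstance h)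
        have hcommG : ∀ x y : G, x * y = y * x := fun x y =>
          (Subgroup.mem_center_iff.mp (htop ▸ Subgroup.mem_top y) x)
        -- a commutative group with a regular orbit structure has trivial two-point stabilisers
        obtain ⟨h, hh, hh1⟩ := (Subgroup.bot_or_exists_ne_one H).resolve_left (fun hb => by
          rw [← hH, hb, Subgroup.card_bot] at hqd; exact hq.one_lt.ne' (Nat.dvd_one.mp hqd))
        refine hh1 (h3 h a b c hab hcb.symm hca.symm (Subgroup.mem_inf.mp hh).1 (Subgroup.mem_inf.mp hh).2 ?_)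
        haveI := MulAction.isPretransitive_of_is_two_pretransitive (G := G) (α := Ω)
        obtain ⟨g, rfl⟩ := MulAction.exists_smul_eq G a c
        rw [← mul_smul, hcommG, mul_smul, mem_stabilizer_iff.mp (Subgroup.mem_inf.mp hh).1]
      · rw [h, Subgroup.index_top] at hNi
        exact absurd hNi.symm (Nat.one_lt_pow hpos.ne' hq.one_lt).ne')
    exact ⟨hcyc, s, hs, hsa, hsb, hinv s hsa hsb⟩

end H66.Sharp
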