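import Cfsg.Agent.H66.FeitDegree
import Cfsg.Agent.H66.ZassTwoPoint
import Cfsg.Agent.H16.FrobNilpotent
import Cfsg.Agent.H16.FeitSibley

/-!
The point kernel of a Zassenhaus group, and Feit's theorem: a simple Zassenhaus group has degree
`p ^ k + 1`.
-/

set_option autoImplicit false

open Cfsg

namespace H66.Feit

open MulAction

universe u v

variable {G : Type u} {Ω : Type v} [Group G] [Finite G] [MulAction G Ω] [Finite Ω]

/-- Everything needed about the point kernel `U` of a Zassenhaus group. -/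
theorem kernel_props (hZ : Cfsg.IsZassenhausGroup G Ω) {a b : Ω} (hab : a ≠ b) :
    ∃ U : Subgroup G, U ≤ stabilizer G a ∧ U ≠ ⊥ ∧
      Subgroup.normalizer (U : Set G) = stabilizer G a ∧
      (∀ c : Ω, c ≠ a → ∀ e : Ω, e ≠ a → ∃! u : U, (u : G) • c = e) ∧
      Nat.card Ω = Nat.card U + 1 ∧
      Nat.card (stabilizer G a) = Nat.card U * Nat.card ↥(stabilizer G a ⊓ stabilizer G b) ∧
      (∀ k ∈ U, k ≠ 1 → Subgroup.centralizer ({k} : Set G) ≤ U) ∧
      (∀ x ∈ stabilizer G a, ∃ u ∈ U, ∃ h ∈ stabilizer G a ⊓ stabilizer G b, x = u * h) ∧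
      (∀ g : G, ∀ u ∈ U, u ≠ 1 → g⁻¹ * u * g ∈ stabilizer G a → g ∈ stabilizer G a) ∧
      IsTISubset (U : Set G) ∧ Group.IsNilpotent U := by
  classical
  letI := Fintype.ofFinite G
  obtain ⟨hfaith, h2, h3, ⟨g₀, hg₀, x₀, y₀, hxy₀, hgx, hgy⟩, -⟩ := id hZ
  haveI := hfaith
  have hHne : stabilizer G a ⊓ stabilizer G b ≠ ⊥ := by
    intro h
    obtain ⟨t, t1, t2⟩ := (is_two_pretransitive_iff.1 h2) hxy₀ hab
    have hm : t * g₀ * t⁻¹ ∈ stabilizer G a ⊓ stabilizer G b := by
      refine Subgroup.mem_inf.mpr ⟨?_, ?_⟩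
      · rw [mem_stabilizer_iff, mul_smul, mul_smul, ← t1, inv_smul_smul, hgx]
      · rw [mem_stabilizer_iff, mul_smul, mul_smul, ← t2, inv_smul_smul, hgy]
    rw [h, Subgroup.mem_bot, conj_eq_one_iff] at hm
    exact hg₀ hm
  obtain ⟨c₀, hc₀a, hc₀b⟩ := H66.Sharp.not_two_points hZ a b hab
  obtain ⟨U, hUle, hUn, hreg⟩ := H59.exists_point_kernel h2 h3 hab hHne ⟨c₀, hc₀a, hc₀b⟩
  have hUn' : ∀ h ∈ stabilizer G a, ∀ u ∈ U, h * u * h⁻¹ ∈ U := fun h hh u hu =>
    hUn.conj_mem ⟨u, hUle hu⟩ hu ⟨h, hh⟩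
  have hfree : ∀ u ∈ U, ∀ c : Ω, c ≠ a → u • c = c → u = 1 := fun u hu c hc e => by
    obtain ⟨w, -, hw⟩ := hreg c c hc hc
    exact congrArg Subtype.val ((hw ⟨u, hu⟩ e).trans (hw 1 (one_smul _ _)).symm)
  have hU1 : U ≠ ⊥ := by
    obtain ⟨u₀, hu₀, -⟩ := hreg b c₀ hab.symm hc₀a
    intro h
    have h1 : (u₀ : G) = 1 := Subgroup.mem_bot.mp (h ▸ u₀.2)
    rw [h1] at hu₀
    exact hc₀b ((one_smul G b).symm.trans hu₀).symm
  have hmove : ∀ u ∈ U, ∀ c : Ω, c ≠ a → u • c ≠ a := fun u hu c hc e => hc (by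
    rw [← inv_smul_smul u c, e]
    exact mem_stabilizer_iff.mp (inv_mem (hUle hu)))
  have hfixa : ∀ u ∈ U, u ≠ 1 → ∀ c : Ω, u • c = c → c = a := fun u hu hu1 c e => by
    by_contra hc
    exact hu1 (hfree u hu c hc e)
  -- cardinals
  have hΩ : Nat.card Ω = Nat.card U + 1 := by
    let f : U ≃ {c : Ω // c ≠ a} := Equiv.ofBijective
      (fun u => ⟨(u : G) • b, hmove u u.2 b hab.symm⟩)
      ⟨fun u w e => (hreg b _ hab.symm (hmove u u.2 b hab.symm)).unique rfl
          (congrArg Subtype.val e).symm,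
        fun c => ⟨(hreg b c hab.symm c.2).choose,
          Subtype.ext (hreg b c hab.symm c.2).choose_spec.1⟩⟩
    rw [Nat.card_congr f]
    letI := Fintype.ofFinite Ω
    rw [Nat.card_eq_fintype_card, Nat.card_eq_fintype_card, Fintype.card_subtype_compl,
      Fintype.card_subtype_eq]
    have : 0 < Fintype.card Ω := Fintype.card_pos_iff.mpr ⟨a⟩
    omega
  have hdec : ∀ x ∈ stabilizer G a,
      ∃ u ∈ U, ∃ h ∈ stabilizer G a ⊓ stabilizer G b, x = u * h := by
    intro x hx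
    have hxb : x • b ≠ a := fun e => hab (MulAction.injective x (e.trans hx.symm)).symm
    obtain ⟨⟨u, hu⟩, hub : u • b = x • b, -⟩ := hreg b _ hab.symm hxb
    exact ⟨u, hu, u⁻¹ * x, Subgroup.mem_inf.mpr ⟨mul_mem (inv_mem (hUle hu)) hx,
      by rw [mem_stabilizer_iff, mul_smul, inv_smul_eq_iff, hub]⟩, by group⟩
  have hcardA : Nat.card (stabilizer G a)
      = Nat.card U * Nat.card ↥(stabilizer G a ⊓ stabilizer G b) := by
    rw [← Nat.card_prod]
    refine (Nat.card_congr (Equiv.ofBijective (fun p => (⟨p.1.1 * p.2.1,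
      mul_mem (hUle p.1.2) (Subgroup.mem_inf.mp p.2.2).1⟩ : stabilizer G a)) ⟨?_, ?_⟩)).symm
    · rintro ⟨⟨u, hu⟩, ⟨h, hh⟩⟩ ⟨⟨w, hw⟩, ⟨k, hk⟩⟩ e
      have e' : u * h = w * k := congrArg Subtype.val e
      have hb := congrArg (fun g : G => g • b) e'
      simp only [mul_smul, mem_stabilizer_iff.mp (Subgroup.mem_inf.mp hh).2,
        mem_stabilizer_iff.mp (Subgroup.mem_inf.mp hk).2] at hb
      have huw : u = w := congrArg Subtype.val
        ((hreg b _ hab.symm (hmove u hu b hab.symm)).unique (y₁ := ⟨u, hu⟩) (y₂ := ⟨w, hw⟩) rfl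
          hb.symm)
      subst huw
      obtain rfl := mul_left_cancel e'
      rfl
    · rintro ⟨x, hx⟩
      obtain ⟨u, hu, h, hh, rfl⟩ := hdec x hx
      exact ⟨⟨⟨u, hu⟩, ⟨h, hh⟩⟩, rfl⟩
  -- normaliser
  have hnorm : Subgroup.normalizer (U : Set G) = stabilizer G a := by
    refine le_antisymm (fun g hg => ?_) (fun g hg => ?_)
    · obtain ⟨u, hu, hu1⟩ := (Subgroup.bot_or_exists_ne_one U).resolve_left hU1
      have hm : g⁻¹ * u * g ∈ U := by
        have := (Subgroup.mem_normalizer_iff.mp (inv_mem hg) u).mp hu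
        simpa using this
      have : u • g • a = g • a := by
        conv_rhs => rw [← mem_stabilizer_iff.mp (hUle hm)]
        rw [← mul_smul, ← mul_smul]
        congr 1
        group
      exact hfixa u hu hu1 _ this
    · rw [Subgroup.mem_normalizer_iff]
      intro u
      refine ⟨hUn' g hg u, fun h => ?_⟩
      have := hUn' g⁻¹ (inv_mem hg) _ h
      rwa [show g⁻¹ * (g * u * g⁻¹) * g⁻¹⁻¹ = u by group] at this
  have hfix : ∀ g : G, ∀ u ∈ U, u ≠ 1 → g⁻¹ * u * g ∈ stabilizer G a → g ∈ stabilizer G a := by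
    intro g u hu hu1 h
    refine hfixa u hu hu1 _ ?_
    rw [mem_stabilizer_iff, mul_smul, mul_smul, inv_smul_eq_iff] at h
    exact h
  have hTI : IsTISubset (U : Set G) := by
    intro g hg x hx hgx
    by_contra hx1
    refine hg ?_
    have hne : g * x * g⁻¹ ≠ 1 := fun e => hx1 (conj_eq_one_iff.mp e)
    rw [hnorm]
    refine hfix g _ hgx hne ?_
    rw [show g⁻¹ * (g * x * g⁻¹) * g = x by group]
    exact hUle hx
  -- an element of `G_a` outside `U` fixes a second point
  have hout : ∀ x ∈ stabilizer G a, x ∉ U → ∃ c, c ≠ a ∧ x • c = c := by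
    letI := Fintype.ofFinite Ω
    set A := stabilizer G a
    set H := stabilizer G a ⊓ stabilizer G b with hH
    let f : U × {h : H // h ≠ 1} → {x : A // (x : G) ∉ U} := fun p =>
      ⟨⟨(p.1 : G) * p.2.1.1 * (p.1 : G)⁻¹,
          mul_mem (mul_mem (hUle p.1.2) (Subgroup.mem_inf.mp p.2.1.2).1) (inv_mem (hUle p.1.2))⟩,
        fun hm => p.2.2 (Subtype.ext (by
          have hh : (p.2.1.1 : G) ∈ U := by
            have := mul_mem (mul_mem (inv_mem p.1.2) hm) p.1.2
            simpa [mul_assoc] using this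
          exact hfree _ hh b hab.symm (Subgroup.mem_inf.mp p.2.1.2).2))⟩
    have hf : Function.Injective f := by
      rintro ⟨⟨u, hu⟩, ⟨⟨h, hh⟩, hh1⟩⟩ ⟨⟨w, hw⟩, ⟨⟨k, hk⟩, hk1⟩⟩ e
      have e' : u * h * u⁻¹ = w * k * w⁻¹ :=
        congrArg (fun x : {x : A // (x : G) ∉ U} => (x.1 : G)) e
      have hk0 : k ≠ 1 := fun h => hk1 (Subtype.ext h)
      have huw : u = w := by
        by_contra hne
        have hwu : (w⁻¹ * u) • b ≠ b := fun e'' =>
          hne (inv_mul_eq_one.mp (hfree _ (mul_mem (inv_mem hw) hu) b hab.symm e'')).symm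
        refine hk0 (h3 k a b ((w⁻¹ * u) • b) hab hwu.symm
          (hmove _ (mul_mem (inv_mem hw) hu) b hab.symm).symm
          (Subgroup.mem_inf.mp hk).1 (Subgroup.mem_inf.mp hk).2 ?_)
        rw [← mul_smul, show k * (w⁻¹ * u) = w⁻¹ * u * h from ?_, mul_smul,
          mem_stabilizer_iff.mp (Subgroup.mem_inf.mp hh).2]
        calc k * (w⁻¹ * u) = w⁻¹ * (w * k * w⁻¹) * u := by group
          _ = w⁻¹ * u * h := by rw [← e']; group
      subst huw
      have : h = k := mul_left_cancel (mul_right_cancel e')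
      subst this
      rfl
    have hcard : Nat.card (U × {h : H // h ≠ 1}) = Nat.card {x : A // (x : G) ∉ U} := by
      rw [Nat.card_prod, Nat.card_eq_fintype_card (α := {h : H // h ≠ 1}),
        Fintype.card_subtype_compl, Fintype.card_subtype_eq,
        Nat.card_eq_fintype_card (α := {x : A // (x : G) ∉ U}), Fintype.card_subtype_compl,
        ← Nat.card_eq_fintype_card, ← Nat.card_eq_fintype_card, ← Nat.card_eq_fintype_card,
        hcardA, Nat.mul_sub, mul_one]
      congr 1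
      exact Nat.card_congr
        { toFun := fun u => ⟨⟨u.1, hUle u.2⟩, u.2⟩
          invFun := fun x => ⟨x.1.1, x.2⟩
          left_inv := fun _ => rfl
          right_inv := fun _ => rfl }
    intro x hx hxU
    obtain ⟨⟨u, h⟩, e⟩ :=
      ((Nat.bijective_iff_injective_and_card f).mpr ⟨hf, hcard⟩).2 ⟨⟨x, hx⟩, hxU⟩
    refine ⟨(u : G) • b, hmove u u.2 b hab.symm, ?_⟩
    have e' : (u : G) * h.1.1 * (u : G)⁻¹ = x :=
      congrArg (fun x : {x : A // (x : G) ∉ U} => (x.1 : G)) e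
    rw [← e', mul_smul, mul_smul, inv_smul_smul,
      mem_stabilizer_iff.mp (Subgroup.mem_inf.mp h.1.2).2]
  have hC : ∀ k ∈ U, k ≠ 1 → Subgroup.centralizer ({k} : Set G) ≤ U := by
    intro k hk hk1 g hg
    rw [Subgroup.mem_centralizer_singleton_iff] at hg
    have hga : g ∈ stabilizer G a := hfixa k hk hk1 _ (by
      rw [← mul_smul, ← hg, mul_smul, mem_stabilizer_iff.mp (hUle hk)])
    by_contra hgU
    obtain ⟨c, hca, hgc⟩ := hout g hga hgU
    refine hgU ?_
    have hkc : k • c ≠ c := fun e => hca (hfixa k hk hk1 c e)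
    have hg1 : g = 1 := h3 g a c (k • c) hca.symm hkc.symm (hmove k hk c hca).symm hga hgc
      (by rw [← mul_smul, hg, mul_smul, hgc])
    rw [hg1]
    exact one_mem U
  -- nilpotency
  have hnil : Group.IsNilpotent U := by
    haveI : (U.subgroupOf (stabilizer G a)).Normal := hUn
    have h := H16.frob_kernel_nilpotent (U.subgroupOf (stabilizer G a)) (fun h => ?_) ?_
    · haveI := h
      exact Group.nilpotent_of_mulEquiv (Subgroup.subgroupOfEquivOfLe hUle)
    · have hle := Subgroup.subgroupOf_eq_top.mp h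
      refine hHne ((Subgroup.eq_bot_iff_forall _).2 fun x hx => ?_)
      exact hfree x (hle (Subgroup.mem_inf.mp hx).1) b hab.symm (Subgroup.mem_inf.mp hx).2
    · intro n hn hn1 x hx
      rw [Subgroup.mem_subgroupOf] at hn ⊢
      refine hC n hn (fun h => hn1 (Subtype.ext h)) ?_
      rw [Subgroup.mem_centralizer_singleton_iff] at hx ⊢
      exact congrArg Subtype.val hx
  exact ⟨U, hUle, hU1, hnorm, fun c hc e he => hreg c e hc he, hΩ, hcardA, hC, hdec, hfix, hTI,
    hnil⟩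

/-- Feit's theorem. -/
theorem isPrimePow_degree {G : Type u} {Ω : Type v} [Group G] [Finite G] [MulAction G Ω]
    [Fintype Ω] (hZ : Cfsg.IsZassenhausGroup G Ω) [IsSimpleGroup G] :
    IsPrimePow (Fintype.card Ω - 1) := by
  classical
  obtain ⟨-, h2, -, ⟨-, -, a, b, hab, -, -⟩, -⟩ := id hZ
  obtain ⟨c₀, hc₀a, hc₀b⟩ := H66.Sharp.not_two_points hZ a b hab
  have hΩ3 : 3 ≤ Fintype.card Ω := by
    have : ({a, b, c₀} : Finset Ω).card = 3 :=
      Finset.card_eq_three.mpr ⟨a, b, c₀, hab, hc₀a.symm, hc₀b.symm, rfl⟩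
    exact this ▸ Finset.card_le_univ _
  rcases Nat.even_or_odd (Nat.card ↥(stabilizer G a ⊓ stabilizer G b)) with heven | hodd
  · obtain ⟨p, f, -, -, -, hp, -, -, hf, -⟩ :=
      Cfsg.Agent.S0742.result hZ hab heven (H66.Sharp.two_mul_le hZ hab heven)
    rw [hf, Nat.add_sub_cancel, isPrimePow_nat_iff]
    exact ⟨p, f, hp, Nat.pos_of_ne_zero (fun h => by rw [h, pow_zero] at hf; omega), rfl⟩
  obtain ⟨U, hUle, hU1, hnorm, -, hΩ, hcardA, hC, hdec, hfix, hTI, hnil⟩ := kernel_props hZ hab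
  obtain ⟨hcyc, -⟩ := H66.Sharp.cyclic_inverted hZ hab
  rw [← Nat.card_eq_fintype_card, hΩ, Nat.add_sub_cancel]
  letI := Fintype.ofFinite G
  set H := stabilizer G a ⊓ stabilizer G b with hHdef
  set d := Nat.card H with hd
  set L := Subgroup.normalizer (U : Set G) with hL
  have hUL : U ≤ L := Subgroup.le_normalizer
  letI : Fintype ↥L := Fintype.ofFinite _
  haveI hKn : (U.subgroupOf L).Normal := Subgroup.normal_in_normalizer
  have hC' := H16.centralizer_subgroupOf U hC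
  have hKcard : Nat.card (U.subgroupOf L) = Nat.card U :=
    Nat.card_congr (Subgroup.subgroupOfEquivOfLe hUL).toEquiv
  have hLcard : Nat.card L = Nat.card U * d := by rw [hnorm, hcardA]
  have hdidx : (U.subgroupOf L).index = d := by
    refine Nat.eq_of_mul_eq_mul_left (Nat.card_pos (α := U.subgroupOf L)) ?_
    rw [Subgroup.card_mul_index, hLcard, hKcard]
  have hd1 : d ≠ 1 := by
    intro h
    obtain ⟨-, -, -, ⟨g₀, hg₀, x₀, y₀, hxy₀, hgx, hgy⟩, -⟩ := id hZ
    obtain ⟨t, t1, t2⟩ := (is_two_pretransitive_iff.1 h2) hxy₀ hab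
    have hm : t * g₀ * t⁻¹ ∈ H := by
      refine Subgroup.mem_inf.mpr ⟨?_, ?_⟩
      · rw [mem_stabilizer_iff, mul_smul, mul_smul, ← t1, inv_smul_smul, hgx]
      · rw [mem_stabilizer_iff, mul_smul, mul_smul, ← t2, inv_smul_smul, hgy]
    rw [Subgroup.card_eq_one.mp h, Subgroup.mem_bot, conj_eq_one_iff] at hm
    exact hg₀ hm
  have hd3 : 3 ≤ d := by
    obtain ⟨k, hk⟩ := hodd
    omega
  have hlt : U < L := by
    refine lt_of_le_of_ne hUL fun h => ?_
    have h1 : Nat.card L = Nat.card U := by rw [← h]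
    rw [hLcard] at h1
    have := Nat.mul_le_mul_left (Nat.card U) hd3
    have : 0 < Nat.card U := Nat.card_pos
    omega
  rcases H16.feit_sibley U hU1 hnil hTI hlt hC with ⟨-, -, p, hp, hcomm, hexp⟩ | ⟨h2pow, -⟩ | hcoh
  · haveI := Fact.mk hp
    haveI : Nontrivial U := (Subgroup.nontrivial_iff_ne_bot U).mpr hU1
    have hpU : IsPGroup p U := fun u => ⟨1, Subtype.ext (by simpa using hexp u u.2)⟩
    obtain ⟨n, hn0, hn⟩ := (IsPGroup.nontrivial_iff_card hpU).mp inferInstance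
    rw [hn]
    exact hp.isPrimePow.pow hn0.ne'
  · rw [h2pow]
    refine Nat.prime_two.isPrimePow.pow fun h => ?_
    rw [h, pow_zero] at h2pow
    exact hU1 (Subgroup.card_eq_one.mp h2pow)
  -- the coherent case
  by_contra hnpp
  have hcommH : ∀ x ∈ H, ∀ y ∈ H, x * y = y * x := fun x hx y hy => by
    haveI := hcyc
    letI := IsCyclic.commGroup (α := H)
    exact congrArg Subtype.val (mul_comm (⟨x, hx⟩ : H) ⟨y, hy⟩)
  have hab' : ∀ x y : ↥L, ((x * y * x⁻¹ * y⁻¹ : ↥L) : G) ∈ U := by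
    have hmk : ∀ z : ↥L, ∃ k : ↥L, (k : G) ∈ H ∧
        (z : ↥L ⧸ U.subgroupOf L) = (k : ↥L ⧸ U.subgroupOf L) := fun z => by
      obtain ⟨u, hu, h, hh, e⟩ := hdec (z : G) (hnorm ▸ z.2)
      refine ⟨⟨h, hnorm.symm ▸ (Subgroup.mem_inf.mp hh).1⟩, hh, ?_⟩
      rw [show z = (⟨u, hUL hu⟩ : ↥L) * ⟨h, hnorm.symm ▸ (Subgroup.mem_inf.mp hh).1⟩ from
        Subtype.ext e, QuotientGroup.mk_mul,
        (QuotientGroup.eq_one_iff _).mpr (Subgroup.mem_subgroupOf.mpr hu), one_mul]
    intro x y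
    obtain ⟨x', hx', ex⟩ := hmk x
    obtain ⟨y', hy', ey⟩ := hmk y
    rw [← Subgroup.mem_subgroupOf (H := U) (h := x * y * x⁻¹ * y⁻¹), ← QuotientGroup.eq_one_iff,
      QuotientGroup.mk_mul, QuotientGroup.mk_mul, QuotientGroup.mk_mul, QuotientGroup.mk_inv,
      QuotientGroup.mk_inv, ex, ey, ← QuotientGroup.mk_mul,
      show x' * y' = y' * x' from Subtype.ext (hcommH _ hx' _ hy'), QuotientGroup.mk_mul]
    group
  have hindex : L.index = Nat.card U + 1 := by
    haveI := MulAction.isPretransitive_of_is_two_pretransitive (G := G) (α := Ω)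
    rw [hnorm, index_stabilizer_of_transitive, hΩ]
  refine main U hTI hC hnil hab' (fun g u hu hu1 h => ?_) hindex hdidx hd3 ?_ hcoh
  · have h' : g⁻¹ * u * g ∈ stabilizer G a := hnorm ▸ h
    show g ∈ L; rw [hnorm]; exact hfix g u hu hu1 h'
  -- `|U|` has two coprime parts, both congruent to `1` modulo `d`
  set K := U.subgroupOf L with hKdef
  haveI : Group.IsNilpotent K := by
    haveI := hnil
    exact Group.nilpotent_of_mulEquiv (Subgroup.subgroupOfEquivOfLe hUL).symm
  set N := Nat.card U with hN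
  have hN1 : 1 < N := by
    haveI : Nontrivial U := (Subgroup.nontrivial_iff_ne_bot U).mpr hU1
    exact Finite.one_lt_card
  obtain ⟨p, hp, hpN⟩ := Nat.exists_prime_and_dvd hN1.ne'
  haveI := Fact.mk hp
  let P : Sylow p K := default
  haveI hPn : (P : Subgroup K).Normal :=
    Sylow.normal_of_normalizerCondition Group.normalizerCondition_of_isNilpotent P
  haveI : Finite (Sylow p K) := inferInstance
  haveI : (P : Subgroup K).Characteristic := Sylow.characteristic_of_normal P hPn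
  set A := (P : Subgroup K).map K.subtype with hA
  haveI : A.Normal := inferInstance
  have hrel : A.relIndex K = (P : Subgroup K).index := by
    rw [hA, Subgroup.relIndex, Subgroup.subgroupOf,
      Subgroup.comap_map_eq_self_of_injective K.subtype_injective]
  have h1 := H16.frob_index_dvd K hC' A
  rw [hrel, hdidx] at h1
  have h0 := H16.frob_index_dvd K hC' ⊥
  rw [Subgroup.relIndex_bot_left, hKcard, hdidx] at h0
  have hPc := P.card_eq_multiplicity
  rw [hKcard] at hPc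
  set k := N.factorization p with hk
  have hmul : p ^ k * (P : Subgroup K).index = N := by
    rw [← hPc, Subgroup.card_mul_index, hKcard]
  set m := (P : Subgroup K).index with hm
  have hk0 : 0 < k := hp.factorization_pos_of_dvd (by omega) hpN
  have hm1 : 1 < m := by
    rcases Nat.lt_trichotomy m 1 with h | h | h
    · interval_cases m
      omega
    · exfalso
      rw [h, mul_one] at hmul
      exact hnpp (hmul ▸ hp.isPrimePow.pow hk0.ne')
    · exact h
  obtain ⟨α, hα⟩ := h1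
  obtain ⟨β, hβ⟩ := h0
  have hpk1 : 1 < p ^ k := Nat.one_lt_pow hk0.ne' hp.one_lt
  have hαd : m = d * α + 1 := by omega
  obtain ⟨γ, hγ⟩ : d ∣ p ^ k - 1 := by
    refine ⟨β - α * p ^ k, ?_⟩
    have e : d * β + 1 = p ^ k * (d * α + 1) := by rw [← hαd, hmul]; omega
    rw [Nat.mul_sub]
    have e' : p ^ k * (d * α + 1) = d * (α * p ^ k) + p ^ k := by ring
    omega
  have hγd : p ^ k = d * γ + 1 := by omega
  have hα0 : 1 ≤ α := by
    rcases Nat.eq_zero_or_pos α with h | h
    · subst h; omega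
    · exact h
  have hγ0 : 1 ≤ γ := by
    rcases Nat.eq_zero_or_pos γ with h | h
    · subst h; omega
    · exact h
  -- one of the two parts is odd
  have hor : 2 ≤ α ∨ 2 ≤ γ := by
    by_contra hcon
    push Not at hcon
    obtain ⟨rfl, rfl⟩ : α = 1 ∧ γ = 1 := ⟨by omega, by omega⟩
    obtain ⟨j, hj⟩ := hodd
    have hpd : ¬ p ∣ m := by
      have := P.not_dvd_index
      rwa [← hm] at this
    apply hpd
    have he : 2 ∣ p ^ k := ⟨j + 1, by omega⟩
    have hp2 : p = 2 := ((Nat.prime_dvd_prime_iff_eq Nat.prime_two hp).mp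
      (Nat.prime_two.dvd_of_dvd_pow he)).symm
    exact hp2 ▸ ⟨j + 1, by omega⟩
  rw [← hmul, hαd, hγd]
  rcases hor with h | h
  · calc 2 * d ^ 2 + 3 * d + 1 = (d * 1 + 1) * (d * 2 + 1) := by ring
      _ ≤ _ := by gcongr
  · calc 2 * d ^ 2 + 3 * d + 1 = (d * 2 + 1) * (d * 1 + 1) := by ring
      _ ≤ _ := by gcongr

end H66.Feit
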