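import Cfsg.Agent.H66.ZassSuzukiMain

/-!
The standing hypotheses follow from those of the statements on Zassenhaus groups.
-/

set_option autoImplicit false

namespace H66.ZS

open MulAction H66.R1

theorem exists_ctx_of_ne_bot {G Ω : Type*} [Group G] [Finite G] [MulAction G Ω] [Finite Ω]
    (hZ : Cfsg.IsZassenhausGroup G Ω) {a b : Ω} (hab : a ≠ b) {U : Subgroup G}
    (hUle : U ≤ stabilizer G a) (hUn : ∀ h ∈ stabilizer G a, ∀ u ∈ U, h * u * h⁻¹ ∈ U)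
    (hreg : ∀ c d : Ω, c ≠ a → d ≠ a → ∃! u : U, (u : G) • c = d)
    (hU2 : IsPGroup 2 U) (hU1 : U ≠ ⊥) :
    ∃ v : G, v • a = b ∧ Ctx G Ω a v U := by
  haveI : Fact (Nat.Prime 2) := ⟨Nat.prime_two⟩
  haveI : Nontrivial U := (Subgroup.nontrivial_iff_ne_bot U).mpr hU1
  obtain ⟨⟨s, hsU⟩, hso⟩ :=
    exists_prime_orderOf_dvd_card' 2 (hU2.card_eq_or_dvd.resolve_left Finite.one_lt_card.ne')
  rw [Subgroup.orderOf_mk] at hso
  have hs2 : s * s = 1 := H66.mul_self_of_orderOf_two hso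
  have hs1 : s ≠ 1 := fun h => by rw [h, orderOf_one] at hso; norm_num at hso
  have hfix : ∀ c, c ≠ a → s • c ≠ c := fun c hc h => by
    obtain ⟨z, -, hz⟩ := hreg c c hc hc
    exact hs1 (congrArg Subtype.val ((hz ⟨s, hsU⟩ h).trans (hz 1 (one_smul _ _)).symm))
  obtain ⟨-, htwo, hthree, -, -⟩ := id hZ
  haveI := MulAction.isPretransitive_of_is_two_pretransitive (G := G) (α := Ω)
  obtain ⟨g, hg⟩ := MulAction.exists_smul_eq G a b
  have hv0 : (g * s * g⁻¹) • a ≠ a := fun h => hfix (g⁻¹ • a)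
    (fun h' => hab (by rw [← hg]; exact (eq_inv_smul_iff.mp h'.symm).symm))
    (by rwa [mul_smul, mul_smul, ← eq_inv_smul_iff] at h)
  obtain ⟨x, hx1, hx2⟩ := MulAction.is_two_pretransitive_iff.mp htwo hv0.symm hab
  set v := x * (g * s * g⁻¹) * x⁻¹ with hv
  have hvab : v • a = b := by
    have hxa : x⁻¹ • a = a := by rw [inv_smul_eq_iff, hx1]
    rw [hv, mul_smul, mul_smul x, hxa, hx2]
  have hv1 : v ≠ 1 := fun h => hab (by rw [← hvab, h, one_smul])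
  have hv2 : v * v = 1 := by rw [hv, conj_mul, conj_mul, hs2]; group
  have hva : v • a ≠ a := by rw [hvab]; exact hab.symm
  exact ⟨v, hvab, zass_setup hZ hUle hUn hreg hU2 hv1 hv2 hva,
    fun d hd => zass_inverts hZ hUle hUn hreg hU2 hv1 hv2 hva hd, hthree, hU2,
    twoPt_ne_bot hZ hva⟩

theorem exists_ctx {G Ω : Type*} [Group G] [Finite G] [MulAction G Ω] [Finite Ω]
    (hZ : Cfsg.IsZassenhausGroup G Ω) {a b : Ω} (hab : a ≠ b) {U : Subgroup G}
    (hUle : U ≤ stabilizer G a) (hUn : ∀ h ∈ stabilizer G a, ∀ u ∈ U, h * u * h⁻¹ ∈ U)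
    (hreg : ∀ c d : Ω, c ≠ a → d ≠ a → ∃! u : U, (u : G) • c = d)
    (hU2 : IsPGroup 2 U) (hUna : ∃ u ∈ U, ∃ v ∈ U, u * v ≠ v * u) :
    ∃ v : G, v • a = b ∧ Ctx G Ω a v U :=
  exists_ctx_of_ne_bot hZ hab hUle hUn hreg hU2 fun h => by
    obtain ⟨u, hu, w, hw, hne⟩ := hUna
    rw [h, Subgroup.mem_bot] at hu hw
    exact hne (by rw [hu, hw])

end H66.ZS
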