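import Cfsg.Agent.H66.ZassSuzukiCtx
import Cfsg.Agent.H66.AbelianKernel
import Cfsg.Agent.H2.FPFSubgroup

/-!
Zassenhaus groups whose point stabiliser has an abelian regular normal `2`-subgroup `Q`: the
two-point stabiliser is regular on the remaining points, i.e. `|Q| = d + 1`.
-/

set_option autoImplicit false

namespace H66.ZS

open MulAction H66.R1

variable {G Ω : Type*} [Group G] [MulAction G Ω] [Finite G] {a : Ω} {t : G} {Q : Subgroup G}
  (hC : Ctx G Ω a t Q) (hab : ∀ u ∈ Q, ∀ u' ∈ Q, u * u' = u' * u)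

include hC hab

/-- `|Q| ≥ (d + 1) ^ r` when `2 ^ r` is the exponent of `Q` -/
theorem ab_exponent :
    ∃ r : ℕ, (∀ u ∈ Q, u ^ 2 ^ r = 1) ∧ (Nat.card (twoPt G a t) + 1) ^ r ≤ Nat.card Q ∧
      (r ≤ 1 → Nat.card Q ≤ Nat.card (twoPt G a t) + 1) ∧
      ∃ n, Nat.card (twoPt G a t) + 1 = 2 ^ n := by
  classical
  haveI : Fact (Nat.Prime 2) := ⟨Nat.prime_two⟩
  have hS := hC.setup
  letI : CommGroup Q :=
    { (inferInstance : Group Q) with mul_comm := fun x y => Subtype.ext (hab x x.2 y y.2) }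
  obtain ⟨s, hs⟩ := exists_invol hS
  have hsQ : s ∈ Q := invol_mem_Q hS (mem_stabilizer_iff.mp hs.1) hs.2.2
  have hinvol : ∀ x : Q, x ≠ 1 → x ^ 2 = 1 →
      (x : G) ∈ Cfsg.involutionsIn (stabilizer G a : Set G) := fun x hx1 hx =>
    ⟨hS.le x.2, fun h => hx1 (Subtype.ext h), by
      have := congrArg Subtype.val hx
      simpa [pow_two] using this⟩
  -- the elements of order at most two
  set E := (powMonoidHom 2 : Q →* Q).ker with hE
  have hEcard : Nat.card E = Nat.card (twoPt G a t) + 1 := by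
    let f : Option (twoPt G a t) → E := fun o => o.elim 1 fun d =>
      ⟨⟨(d : G) * s * (d : G)⁻¹, twoPt_conj_Q hS d.2 hsQ⟩, by
        refine MonoidHom.mem_ker.mpr (Subtype.ext ?_)
        show ((⟨(d : G) * s * (d : G)⁻¹, twoPt_conj_Q hS d.2 hsQ⟩ : Q) ^ 2 : Q).1 = 1
        rw [SubmonoidClass.coe_pow, conj_pow, pow_two, hs.2.2]
        group⟩
    have hne : ∀ d : G, d * s * d⁻¹ ≠ 1 := fun d h => hs.2.1 (conj_eq_one_iff.mp h)
    have hf : Function.Bijective f := by
      constructor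
      · rintro (_ | d) (_ | d') h
        · rfl
        · exact absurd (congrArg (fun e : E => ((e : Q) : G)) h).symm (hne d')
        · exact absurd (congrArg (fun e : E => ((e : Q) : G)) h) (hne d)
        · exact congrArg some (Subtype.ext (D_conj_inj hC hs d.2 d'.2
            (congrArg (fun e : E => ((e : Q) : G)) h)))
      · rintro ⟨x, hx⟩
        by_cases hx1 : x = 1
        · exact ⟨none, Subtype.ext hx1.symm⟩
        · obtain ⟨d, hd, hde⟩ := exists_conj_D hC hs (hinvol x hx1 (MonoidHom.mem_ker.mp hx))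
          exact ⟨some ⟨d, hd⟩, Subtype.ext (Subtype.ext hde)⟩
    rw [← Nat.card_congr (Equiv.ofBijective f hf), Finite.card_option]
  obtain ⟨n, hn⟩ := (hC.two.to_subgroup E).exists_card_eq
  rw [hEcard] at hn
  obtain ⟨r, hr⟩ : ∃ r, Monoid.exponent Q = 2 ^ r := by
    obtain ⟨k, hk⟩ := hC.two.exists_card_eq
    obtain ⟨i, -, hi⟩ := (Nat.dvd_prime_pow Nat.prime_two).mp
      (hk ▸ Group.exponent_dvd_nat_card (G := Q))
    exact ⟨i, hi⟩
  have hexp : ∀ x : Q, x ^ 2 ^ r = 1 := fun x => hr ▸ Monoid.pow_exponent_eq_one x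
  refine ⟨r, fun u hu => congrArg Subtype.val (hexp ⟨u, hu⟩), ?_, fun hr1 => ?_, n, hn⟩
  swap
  · rw [← hEcard]
    refine Nat.card_le_card_of_injective
      (fun x : Q => (⟨x, MonoidHom.mem_ker.mpr ?_⟩ : E)) fun x y h => congrArg Subtype.val h
    show x ^ 2 = 1
    interval_cases r
    · have h1 : x = 1 := by simpa using hexp x
      rw [h1, one_pow]
    · simpa using hexp x
  -- every involution is a `2 ^ i`-th power for `i < r`
  let P : ℕ → Subgroup Q := fun i => (powMonoidHom (2 ^ i) : Q →* Q).range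
  have hEP : ∀ i < r, E ≤ P i := by
    intro i hi e he
    obtain ⟨x, hx⟩ : ∃ x : Q, x ^ 2 ^ (r - 1) ≠ 1 := by
      by_contra hcon
      push Not at hcon
      have h1 := Monoid.exponent_dvd_of_forall_pow_eq_one hcon
      rw [hr] at h1
      have := (Nat.pow_dvd_pow_iff_le_right (by norm_num : 1 < 2)).mp h1
      omega
    have h2 : (x ^ 2 ^ (r - 1)) ^ 2 = 1 := by
      rw [← pow_mul, ← pow_succ, Nat.sub_add_cancel (by omega), hexp x]
    by_cases he1 : e = 1
    · rw [he1]; exact one_mem _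
    obtain ⟨d, hd, hde⟩ := exists_conj_D hC (hinvol _ hx h2) (hinvol e he1 (MonoidHom.mem_ker.mp he))
    set x' : Q := ⟨d * x * d⁻¹, twoPt_conj_Q hS hd x.2⟩ with hx'
    refine ⟨x' ^ 2 ^ (r - 1 - i), Subtype.ext ?_⟩
    show (((x' ^ 2 ^ (r - 1 - i)) ^ 2 ^ i : Q) : G) = e
    rw [← pow_mul, ← pow_add, Nat.sub_add_cancel (by omega), SubmonoidClass.coe_pow, hx']
    show (d * (x : G) * d⁻¹) ^ 2 ^ (r - 1) = e
    rw [conj_pow, ← SubmonoidClass.coe_pow]
    exact hde
  have hstep : ∀ i < r, Nat.card E * Nat.card (P (i + 1)) ≤ Nat.card (P i) := by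
    intro i hi
    let φ : P i →* Q := (powMonoidHom 2).comp (P i).subtype
    have hrange : φ.range = P (i + 1) := by
      ext y
      constructor
      · rintro ⟨⟨x, z, rfl⟩, rfl⟩
        refine ⟨z, ?_⟩
        show z ^ 2 ^ (i + 1) = (z ^ 2 ^ i) ^ 2
        rw [← pow_mul, ← pow_succ]
      · rintro ⟨z, rfl⟩
        refine ⟨⟨z ^ 2 ^ i, z, rfl⟩, ?_⟩
        show (z ^ 2 ^ i) ^ 2 = z ^ 2 ^ (i + 1)
        rw [← pow_mul, ← pow_succ]
    rw [← φ.ker.card_mul_index, Subgroup.index_ker, hrange]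
    refine Nat.mul_le_mul_right _ ?_
    exact Nat.card_le_card_of_injective
      (fun e : E => (⟨⟨e, hEP i hi e.2⟩, MonoidHom.mem_ker.mpr (MonoidHom.mem_ker.mp e.2)⟩ : φ.ker))
      fun e e' h => Subtype.ext (congrArg (fun x : φ.ker => ((x : P i) : Q)) h)
  have hpow : ∀ j ≤ r, Nat.card E ^ j ≤ Nat.card (P (r - j)) := by
    intro j
    induction j with
    | zero => exact fun _ => by rw [pow_zero]; exact Nat.card_pos
    | succ j ih =>
      intro hj
      calc Nat.card E ^ (j + 1) = Nat.card E * Nat.card E ^ j := pow_succ' _ _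
        _ ≤ Nat.card E * Nat.card (P (r - j)) := Nat.mul_le_mul_left _ (ih (by omega))
        _ ≤ _ := by
          have h := hstep (r - (j + 1)) (by omega)
          rwa [show r - (j + 1) + 1 = r - j by omega] at h
  rw [← hEcard]
  refine (hpow r le_rfl).trans ?_
  exact Nat.card_le_card_of_injective (P (r - r)).subtype Subtype.val_injective

/-- for abelian `Q` the two-point stabiliser is regular on the other points -/
theorem ab_card : Nat.card Q = Nat.card (twoPt G a t) + 1 := by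
  classical
  haveI : Fact (Nat.Prime 2) := ⟨Nat.prime_two⟩
  haveI : Fact (Nat.Prime 3) := ⟨Nat.prime_three⟩
  have hS := hC.setup
  obtain ⟨e, hexp, hlow, hsmall, n, hn⟩ := ab_exponent hC hab
  set d := Nat.card (twoPt G a t) with hd
  have hd3 : 3 ≤ d := by
    haveI : Nontrivial (twoPt G a t) := (Subgroup.nontrivial_iff_ne_bot _).mpr hC.ne_bot
    have h1 : 1 < d := Finite.one_lt_card
    obtain ⟨k, hk⟩ : Odd d := hS.odd_card
    omega
  obtain ⟨⟨s, r⟩, ⟨hs, hr, he⟩, -⟩ := exists_pair hS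
  simp only [] at hs hr he
  have hrs : r = s := pair_eq hS hab hC.two (fun x hx y hy => D_comm hC hx hy) hC.inv hC.ne_bot
    hs hr he
  by_contra hne
  have hsQ : s ∈ Q := invol_mem_Q hS (mem_stabilizer_iff.mp hs.1) hs.2.2
  have hbig : d + 1 < Nat.card Q := by
    refine lt_of_le_of_ne ?_ (Ne.symm hne)
    rcases Nat.eq_zero_or_pos e with rfl | he0
    · exfalso
      have : s = 1 := by simpa using hexp s hsQ
      exact hs.2.1 this
    · calc d + 1 = (d + 1) ^ 1 := (pow_one _).symm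
        _ ≤ (d + 1) ^ e := Nat.pow_le_pow_right (by omega) he0
        _ ≤ _ := hlow
  have he2 : 2 ≤ e := by
    by_contra h
    have := hsmall (by omega)
    omega
  have h3d : ¬ 3 ∣ d := not_three_dvd hC hs hr he hbig
  have hsi : s⁻¹ = s := inv_eq_self_of_sq hs.2.2
  have hsa : s • a = a := mem_stabilizer_iff.mp hs.1
  set y := s * t with hy
  have hy' : y = (1 : G) * s * 1⁻¹ * t := by rw [hy]; group
  have hy3 : y ^ 3 = 1 := by
    have he' : t * s * t = s * t * s := by rw [he, hrs, hsi]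
    calc y ^ 3 = s * (t * s * t) * (s * t) := by rw [hy, pow_three]; group
      _ = (s * s) * t * (s * s) * t := by rw [he']; group
      _ = 1 := by rw [hs.2.2, one_mul, mul_one, hS.mul_self]
  have hy1 : y ≠ 1 := fun h => ta_ne hS (by
    rw [eq_inv_of_mul_eq_one_left h, t_inv hS] at hsa; exact hsa)
  have h3fix : ∀ g : G, g ^ 3 = 1 → g ≠ 1 → ∀ p : Ω, g • p ≠ p := by
    intro g hg3 hg1 p hp
    obtain ⟨k, hk⟩ := exists_smul hS p a
    have hka : (k * g * k⁻¹) • a = a := by rw [← hk, mul_smul, inv_smul_smul, mul_smul, hp]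
    have ho : orderOf (k * g * k⁻¹) = 3 :=
      orderOf_eq_prime (by rw [conj_pow, hg3]; group) (fun h => hg1 (by simpa using h))
    obtain ⟨w, -, x, hx, hxe⟩ := odd_fix hC hka (by rw [ho]; decide)
    rw [hxe, show w * x * w⁻¹ = MulAut.conj w x from rfl, MulEquiv.orderOf_eq] at ho
    have := Subgroup.orderOf_dvd_natCard _ hx
    rw [ho] at this
    exact h3d this
  have hfp : ∀ p : Ω, ((1 : G) * s * 1⁻¹ * t) • p ≠ p := by rw [← hy']; exact h3fix y hy3 hy1
  obtain ⟨hdvd, hcent, -, hcanon⟩ := torus hC hs hr he hn (one_mem _) hfp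
  obtain ⟨hodd, hinv, hTab⟩ := canon_centralizer hC hs (one_mem (twoPt G a t))
  have h1s : (1 : G) * s * 1⁻¹ = s := by group
  simp only [h1s, ← hy] at hdvd hcent hcanon hodd hinv hTab
  set T := Subgroup.centralizer {y} with hT
  -- `G = Q D C(y)`
  have hts : t * s = y⁻¹ := by rw [hy, mul_inv_rev, hsi, t_inv hS]
  have hcover : ∀ g : G, ∃ p : Q × twoPt G a t × T, g = p.1 * p.2.1 * p.2.2 := by
    intro g
    have hg3 : (g * y⁻¹ * g⁻¹) ^ 3 = 1 := by rw [conj_pow, inv_pow, hy3]; group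
    have hg1 : g * y⁻¹ * g⁻¹ ≠ 1 := fun h => hy1 (by simpa using h)
    obtain ⟨u, hu, x, hx, h⟩ :=
      order_three_moving hC hs hr he hrs hg3 (h3fix _ hg3 hg1 a)
    refine ⟨⟨⟨u, hu⟩, ⟨x, hx⟩, ⟨(u * x)⁻¹ * g, ?_⟩⟩, ?_⟩
    · rw [Subgroup.mem_centralizer_singleton_iff]
      rw [hts] at h
      have h2 : g * y * g⁻¹ = u * x * y * (u * x)⁻¹ := by
        simpa [mul_assoc] using congrArg (fun z => z⁻¹) h
      calc (u * x)⁻¹ * g * y = (u * x)⁻¹ * (g * y * g⁻¹) * g := by group
        _ = y * ((u * x)⁻¹ * g) := by rw [h2]; group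
    · show g = u * x * ((u * x)⁻¹ * g)
      group
  choose P hP using hcover
  have hPinj : Function.Injective P := fun g g' h => by rw [hP g, hP g', h]
  have hle := Nat.card_le_card_of_injective P hPinj
  rw [Nat.card_prod, Nat.card_prod, card_group hS, mul_assoc] at hle
  have hle' := Nat.le_of_mul_le_mul_left (Nat.le_of_mul_le_mul_left hle Nat.card_pos) Nat.card_pos
  have hTcard : Nat.card T = Nat.card Q + 1 :=
    le_antisymm (Nat.le_of_dvd (by omega) hdvd) hle'
  -- the subgroup of `Q` normalising `T` is cyclic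
  set B := Q ⊓ Subgroup.normalizer (T : Set G) with hB
  have hTo := odd_orderOf_of_mem_odd_card hodd
  letI : CommGroup T :=
    { (inferInstance : Group T) with mul_comm := fun x z => Subtype.ext (hTab x x.2 z z.2) }
  have hBconj : ∀ b ∈ B, ∀ z ∈ T, b * z * b⁻¹ ∈ T := fun b hb z hz =>
    (Subgroup.mem_normalizer_iff.mp (Subgroup.mem_inf.mp hb).2 z).mp hz
  letI : MulDistribMulAction B T :=
    { smul := fun b z => ⟨(b : G) * z * (b : G)⁻¹, hBconj b b.2 z z.2⟩
      one_smul := fun z => Subtype.ext (show (1 : G) * z * 1⁻¹ = z by group)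
      mul_smul := fun b c z => Subtype.ext
        (show (b : G) * c * z * ((b : G) * c)⁻¹ = b * (c * z * (c : G)⁻¹) * (b : G)⁻¹ by group)
      smul_mul := fun b z w => Subtype.ext
        (show (b : G) * (z * w) * (b : G)⁻¹ = (b * z * (b : G)⁻¹) * (b * w * (b : G)⁻¹) by group)
      smul_one := fun b => Subtype.ext (show (b : G) * 1 * (b : G)⁻¹ = 1 by group) }
  haveI : Nontrivial T := Finite.one_lt_card_iff_nontrivial.mp (by rw [hTcard]; omega)
  have hBcyc : IsCyclic B := by
    refine H2.isCyclic_of_fpf_comm (M := T) (fun b hb z hz => ?_)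
      fun b c => Subtype.ext (hab b (Subgroup.mem_inf.mp b.2).1 c (Subgroup.mem_inf.mp c.2).1)
    by_contra hz1
    have hz' : (b : G) * z * (b : G)⁻¹ = z := congrArg Subtype.val hz
    have hbT : (b : G) ∈ T := by
      rw [← hcent z z.2 (fun h => hz1 (Subtype.ext h)), Subgroup.mem_centralizer_singleton_iff]
      exact mul_inv_eq_iff_eq_mul.mp hz'
    obtain ⟨k, hk⟩ := hC.two ⟨b, (Subgroup.mem_inf.mp b.2).1⟩
    obtain ⟨i, -, hi⟩ := (Nat.dvd_prime_pow Nat.prime_two).mp
      (orderOf_dvd_of_pow_eq_one (congrArg Subtype.val hk : (b : G) ^ 2 ^ k = 1))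
    have ho := hTo b hbT
    rcases i with _ | i
    · exact hb (Subtype.ext (orderOf_eq_one_iff.mp (by simpa using hi)))
    · exact absurd (hi ▸ ⟨2 ^ i, by ring⟩ : Even (orderOf (b : G)))
        (Nat.not_even_iff_odd.mpr ho)
  have hBcard : Nat.card B ≤ 2 ^ e := by
    obtain ⟨g, hg⟩ := hBcyc.exists_ofOrder_eq_natCard
    rw [← hg]
    exact Nat.le_of_dvd (by positivity) (orderOf_dvd_of_pow_eq_one
      (Subtype.ext (by rw [SubmonoidClass.coe_pow]; exact hexp g (Subgroup.mem_inf.mp g.2).1)))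
  -- two elements of `T` with the same parameter are conjugate under `B`
  let Z := {z : T // z ≠ 1}
  have hpar : ∀ z : Z, ∃ x : twoPt G a t, ∃ g : G,
      g * ((z.1 : T) : G) * g⁻¹ = (x : G) * s * (x : G)⁻¹ * t := by
    intro z
    obtain ⟨g, x, hx, h⟩ := hcanon z.1 z.1.2 (fun h => z.2 (Subtype.ext h))
    exact ⟨⟨x, hx⟩, g, h⟩
  choose X g₀ hX using hpar
  have hfib : ∀ z z' : Z, X z = X z' → ∃ b : B, ((z'.1 : T) : G) = b * (z.1 : T) * (b : G)⁻¹ := by
    intro z z' hxx
    set h := (g₀ z')⁻¹ * g₀ z with hh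
    have hhz : h * (z.1 : T) * h⁻¹ = ((z'.1 : T) : G) := by
      calc h * (z.1 : T) * h⁻¹ = (g₀ z')⁻¹ * (g₀ z * (z.1 : T) * (g₀ z)⁻¹) * g₀ z' := by
            rw [hh]; group
        _ = _ := by rw [hX, hxx, ← hX z']; group
    have hz : ((z.1 : T) : G) ∈ T := z.1.2
    have hz1 : ((z.1 : T) : G) ≠ 1 := fun h => z.2 (Subtype.ext h)
    generalize ((z.1 : T) : G) = w₀ at hhz hz hz1
    set u := h⁻¹ * s * h with hu
    have huu : u * u = 1 := by
      calc u * u = h⁻¹ * (s * s) * h := by rw [hu]; group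
        _ = 1 := by rw [hs.2.2]; group
    have huz : u * w₀ * u = w₀⁻¹ := by
      have e := hinv _ z'.1.2
      rw [← hhz] at e
      calc u * w₀ * u = h⁻¹ * (s * (h * w₀ * h⁻¹) * s) * h := by rw [hu]; group
        _ = w₀⁻¹ := by rw [e]; group
    have hm : u * s ∈ T := by
      rw [← hcent w₀ hz hz1, Subgroup.mem_centralizer_singleton_iff]
      have e1 : s * w₀ = w₀⁻¹ * s := by
        rw [← hinv w₀ hz]
        calc s * w₀ = s * w₀ * (s * s) := by rw [hs.2.2, mul_one]
          _ = _ := by group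
      have e2 : u * w₀⁻¹ = w₀ * u := by
        rw [← huz]
        calc u * (u * w₀ * u) = (u * u) * w₀ * u := by group
          _ = w₀ * u := by rw [huu, one_mul]
      calc u * s * w₀ = u * (s * w₀) := mul_assoc _ _ _
        _ = u * w₀⁻¹ * s := by rw [e1]; group
        _ = w₀ * (u * s) := by rw [e2]; group
    obtain ⟨w, hw, hw2⟩ := exists_sqrt_of_odd (hTo _ hm)
    have hwT : w ∈ T := (Subgroup.zpowers_le.mpr hm) hw
    have hwu : w * s * w⁻¹ = u := by
      have e1 : s * w⁻¹ = w * s := by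
        rw [← hinv w hwT]
        calc s * (s * w * s) = (s * s) * w * s := by group
          _ = w * s := by rw [hs.2.2, one_mul]
      calc w * s * w⁻¹ = w * (s * w⁻¹) := by group
        _ = (w * w) * s := by rw [e1]; group
        _ = u * (s * s) := by rw [hw2]; group
        _ = u := by rw [hs.2.2, mul_one]
    set k := h * w with hk
    have hks : Commute k s := by
      refine mul_inv_eq_iff_eq_mul.mp ?_
      calc k * s * k⁻¹ = h * (w * s * w⁻¹) * h⁻¹ := by rw [hk]; group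
        _ = s := by rw [hwu, hu]; group
    have hkz : k * w₀ * k⁻¹ = ((z'.1 : T) : G) := by
      calc k * w₀ * k⁻¹ = h * ((w * w₀) * w⁻¹) * h⁻¹ := by rw [hk]; group
        _ = h * w₀ * h⁻¹ := by rw [hTab w hwT w₀ hz]; group
        _ = _ := hhz
    have hz'1 : ((z'.1 : T) : G) ≠ 1 := fun h => z'.2 (Subtype.ext h)
    refine ⟨⟨k, Subgroup.mem_inf.mpr ⟨commute_invol hC hs hks, ?_⟩⟩, hkz.symm⟩
    rw [Subgroup.mem_normalizer_iff]
    intro v
    constructor
    · intro hv
      rw [← hcent _ z'.1.2 hz'1, Subgroup.mem_centralizer_singleton_iff, ← hkz]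
      calc k * v * k⁻¹ * (k * w₀ * k⁻¹) = k * (v * w₀) * k⁻¹ := by group
        _ = k * (w₀ * v) * k⁻¹ := by rw [hTab v hv w₀ hz]
        _ = _ := by group
    · intro hv
      rw [← hcent w₀ hz hz1, Subgroup.mem_centralizer_singleton_iff]
      have := hTab _ hv _ (hkz ▸ z'.1.2 : k * w₀ * k⁻¹ ∈ T)
      calc v * w₀ = k⁻¹ * ((k * v * k⁻¹) * (k * w₀ * k⁻¹)) * k := by group
        _ = k⁻¹ * ((k * w₀ * k⁻¹) * (k * v * k⁻¹)) * k := by rw [this]
        _ = _ := by group
  have hrep : ∀ z : Z, ∃ b : B,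
      ((z.1 : T) : G) = b * ((Classical.epsilon (α := Z) (h := ⟨z⟩) fun z' => X z' = X z).1 : T)
        * (b : G)⁻¹ := fun z => by
    have h := Classical.epsilon_spec (p := fun z' : Z => X z' = X z) ⟨z, rfl⟩
    exact hfib _ z h
  choose β hβ using hrep
  have hinj : Function.Injective fun z : Z => (X z, β z) := by
    intro z z' h
    simp only [Prod.mk.injEq] at h
    refine Subtype.ext (Subtype.ext ?_)
    have e1 := hβ z
    have e2 := hβ z'
    simp only [h.1, h.2] at e1
    exact e1.trans e2.symm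
  have hcount := Nat.card_le_card_of_injective _ hinj
  rw [Nat.card_prod] at hcount
  have hZ : Nat.card Z + 1 = Nat.card T := by
    rw [← Finite.card_option]
    exact Nat.card_congr (Equiv.optionSubtypeNe 1)
  -- numerics
  have h2e : d * 2 ^ e < (d + 1) ^ e := by
    obtain ⟨i, rfl⟩ : ∃ i, e = i + 1 := ⟨e - 1, by omega⟩
    have h1 : 2 ^ (i + 1) ≤ (d + 1) ^ i := by
      calc 2 ^ (i + 1) ≤ 2 ^ (i + i) := Nat.pow_le_pow_right two_pos (by omega)
        _ = 4 ^ i := by rw [← two_mul, pow_mul]; norm_num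
        _ ≤ _ := Nat.pow_le_pow_left (by omega) i
    calc d * 2 ^ (i + 1) ≤ d * (d + 1) ^ i := Nat.mul_le_mul_left _ h1
      _ < (d + 1) * (d + 1) ^ i := by
          refine Nat.mul_lt_mul_of_pos_right (by omega) ?_
          positivity
      _ = _ := (pow_succ' _ _).symm
  have := Nat.mul_le_mul_left d hBcard
  linarith

end H66.ZS
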