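import Cfsg.Agent.H66.ZassSuzukiReal

/-!
Zassenhaus groups with non-abelian `Q`: the degree is `q ^ 2 + 1` with `q` an odd power of two.
-/

set_option autoImplicit false

namespace H66.ZS

open MulAction H66.R1

variable {G Ω : Type*} [Group G] [MulAction G Ω] [Finite G] {a : Ω} {t : G} {Q : Subgroup G}
  (hC : Ctx G Ω a t Q) {s r : G} (hs : s ∈ Cfsg.involutionsIn (stabilizer G a : Set G))
  (hr : r ∈ Q) (he : t * s * t = r⁻¹ * t * r)

include hC hs hr he

/-- if `r = s`, only `x = s` satisfies `t x t = x⁻¹ t x⁻¹` -/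
theorem braid_eq (hrs : r = s) {x : G} (hx : x ∈ Q) (hB : t * x * t = x⁻¹ * t * x⁻¹) : x = s := by
  have hS := hC.setup
  have hsi : s⁻¹ = s := inv_eq_self_of_sq hs.2.2
  have hsQ : s ∈ Q := invol_mem_Q hS (mem_stabilizer_iff.mp hs.1) hs.2.2
  have hcen : s * x = x * s := central hC hs hx
  by_contra hne
  set y := x * s with hy
  have hyQ : y ∈ Q := mul_mem hx hsQ
  have hyi : y⁻¹ = x⁻¹ * s := by
    rw [hy, mul_inv_rev, hsi]
    exact (Commute.inv_right (hcen : Commute s x)).eq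
  have hy1 : y ≠ 1 := fun h => hne ((eq_inv_of_mul_eq_one_left h).trans hsi)
  have hmove : (t * y * t) • a ≠ a := fun h => hy1 (eq_one_of_fix hS hyQ (ta_ne hS) (by
    have := congrArg (t • ·) h
    simpa [mul_smul, t_smul_smul hS] using this))
  obtain ⟨⟨g', f⟩, ⟨hg', hf, hgf⟩, -⟩ := canonical hS hmove
  obtain ⟨g, hg, h, hh, hgd⟩ := exists_decomp hS (mem_stabilizer_iff.mp hg')
  simp only [] at hf hgf hgd
  subst hgd
  have he' : t * s * t = s * t * s := by rw [he, hrs, hsi]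
  have h1 : t * y * t = x⁻¹ * (t * y * t)⁻¹ * s := by
    have e : (t * y * t)⁻¹ = t * y⁻¹ * t := by
      rw [mul_inv_rev, mul_inv_rev, t_inv hS, mul_assoc]
    calc t * y * t = t * x * (t * t) * s * t := by rw [hS.mul_self, hy]; group
      _ = (t * x * t) * (t * s * t) := by group
      _ = x⁻¹ * t * (x⁻¹ * s) * t * s := by rw [hB, he']; group
      _ = x⁻¹ * (t * y⁻¹ * t) * s := by rw [hyi]; group
      _ = _ := by rw [e]
  rw [hgf] at h1
  have h2 : x⁻¹ * (g * h * t * f)⁻¹ * s = (x⁻¹ * f⁻¹) * h * t * (g⁻¹ * s) := by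
    calc x⁻¹ * (g * h * t * f)⁻¹ * s = x⁻¹ * f⁻¹ * (t * h⁻¹) * (g⁻¹ * s) := by
          rw [mul_inv_rev, mul_inv_rev, mul_inv_rev, t_inv hS]; group
      _ = _ := by rw [← D_swap hC hh]; group
  obtain ⟨e1, -, e3⟩ := canonical_unique hS hg hh hf (mul_mem (inv_mem hx) (inv_mem hf)) hh
    (mul_mem (inv_mem hg) hsQ) (h1.trans h2)
  rw [e3, mul_inv_rev, inv_inv, hsi, ← mul_assoc, right_eq_mul, inv_mul_eq_one] at e1
  exact hne e1

/-- if `r = s`, the elements of order three moving `a` form one orbit of `G_a` -/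
theorem order_three_moving (hrs : r = s) {g : G} (hg3 : g ^ 3 = 1) (hga : g • a ≠ a) :
    ∃ u ∈ Q, ∃ e ∈ twoPt G a t, g = u * e * (t * s) * (u * e)⁻¹ := by
  have hS := hC.setup
  obtain ⟨⟨u, hu⟩, hu1, -⟩ := Q_regular hS (ta_ne hS) hga
  simp only [] at hu1
  set g' := u⁻¹ * g * u with hg'
  have h1 : (t * g') • a = a := by
    rw [hg', mul_smul, mul_smul, mul_smul, fix_a hS hu, ← hu1, inv_smul_smul, t_smul_smul hS]
  obtain ⟨q, hq, d, hd, hqd⟩ := exists_decomp hS h1
  obtain ⟨e, he', he2⟩ := exists_sqrt_of_odd (odd_D hC (inv_mem hd))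
  have heD : e ∈ twoPt G a t := (Subgroup.zpowers_le.mpr (inv_mem hd)) he'
  set y := e⁻¹ * (d⁻¹ * q * d) * e with hy
  have hyQ : y ∈ Q := twoPt_conj_Q' hS heD (twoPt_conj_Q' hS hd hq)
  have hge : g' = e * (t * y) * e⁻¹ := by
    calc g' = t * (t * g') := by rw [← mul_assoc, hS.mul_self, one_mul]
      _ = t * (q * d) := by rw [hqd]
      _ = t * (e * e)⁻¹ * (d⁻¹ * q * d) := by rw [he2]; group
      _ = (t * e⁻¹) * (e⁻¹ * (d⁻¹ * q * d) * e) * e⁻¹ := by group
      _ = (e * t) * y * e⁻¹ := by rw [← D_swap hC heD]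
      _ = _ := by group
  have hty : (t * y) ^ 3 = 1 := by
    have e1 : t * y = (u * e)⁻¹ * g * (u * e) := by
      calc t * y = e⁻¹ * g' * e := by rw [hge]; group
        _ = _ := by rw [hg']; group
    rw [e1, show (u * e)⁻¹ * g * (u * e) = (u * e)⁻¹ * g * ((u * e)⁻¹)⁻¹ by rw [inv_inv],
      conj_pow, hg3]
    group
  have hB : t * y * t = y⁻¹ * t * y⁻¹ := by
    calc t * y * t = (t * y) ^ 3 * y⁻¹ * t⁻¹ * y⁻¹ := by rw [pow_three]; group
      _ = _ := by rw [hty, t_inv hS, one_mul]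
  refine ⟨u, hu, e, heD, ?_⟩
  rw [← braid_eq hC hs hr he hrs hyQ hB]
  calc g = u * g' * u⁻¹ := by rw [hg']; group
    _ = _ := by rw [hge]; group

theorem not_three_dvd (hN : Nat.card (twoPt G a t) + 1 < Nat.card Q) :
    ¬ 3 ∣ Nat.card (twoPt G a t) := by
  classical
  intro h3
  haveI : Fact (Nat.Prime 3) := ⟨Nat.prime_three⟩
  obtain ⟨⟨d, hd⟩, hdo⟩ := exists_prime_orderOf_dvd_card' 3 h3
  rw [Subgroup.orderOf_mk] at hdo
  have hd3 : d ^ 3 = 1 := by rw [← hdo]; exact pow_orderOf_eq_one d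
  have hd1 : d ≠ 1 := fun h => by rw [h, orderOf_one] at hdo; norm_num at hdo
  have hS := hC.setup
  obtain ⟨hd_a, hd_b⟩ := mem_twoPt.mp hd
  have htd : (t * d) • a = t • a := by rw [mul_smul, hd_a]
  have hrs : r = s := by
    obtain ⟨f, hf⟩ := invol_fix hS hS.mul_self
    have hfa : f ≠ a := fun e => ta_ne hS (e ▸ hf)
    have hfb : f ≠ t • a := fun e => by
      rw [e, t_smul_smul hS] at hf; exact ta_ne hS hf.symm
    have htd1 : t * d ≠ 1 := fun e => ta_ne hS (by rw [← htd, e, one_smul])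
    have htd2 : (t * d) * (t * d) = 1 := by
      calc t * d * (t * d) = (t * d * t) * d := by group
        _ = 1 := by rw [hC.inv d hd, inv_mul_cancel]
    have htdf : (t * d) • f ≠ f := fun e => hd1 (hC.three d a (t • a) f (ta_ne hS).symm
      (Ne.symm hfb) (Ne.symm hfa) hd_a hd_b (by
        have := congrArg (t • ·) e
        simpa [mul_smul, t_smul_smul hS, hf] using this))
    obtain ⟨g, x, hx, hgx⟩ := exists_canon hC hs hS.ne_one hS.mul_self htd1 htd2 hf htdf
    rw [← mul_assoc t t d, hS.mul_self, one_mul] at hgx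
    exact (cube_eq_one hC hs hr he hx (by rw [← hgx, conj_pow, hd3]; group)).2
  have hmv : ∀ p : Q × {w : Q // w ≠ 1}, ∃ h : G, h • a = (p.1 : G) • (t • a) ∧
      h • (t • a) = ((p.1 : G) * (p.2.1 : G)) • (t • a) := fun p => move_two hS (ta_ne hS).symm
    fun h => p.2.2 (Subtype.ext (eq_one_of_mem_inf hS p.2.1.2 (by
      rw [mul_smul] at h
      exact (MulAction.injective _ h).symm)))
  choose H hH1 hH2 using hmv
  have hfix : ∀ p c, (H p * d * (H p)⁻¹) • c = c → c = H p • a ∨ c = H p • (t • a) := by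
    intro p c hc
    rw [mul_smul, mul_smul, ← eq_inv_smul_iff] at hc
    by_contra hne
    push Not at hne
    exact hd1 (hC.three d a (t • a) ((H p)⁻¹ • c) (ta_ne hS).symm
      (fun h => hne.2 (by rw [h, smul_inv_smul])) (fun h => hne.1 (by rw [h, smul_inv_smul]))
      hd_a hd_b hc)
  have hmove : ∀ p, (H p * d * (H p)⁻¹) • a ≠ a := fun p h => by
    rcases hfix p a h with h | h
    · exact Q_smul_ne hS p.1.2 (ta_ne hS) ((hH1 p).symm.trans h.symm)
    · exact Q_smul_ne hS (mul_mem p.1.2 p.2.1.2) (ta_ne hS) ((hH2 p).symm.trans h.symm)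
  have hrep : ∀ p, ∃ ue : Q × twoPt G a t, H p * d * (H p)⁻¹
      = (ue.1 : G) * (ue.2 : G) * (t * s) * ((ue.1 : G) * (ue.2 : G))⁻¹ := fun p => by
    obtain ⟨u, hu, e, he', h⟩ := order_three_moving hC hs hr he hrs
      (g := H p * d * (H p)⁻¹) (by rw [conj_pow, hd3]; group) (hmove p)
    exact ⟨(⟨u, hu⟩, ⟨e, he'⟩), h⟩
  choose R hR using hrep
  have hinj : Function.Injective R := by
    intro p p' h
    have hg : H p * d * (H p)⁻¹ = H p' * d * (H p')⁻¹ := by rw [hR, hR, h]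
    have hfa : (H p * d * (H p)⁻¹) • (H p • a) = H p • a := by
      rw [mul_smul, inv_smul_smul, mul_smul, hd_a]
    have hfb : (H p * d * (H p)⁻¹) • (H p • (t • a)) = H p • (t • a) := by
      rw [mul_smul, inv_smul_smul, mul_smul, hd_b]
    rw [hg] at hfa hfb
    have hne : H p • a ≠ H p • (t • a) := fun h => ta_ne hS (MulAction.injective _ h).symm
    have hkey : H p • a = H p' • a ∧ H p • (t • a) = H p' • (t • a) := by
      rcases hfix p' _ hfa with h1 | h1 <;> rcases hfix p' _ hfb with h2 | h2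
      · exact absurd (h1.trans h2.symm) hne
      · exact ⟨h1, h2⟩
      · exfalso
        set k := (H p')⁻¹ * H p with hk
        have hk1 : k • a = t • a := by rw [hk, mul_smul, h1, inv_smul_smul]
        have hk2 : k • (t • a) = a := by rw [hk, mul_smul, h2, inv_smul_smul]
        have hkd : k * d * k⁻¹ = d := by
          calc k * d * k⁻¹ = (H p')⁻¹ * (H p * d * (H p)⁻¹) * H p' := by rw [hk]; group
            _ = d := by rw [hg]; group
        have hm : t * k ∈ twoPt G a t := by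
          rw [mem_twoPt, mul_smul t k a, mul_smul t k (t • a), hk1, hk2]
          exact ⟨t_smul_smul hS a, rfl⟩
        have h4 : t * d * t = d := by
          calc t * d * t = t * (k * d * k⁻¹) * t := by rw [hkd]
            _ = (t * k) * d * (t * k)⁻¹ := by rw [mul_inv_rev t k, t_inv hS]; group
            _ = d := by rw [D_comm hC hm hd]; group
        rw [hC.inv d hd] at h4
        exact hd1 (eq_one_of_sq_of_odd (odd_D hC hd) (by nth_rw 1 [← h4]; exact inv_mul_cancel d))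
      · exact absurd (h1.trans h2.symm) hne
    obtain ⟨h1, h2⟩ := hkey
    rw [hH1, hH1] at h1
    rw [hH2, hH2] at h2
    obtain ⟨z, -, hz⟩ := Q_regular hS (ta_ne hS) (Q_smul_ne hS p'.1.2 (ta_ne hS))
    have hp1 : p.1 = p'.1 := (hz p.1 h1).trans (hz p'.1 rfl).symm
    rw [hp1, mul_smul, mul_smul] at h2
    obtain ⟨z, -, hz⟩ := Q_regular hS (ta_ne hS) (Q_smul_ne hS p'.2.1.2 (ta_ne hS))
    exact Prod.ext hp1 (Subtype.ext
      ((hz p.2.1 (MulAction.injective _ h2)).trans (hz p'.2.1 rfl).symm))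
  have hcard := Nat.card_le_card_of_injective R hinj
  rw [Nat.card_prod, Nat.card_prod] at hcard
  have h4 := Nat.le_of_mul_le_mul_left hcard Nat.card_pos
  have h5 : Nat.card {w : Q // w ≠ 1} + 1 = Nat.card Q := by
    rw [← Finite.card_option]
    exact Nat.card_congr (Equiv.optionSubtypeNe 1)
  omega

variable {n : ℕ} (hn : Nat.card (twoPt G a t) + 1 = 2 ^ n) (hodd : Odd n)
  (hcube : Nat.card Q = (2 ^ n) ^ 3) (hna : ∃ u ∈ Q, ∃ v ∈ Q, u * v ≠ v * u)

omit hC hs hr he in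
theorem pow_mod_three (hodd : Odd n) : 2 ^ n % 3 = 2 := by
  obtain ⟨k, rfl⟩ := hodd
  rw [pow_add, pow_mul, Nat.mul_mod, Nat.pow_mod]
  norm_num

include hn hodd hcube hna

theorem torus_exponent {x : G} (hx : x ∈ twoPt G a t)
    (hfp : ∀ p : Ω, (x * s * x⁻¹ * t) • p ≠ p) {z : G}
    (hz : z ∈ Subgroup.centralizer {x * s * x⁻¹ * t}) : z ^ (2 ^ n + 1) = 1 := by
  obtain ⟨hdvd, -, hpow', -⟩ := torus hC hs hr he hn hx hfp
  have hpow := hpow' (Q_structure hC hna).2.2.2.2.1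
  rw [hcube] at hdvd
  have h1 : z ^ ((2 ^ n) ^ 3 + 1) = 1 := orderOf_dvd_iff_pow_eq_one.mp
    ((Subgroup.orderOf_dvd_natCard _ hz).trans hdvd)
  have h2 : z ^ (((2 ^ n) ^ 3 + 1) * 2 ^ n) = 1 := by rw [pow_mul, h1, one_pow]
  rw [show ((2 ^ n) ^ 3 + 1) * 2 ^ n = (2 ^ n) ^ 4 + 2 ^ n by ring, pow_add, hpow z hz] at h2
  rwa [pow_succ']

/-- in the cubic case `r = s` is impossible -/
theorem cube_ne_pair (hn1 : 1 < n) : r ≠ s := by
  intro hrs
  haveI : Fact (Nat.Prime 3) := ⟨Nat.prime_three⟩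
  have hS := hC.setup
  have hsi : s⁻¹ = s := inv_eq_self_of_sq hs.2.2
  have hsa : s • a = a := mem_stabilizer_iff.mp hs.1
  set y := s * t with hy
  have hy' : y = (1 : G) * s * 1⁻¹ * t := by rw [hy]; group
  have hy3 : y ^ 3 = 1 := by
    have he' : t * s * t = s * t * s := by rw [he, hrs, hsi]
    calc y ^ 3 = s * (t * s * t) * (s * t) := by rw [hy, pow_three]; group
      _ = (s * s) * t * (s * s) * t := by rw [he']; group
      _ = 1 := by rw [hs.2.2, one_mul, mul_one, hS.mul_self]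
  have hy1 : y ≠ 1 := fun h => ta_ne hS (by
    rw [eq_inv_of_mul_eq_one_left h, t_inv hS] at hsa; exact hsa)
  have hq3 := pow_mod_three hodd
  have h3fix : ∀ g : G, g ^ 3 = 1 → g ≠ 1 → ∀ p : Ω, g • p ≠ p := by
    intro g hg3 hg1 p hp
    obtain ⟨k, hk⟩ := exists_smul hS p a
    have hka : (k * g * k⁻¹) • a = a := by rw [← hk, mul_smul, inv_smul_smul, mul_smul, hp]
    have ho : orderOf (k * g * k⁻¹) = 3 :=
      orderOf_eq_prime (by rw [conj_pow, hg3]; group) (fun h => hg1 (by simpa using h))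
    obtain ⟨w, -, d, hd, hde⟩ := odd_fix hC hka (by rw [ho]; decide)
    rw [hde, show w * d * w⁻¹ = MulAut.conj w d from rfl, MulEquiv.orderOf_eq] at ho
    have := Subgroup.orderOf_dvd_natCard _ hd
    rw [ho] at this
    omega
  have hfp : ∀ p : Ω, ((1 : G) * s * 1⁻¹ * t) • p ≠ p := by rw [← hy']; exact h3fix y hy3 hy1
  obtain ⟨hdvd, -⟩ := torus hC hs hr he hn (one_mem _) hfp
  have hexp := fun z => torus_exponent hC hs hr he hn hodd hcube hna (one_mem _) hfp (z := z)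
  rw [← hy'] at hdvd hexp
  -- `G = Q D C(y)`
  have hts : t * s = y⁻¹ := by rw [hy, mul_inv_rev, hsi, t_inv hS]
  have hcover : ∀ g : G, ∃ p : Q × twoPt G a t × Subgroup.centralizer {y},
      g = p.1 * p.2.1 * p.2.2 := by
    intro g
    have hg3 : (g * y⁻¹ * g⁻¹) ^ 3 = 1 := by rw [conj_pow, inv_pow, hy3]; group
    have hg1 : g * y⁻¹ * g⁻¹ ≠ 1 := fun h => hy1 (by simpa using h)
    obtain ⟨u, hu, e, he', h⟩ :=
      order_three_moving hC hs hr he hrs hg3 (h3fix _ hg3 hg1 a)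
    refine ⟨⟨⟨u, hu⟩, ⟨e, he'⟩, ⟨(u * e)⁻¹ * g, ?_⟩⟩, ?_⟩
    · rw [Subgroup.mem_centralizer_singleton_iff]
      rw [hts] at h
      have h2 : g * y * g⁻¹ = u * e * y * (u * e)⁻¹ := by
        simpa [mul_assoc] using congrArg (fun x => x⁻¹) h
      calc (u * e)⁻¹ * g * y = (u * e)⁻¹ * (g * y * g⁻¹) * g := by group
        _ = y * ((u * e)⁻¹ * g) := by rw [h2]; group
    · show g = u * e * ((u * e)⁻¹ * g)
      group
  choose P hP using hcover
  have hPinj : Function.Injective P := fun g g' h => by rw [hP g, hP g', h]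
  have hle := Nat.card_le_card_of_injective P hPinj
  rw [Nat.card_prod, Nat.card_prod, card_group hS, mul_assoc] at hle
  have hle' := Nat.le_of_mul_le_mul_left (Nat.le_of_mul_le_mul_left hle Nat.card_pos) Nat.card_pos
  have hT : Nat.card (Subgroup.centralizer {y}) = (2 ^ n) ^ 3 + 1 := by
    rw [← hcube]
    exact le_antisymm (Nat.le_of_dvd (by omega) hdvd) hle'
  -- a prime of `q ^ 3 + 1` not dividing `q + 1`
  set q := 2 ^ n with hq
  have hq4 : 4 ≤ q := by
    calc 4 = 2 ^ 2 := rfl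
      _ ≤ q := Nat.pow_le_pow_right two_pos hn1
  obtain ⟨k, hk⟩ : ∃ k, q = 3 * k + 2 := ⟨q / 3, by omega⟩
  set m := 3 * k * k + 3 * k + 1 with hm
  have hm1 : m ≠ 1 := by rw [hm]; omega
  obtain ⟨p, hp, hpm⟩ := Nat.exists_prime_and_dvd hm1
  haveI : Fact p.Prime := ⟨hp⟩
  have hp3 : p ≠ 3 := by
    rintro rfl
    have h1 : 3 ∣ 3 * k * k + 3 * k := ⟨k * k + k, by ring⟩
    have := (Nat.dvd_add_right h1).mp (hm ▸ hpm)
    omega
  have hfac : q ^ 3 + 1 = (q + 1) * (3 * m) := by rw [hk, hm]; ring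
  obtain ⟨z, hz⟩ := exists_prime_orderOf_dvd_card' (G := Subgroup.centralizer {y}) p
    (by rw [hT, hfac]; exact (hpm.mul_left 3).mul_left _)
  rw [← Subgroup.orderOf_coe] at hz
  have h1 : p ∣ q + 1 := hz ▸ orderOf_dvd_of_pow_eq_one (hexp _ z.2)
  have h2 : p ∣ 3 := by
    have e : (q + 1) * (k) + 1 = m := by rw [hk, hm]; ring
    have h3 : p ∣ 1 := (Nat.dvd_add_right (h1.mul_right k)).mp (e ▸ hpm)
    exact absurd (Nat.dvd_one.mp h3) hp.one_lt.ne'
  exact hp3 ((Nat.prime_dvd_prime_iff_eq hp Nat.prime_three).mp h2)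

omit hC hs hr he hn hodd hcube hna in
theorem sum_pred_le_prod (E : Finset ℕ) (hE : ∀ e ∈ E, 1 ≤ e) :
    (∑ e ∈ E, (e - 1)) + 1 ≤ ∏ e ∈ E, e := by
  classical
  induction E using Finset.induction_on with
  | empty => simp
  | insert x E hx ih =>
    rw [Finset.sum_insert hx, Finset.prod_insert hx]
    have h1 := hE x (Finset.mem_insert_self _ _)
    have h2 := ih fun e he => hE e (Finset.mem_insert_of_mem he)
    obtain ⟨x', rfl⟩ : ∃ x', x = x' + 1 := ⟨x - 1, by omega⟩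
    generalize (∑ e ∈ E, (e - 1)) = A at h2 ⊢
    generalize (∏ e ∈ E, e) = B at h2 ⊢
    have h3 : x' ≤ x' * B := Nat.le_mul_of_pos_right _ (by omega)
    rw [add_mul, one_mul]
    omega

/-- the cubic case is impossible -/
theorem cube_false (hn1 : 1 < n) : False := by
  classical
  have hS := hC.setup
  have hrs := cube_ne_pair hC hs hr he hn hodd hcube hna hn1
  have hq3 := pow_mod_three hodd
  set q := 2 ^ n with hq
  let y : twoPt G a t → G := fun x => (x : G) * s * (x : G)⁻¹ * t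
  have hSa : ∀ x : twoPt G a t, ((x : G) * s * (x : G)⁻¹) • a = a := fun x =>
    mem_stabilizer_iff.mp (S_invol hC hs x.2).1
  have hy1 : ∀ x, y x ≠ 1 := fun x h => ta_ne hS (by
    have e : (x : G) * s * (x : G)⁻¹ = t := (eq_inv_of_mul_eq_one_left h).trans (t_inv hS)
    rw [← e]; exact hSa x)
  have hyodd : ∀ x, Odd (orderOf (y x)) := fun x =>
    odd_orderOf_of_mem_odd_card (canon_centralizer hC hs x.2).1 _
      (Subgroup.mem_centralizer_singleton_iff.mpr rfl)
  -- facts on tori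
  have hT3 : ∀ x : twoPt G a t, (∀ p : Ω, y x • p ≠ p) →
      ¬ 3 ∣ Nat.card (Subgroup.centralizer {y x}) := by
    intro x hx h3
    haveI : Fact (Nat.Prime 3) := ⟨Nat.prime_three⟩
    obtain ⟨⟨z, hz⟩, hzo⟩ := exists_prime_orderOf_dvd_card' 3 h3
    rw [Subgroup.orderOf_mk] at hzo
    have hz1 : z ≠ 1 := fun h => by rw [h, orderOf_one] at hzo; norm_num at hzo
    obtain ⟨g, x', hx', hg⟩ := (torus hC hs hr he hn x.2 hx).2.2.2 z hz hz1
    refine hrs (cube_eq_one hC hs hr he hx' ?_).2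
    rw [← hg, conj_pow, ← hzo, pow_orderOf_eq_one]; group
  have hTdvd : ∀ x : twoPt G a t, (∀ p : Ω, y x • p ≠ p) →
      Nat.card (Subgroup.centralizer {y x}) ∣ q + 1 := by
    intro x hx
    obtain ⟨hdvd, -⟩ := torus hC hs hr he hn x.2 hx
    obtain ⟨k, hk⟩ : ∃ k, q = 3 * k + 2 := ⟨q / 3, by omega⟩
    set m := 3 * (3 * k * k + 3 * k + 1) with hm
    have hfac : Nat.card Q + 1 = (q + 1) * m := by rw [hcube, hk, hm]; ring
    rw [hfac] at hdvd
    refine Nat.Coprime.dvd_of_dvd_mul_right ?_ hdvd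
    refine Nat.coprime_of_dvd fun p hp hpe hpm => ?_
    haveI : Fact p.Prime := ⟨hp⟩
    obtain ⟨z, hz⟩ := exists_prime_orderOf_dvd_card' (G := Subgroup.centralizer {y x}) p hpe
    rw [← Subgroup.orderOf_coe] at hz
    have h1 : p ∣ q + 1 :=
      hz ▸ orderOf_dvd_of_pow_eq_one (torus_exponent hC hs hr he hn hodd hcube hna x.2 hx z.2)
    have e : (q + 1) * (3 * k) + 3 = m := by rw [hk, hm]; ring
    have h3 : p ∣ 3 := (Nat.dvd_add_right (h1.mul_right _)).mp (e ▸ hpm)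
    exact hT3 x hx ((Nat.prime_dvd_prime_iff_eq hp Nat.prime_three).mp h3 ▸ hpe)
  -- two tori sharing a prime are conjugate
  have hTconj : ∀ x x' : twoPt G a t, (∀ p : Ω, y x • p ≠ p) → (∀ p : Ω, y x' • p ≠ p) →
      ¬ Nat.Coprime (Nat.card (Subgroup.centralizer {y x}))
        (Nat.card (Subgroup.centralizer {y x'})) →
      ∃ k : G, ∀ w, w ∈ Subgroup.centralizer {y x} ↔
        k * w * k⁻¹ ∈ Subgroup.centralizer {y x'} := by
    intro x x' hx hx' hnc
    obtain ⟨p, hp, hpx, hpx'⟩ := Nat.Prime.not_coprime_iff_dvd.mp hnc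
    haveI : Fact p.Prime := ⟨hp⟩
    obtain ⟨P⟩ : Nonempty (Sylow p G) := inferInstance
    haveI : Nontrivial (P : Subgroup G) := (Subgroup.nontrivial_iff_ne_bot _).mpr
      (P.ne_bot_of_dvd_card (hpx.trans (Subgroup.card_subgroup_dvd_card _)))
    haveI := P.isPGroup'.center_nontrivial
    obtain ⟨⟨⟨z, hzP⟩, hzc⟩, hz1⟩ := exists_ne (1 : Subgroup.center (P : Subgroup G))
    have hz1' : z ≠ 1 := fun h => hz1 (Subtype.ext (Subtype.ext h))
    have key : ∀ x : twoPt G a t, (∀ p : Ω, y x • p ≠ p) →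
        p ∣ Nat.card (Subgroup.centralizer {y x}) →
        ∃ g : G, Subgroup.centralizer {g⁻¹ * z * g} = Subgroup.centralizer {y x} := by
      intro x hx hpx
      obtain ⟨⟨w, hw⟩, hwo⟩ := exists_prime_orderOf_dvd_card' p hpx
      rw [Subgroup.orderOf_mk] at hwo
      have hw1 : w ≠ 1 := fun h => by rw [h, orderOf_one] at hwo; exact hp.one_lt.ne hwo
      obtain ⟨P', hP'⟩ := (IsPGroup.of_card (p := p) (G := Subgroup.zpowers w) (n := 1)
        (by rw [Nat.card_zpowers, hwo, pow_one])).exists_le_sylow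
      obtain ⟨g, hg⟩ := exists_smul_eq G P' P
      have hgw : g * w * g⁻¹ ∈ (P : Subgroup G) := by
        rw [← hg, Sylow.coe_subgroup_smul]
        exact ⟨w, hP' (Subgroup.mem_zpowers w), rfl⟩
      have hc : g * w * g⁻¹ * z = z * (g * w * g⁻¹) :=
        congrArg Subtype.val (Subgroup.mem_center_iff.mp hzc ⟨_, hgw⟩)
      obtain ⟨-, hcent, -⟩ := torus hC hs hr he hn x.2 hx
      refine ⟨g, hcent _ ?_ ?_⟩
      · rw [← hcent w hw hw1, Subgroup.mem_centralizer_singleton_iff]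
        calc g⁻¹ * z * g * w = g⁻¹ * (z * (g * w * g⁻¹)) * g := by group
          _ = w * (g⁻¹ * z * g) := by rw [← hc]; group
      · intro h
        apply hz1'
        calc z = g * (g⁻¹ * z * g) * g⁻¹ := by group
          _ = 1 := by rw [h]; group
    obtain ⟨g₁, h₁⟩ := key x hx hpx
    obtain ⟨g₂, h₂⟩ := key x' hx' hpx'
    refine ⟨g₂⁻¹ * g₁, fun w => ?_⟩
    rw [← h₁, ← h₂, Subgroup.mem_centralizer_singleton_iff, Subgroup.mem_centralizer_singleton_iff]
    constructor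
    · intro h
      calc g₂⁻¹ * g₁ * w * (g₂⁻¹ * g₁)⁻¹ * (g₂⁻¹ * z * g₂)
          = g₂⁻¹ * g₁ * (w * (g₁⁻¹ * z * g₁)) * g₁⁻¹ * g₂ := by group
        _ = _ := by rw [h]; group
    · intro h
      calc w * (g₁⁻¹ * z * g₁) = g₁⁻¹ * g₂ *
            (g₂⁻¹ * g₁ * w * (g₂⁻¹ * g₁)⁻¹ * (g₂⁻¹ * z * g₂)) * g₂⁻¹ * g₁ := by group
        _ = _ := by rw [h]; group
  have hTcard : ∀ {A B : Subgroup G} (k : G), (∀ w, w ∈ A ↔ k * w * k⁻¹ ∈ B) →
      Nat.card A = Nat.card B := fun {A B} k h =>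
    Nat.card_congr ((MulAut.conj k).toEquiv.subtypeEquiv h)
  letI := Fintype.ofFinite (twoPt G a t)
  letI := Fintype.ofFinite G
  set fp : Finset (twoPt G a t) := Finset.univ.filter fun x => ∀ p : Ω, y x • p ≠ p with hfp
  set E : Finset ℕ := fp.image fun x => Nat.card (Subgroup.centralizer {y x}) with hE
  have hEmem : ∀ e ∈ E, ∃ x : twoPt G a t, (∀ p : Ω, y x • p ≠ p) ∧
      Nat.card (Subgroup.centralizer {y x}) = e := fun e he' => by
    obtain ⟨x, hx, hxe⟩ := Finset.mem_image.mp he'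
    exact ⟨x, (Finset.mem_filter.mp hx).2, hxe⟩
  choose! rep hrep1 hrep2 using hEmem
  set U : Finset G := E.biUnion fun e =>
    (Finset.univ.filter fun w => w ∈ Subgroup.centralizer {y (rep e)}).erase 1 with hU
  have hUcard : U.card ≤ ∑ e ∈ E, (e - 1) := by
    refine Finset.card_biUnion_le.trans (Finset.sum_le_sum fun e he' => ?_)
    rw [Finset.card_erase_of_mem (by simp)]
    have : (Finset.univ.filter fun w => w ∈ Subgroup.centralizer {y (rep e)}).card = e := by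
      rw [← Fintype.card_subtype, ← Nat.card_eq_fintype_card]
      exact hrep2 e he'
    omega
  -- a signed representative of each class
  have hrepr : ∀ x : twoPt G a t, ∃ z : G,
      ((¬ ∀ p : Ω, y x • p ≠ p) → z ∈ twoPt G a t) ∧
      ((∀ p : Ω, y x • p ≠ p) →
        z ∈ Subgroup.centralizer {y (rep (Nat.card (Subgroup.centralizer {y x})))}) ∧
      z ≠ 1 ∧ Odd (orderOf z) ∧ (∃ g, g * y x * g⁻¹ = z) ∧ ∃ g, g * y x * g⁻¹ = z⁻¹ := by
    intro x
    by_cases hx : ∀ p : Ω, y x • p ≠ p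
    · set e := Nat.card (Subgroup.centralizer {y x}) with he'
      have heE : e ∈ E := Finset.mem_image.mpr ⟨x, Finset.mem_filter.mpr ⟨Finset.mem_univ _, hx⟩, rfl⟩
      have hxm : y x ∈ Subgroup.centralizer {y x} :=
        Subgroup.mem_centralizer_singleton_iff.mpr rfl
      have hne : e ≠ 1 := fun h => hy1 x (by
        rw [he', Subgroup.card_eq_one] at h
        rwa [h, Subgroup.mem_bot] at hxm)
      obtain ⟨k, hk⟩ := hTconj x (rep e) hx (hrep1 e heE) (by
        rw [hrep2 e heE, ← he', Nat.coprime_self]; exact hne)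
      refine ⟨k * y x * k⁻¹, fun h => absurd hx h, fun _ => (hk _).mp hxm,
        fun h => hy1 x (by simpa using h), ?_, ⟨k, rfl⟩, ?_⟩
      · rw [show k * y x * k⁻¹ = MulAut.conj k (y x) from rfl, MulEquiv.orderOf_eq]
        exact hyodd x
      · obtain ⟨-, hinv, -⟩ := canon_centralizer hC hs (rep e).2
        have h := hinv _ ((hk _).mp hxm)
        refine ⟨((rep e : G) * s * (rep e : G)⁻¹) * k, ?_⟩
        rw [← h, mul_inv_rev _ k,
          inv_eq_self_of_sq (S_invol hC hs (rep e).2).2.2]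
        group
    · have hx' := hx
      push Not at hx'
      obtain ⟨p, hp⟩ := hx'
      obtain ⟨g, hg⟩ := exists_smul hS p a
      have hga : (g * y x * g⁻¹) • a = a := by rw [← hg, mul_smul, inv_smul_smul, mul_smul, hp]
      obtain ⟨w, -, d, hd, hde⟩ := odd_fix hC hga (by
        rw [show g * y x * g⁻¹ = MulAut.conj g (y x) from rfl, MulEquiv.orderOf_eq]
        exact hyodd x)
      have hd' : w⁻¹ * g * y x * (w⁻¹ * g)⁻¹ = d := by
        calc w⁻¹ * g * y x * (w⁻¹ * g)⁻¹ = w⁻¹ * (g * y x * g⁻¹) * w := by group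
          _ = d := by rw [hde]; group
      refine ⟨d, fun _ => hd, fun h => absurd h hx, fun h => hy1 x ?_, odd_D hC hd,
        ⟨w⁻¹ * g, hd'⟩, ⟨t * (w⁻¹ * g), ?_⟩⟩
      · calc y x = (w⁻¹ * g)⁻¹ * d * (w⁻¹ * g) := by rw [← hd']; group
          _ = 1 := by rw [h]; group
      · calc t * (w⁻¹ * g) * y x * (t * (w⁻¹ * g))⁻¹
            = t * (w⁻¹ * g * y x * (w⁻¹ * g)⁻¹) * t⁻¹ := by group
          _ = d⁻¹ := by rw [hd', t_inv hS, hC.inv d hd]
  choose Z hZD hZT hZ1 hZo hZc hZc' using hrepr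
  set D' : Finset G := (Finset.univ.filter fun w => w ∈ twoPt G a t).erase 1 with hD'
  let Φ : twoPt G a t × Bool → G := fun p => if p.2 then Z p.1 else (Z p.1)⁻¹
  have hΦinj : Function.Injective Φ := by
    rintro ⟨x, b⟩ ⟨x', b'⟩ h
    have hconj : ∀ (x : twoPt G a t) (b : Bool), ∃ g, g * y x * g⁻¹ = Φ (x, b) := fun x b => by
      cases b
      · exact hZc' x
      · exact hZc x
    obtain ⟨g, hg⟩ := hconj x b
    obtain ⟨g', hg'⟩ := hconj x' b'
    have hxx : x = x' := Subtype.ext (canon_unique hC hs x.2 x'.2 (g := g'⁻¹ * g) (by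
      show g'⁻¹ * g * y x * (g'⁻¹ * g)⁻¹ = y x'
      calc g'⁻¹ * g * y x * (g'⁻¹ * g)⁻¹ = g'⁻¹ * (g * y x * g⁻¹) * g' := by group
        _ = y x' := by rw [hg, h, ← hg']; group))
    subst hxx
    rcases b <;> rcases b' <;> try rfl
    all_goals exfalso
    all_goals refine hZ1 x (eq_one_of_sq_of_odd (hZo x) ?_)
    · have h' : (Z x)⁻¹ = Z x := h
      nth_rw 1 [← h']; exact inv_mul_cancel _
    · have h' : Z x = (Z x)⁻¹ := h
      nth_rw 1 [h']; exact inv_mul_cancel _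
  have hmaps : ∀ p ∈ (Finset.univ : Finset (twoPt G a t × Bool)), Φ p ∈ D' ∪ U := by
    rintro ⟨x, b⟩ -
    have hne : Φ (x, b) ≠ 1 := by cases b <;> simp [Φ, hZ1]
    by_cases hx : ∀ p : Ω, y x • p ≠ p
    · refine Finset.mem_union_right _ (Finset.mem_biUnion.mpr
        ⟨Nat.card (Subgroup.centralizer {y x}), Finset.mem_image.mpr
          ⟨x, Finset.mem_filter.mpr ⟨Finset.mem_univ _, hx⟩, rfl⟩,
          Finset.mem_erase.mpr ⟨hne, Finset.mem_filter.mpr ⟨Finset.mem_univ _, ?_⟩⟩⟩)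
      cases b
      · exact inv_mem (hZT x hx)
      · exact hZT x hx
    · refine Finset.mem_union_left _
        (Finset.mem_erase.mpr ⟨hne, Finset.mem_filter.mpr ⟨Finset.mem_univ _, ?_⟩⟩)
      cases b
      · exact inv_mem (hZD x hx)
      · exact hZD x hx
  have hcount := (Finset.card_le_card_of_injOn Φ hmaps hΦinj.injOn).trans
    (Finset.card_union_le _ _)
  rw [Finset.card_univ, Fintype.card_prod, Fintype.card_bool] at hcount
  have hD'card : D'.card = Fintype.card (twoPt G a t) - 1 := by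
    rw [hD', Finset.card_erase_of_mem (by simp), ← Fintype.card_subtype]
  have hcop : Set.Pairwise (E : Set ℕ) fun e e' => Nat.Coprime e e' := by
    intro e he' e' he'' hne
    by_contra hnc
    obtain ⟨k, hk⟩ := hTconj (rep e) (rep e') (hrep1 e he') (hrep1 e' he'')
      (by rwa [hrep2 e he', hrep2 e' he''])
    exact hne (by rw [← hrep2 e he', ← hrep2 e' he'']; exact hTcard k hk)
  have hEfac : ∀ e ∈ E, e ∣ q + 1 ∧ Nat.Coprime 3 e ∧ 1 ≤ e := fun e he' => by
    refine ⟨?_, ?_, ?_⟩ <;> rw [← hrep2 e he']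
    · exact hTdvd _ (hrep1 e he')
    · exact Nat.prime_three.coprime_iff_not_dvd.mpr (hT3 _ (hrep1 e he'))
    · exact Nat.card_pos
  have hprod : ∏ e ∈ E, e ∣ q + 1 := by
    refine Finset.prod_dvd_of_isRelPrime ?_ fun e he' => (hEfac e he').1
    intro e he' e' he'' hne
    exact Nat.coprime_iff_isRelPrime.mp (hcop he' he'' hne)
  have h3prod : 3 * ∏ e ∈ E, e ∣ q + 1 :=
    (Nat.Coprime.prod_right fun e he' => (hEfac e he').2.1).mul_dvd_of_dvd_of_dvd
      (by omega) hprod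
  have h1 := sum_pred_le_prod E fun e he' => (hEfac e he').2.2
  have h2 := Nat.le_of_dvd (by omega) h3prod
  rw [Nat.card_eq_fintype_card] at hn
  omega

omit hs hr he hn hodd hcube in
/-- the main theorem -/
theorem zs_main :
    ∃ n : ℕ, Odd n ∧ 1 < n ∧ Nat.card Q = (2 ^ n) ^ 2 ∧
      Nat.card (Subgroup.center Q) = 2 ^ n ∧ Nat.card (twoPt G a t) + 1 = 2 ^ n := by
  haveI : Fact (Nat.Prime 2) := ⟨Nat.prime_two⟩
  obtain ⟨-, hK, -, hcard, -, -⟩ := Q_structure hC hna
  obtain ⟨⟨s, r⟩, ⟨hs, hr, he⟩, -⟩ := exists_pair hC.setup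
  simp only [] at hs hr he
  obtain ⟨n, hn⟩ := (hC.two.to_subgroup (Subgroup.center Q)).exists_card_eq
  rw [hn] at hK
  haveI : Nontrivial (twoPt G a t) := (Subgroup.nontrivial_iff_ne_bot _).mpr hC.ne_bot
  have hD2 : 1 < Nat.card (twoPt G a t) := Finite.one_lt_card
  have hn1 : 1 < n := by
    rcases n with _ | _ | n
    · omega
    · omega
    · omega
  have hbig : Nat.card (twoPt G a t) + 1 < Nat.card Q := by
    rw [hK]
    rcases hcard with h | h <;> rw [h, hn] <;>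
      calc 2 ^ n = (2 ^ n) ^ 1 := (pow_one _).symm
        _ < _ := Nat.pow_lt_pow_right (by omega) (by norm_num)
  have hodd : Odd n := by
    rw [← Nat.not_even_iff_odd]
    rintro ⟨k, rfl⟩
    refine not_three_dvd hC hs hr he hbig ?_
    have h4 : 2 ^ (k + k) % 3 = 1 := by
      rw [← two_mul, pow_mul, Nat.pow_mod]; norm_num
    omega
  refine ⟨n, hodd, hn1, hcard.elim (fun h => by rw [h, hn]) fun h => ?_, hn, hK⟩
  exact (cube_false hC hs hr he hK hodd (by rw [h, hn]) hna hn1).elim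

end H66.ZS
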