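import Cfsg.Agent.H66.ZassClassify
import Cfsg.Agent.H56.Zassenhaus
import Cfsg.Agent.H31.Basic

/-!
Zassenhaus groups with two-point stabilisers of odd order: consequences of the classification.
-/

set_option autoImplicit false

open Cfsg

namespace H66.Feit

open MulAction

universe u v

variable {G : Type u} {Ω : Type v} [Group G] [Finite G] [MulAction G Ω] [Finite Ω]

omit [Finite Ω] in
/-- a subgroup of `G_a` of order `|U|` whose elements move every point but `a` is `U` -/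
theorem kernel_eq {a b : Ω} {U H : Subgroup G} (hab : a ≠ b)
    (hUn : Subgroup.normalizer (U : Set G) = stabilizer G a) (hUle : U ≤ stabilizer G a)
    (hreg : ∀ c : Ω, c ≠ a → ∀ e : Ω, e ≠ a → ∃! u : U, (u : G) • c = e)
    (hC : ∀ k ∈ U, k ≠ 1 → Subgroup.centralizer ({k} : Set G) ≤ U)
    (hdec : ∀ x ∈ stabilizer G a, ∃ u ∈ U, ∃ h ∈ stabilizer G a ⊓ stabilizer G b, x = u * h)
    (hHa : H ≤ stabilizer G a) (hcard : Nat.card H = Nat.card U)
    (hHfix : ∀ u ∈ H, u ≠ 1 → ∀ c : Ω, u • c = c → c = a) : H = U := by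
  classical
  have hle : H ≤ U := by
    intro x hx
    obtain ⟨u, hu, h, hh, rfl⟩ := hdec x (hHa hx)
    by_cases hh1 : h = 1
    · rw [hh1, mul_one]; exact hu
    exfalso
    have hconj : ∀ w ∈ U, h * w * h⁻¹ ∈ U := fun w hw => by
      have : h ∈ Subgroup.normalizer (U : Set G) := by
        rw [hUn]; exact (Subgroup.mem_inf.mp hh).1
      exact (Subgroup.mem_normalizer_iff.mp this w).mp hw
    let f : U → U := fun w => ⟨(w : G) * (h * (w : G)⁻¹ * h⁻¹), mul_mem w.2 (hconj _ (inv_mem w.2))⟩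
    have hf : Function.Injective f := by
      rintro ⟨w, hw⟩ ⟨w', hw'⟩ e
      have e' : w * (h * w⁻¹ * h⁻¹) = w' * (h * w'⁻¹ * h⁻¹) := congrArg Subtype.val e
      by_contra hne
      have hne' : w⁻¹ * w' ≠ 1 := fun e0 => hne (Subtype.ext (inv_mul_eq_one.mp e0))
      have hhU : h ∈ U := hC _ (mul_mem (inv_mem hw) hw') hne' (by
        rw [Subgroup.mem_centralizer_singleton_iff]
        calc h * (w⁻¹ * w') = w⁻¹ * (w * (h * w⁻¹ * h⁻¹)) * h * w' := by group
          _ = w⁻¹ * (w' * (h * w'⁻¹ * h⁻¹)) * h * w' := by rw [e']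
          _ = w⁻¹ * w' * h := by group)
      obtain ⟨z, -, hz⟩ := hreg b hab.symm b hab.symm
      exact hh1 (congrArg Subtype.val
        ((hz ⟨h, hhU⟩ (Subgroup.mem_inf.mp hh).2).trans (hz 1 (one_smul _ _)).symm))
    obtain ⟨⟨w, hw⟩, hwe⟩ := (Finite.injective_iff_surjective.mp hf) ⟨u, hu⟩
    have hwe' : w * (h * w⁻¹ * h⁻¹) = u := congrArg Subtype.val hwe
    have hwb : w • b ≠ a := fun e => hab (by
      rw [← inv_smul_smul w b, e]
      exact (mem_stabilizer_iff.mp (inv_mem (hUle hw))).symm)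
    have hx1 : u * h ≠ 1 := fun e => by
      have hhU : h ∈ U := by rw [eq_inv_of_mul_eq_one_right e]; exact inv_mem hu
      obtain ⟨z, -, hz⟩ := hreg b hab.symm b hab.symm
      exact hh1 (congrArg Subtype.val
        ((hz ⟨h, hhU⟩ (Subgroup.mem_inf.mp hh).2).trans (hz 1 (one_smul _ _)).symm))
    refine hwb (hHfix _ hx hx1 _ ?_)
    rw [← hwe', show w * (h * w⁻¹ * h⁻¹) * h = w * h * w⁻¹ by group, mul_smul, mul_smul,
      inv_smul_smul, mem_stabilizer_iff.mp (Subgroup.mem_inf.mp hh).2]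
  exact Subgroup.eq_of_le_of_card_ge hle hcard.ge

/-- a simple Zassenhaus group with odd two-point stabiliser -/
theorem odd_cases (hZ : Cfsg.IsZassenhausGroup G Ω) [IsSimpleGroup G] {a b : Ω} (hab : a ≠ b)
    (hodd : Odd (Nat.card ↥(stabilizer G a ⊓ stabilizer G b))) :
    Nat.card Ω ≤ 2 * Nat.card ↥(stabilizer G a ⊓ stabilizer G b) + 2 ∨
      ∃ U : Subgroup G, U ≤ stabilizer G a ∧ IsPGroup 2 U ∧
        (∃ u ∈ U, ∃ w ∈ U, u * w ≠ w * u) ∧
        Nat.card U = (Nat.card ↥(stabilizer G a ⊓ stabilizer G b) + 1) ^ 2 ∧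
        Nat.card Ω = Nat.card U + 1 ∧
        (∀ H : Subgroup G, H ≤ stabilizer G a → Nat.card H + 1 = Nat.card Ω →
          (∀ u ∈ H, u ≠ 1 → ∀ c : Ω, u • c = c → c = a) → H = U) ∧
        ∃ v : G, v • a = b ∧ H66.ZS.Ctx G Ω a v U := by
  classical
  letI := Fintype.ofFinite Ω
  letI := Fintype.ofFinite G
  obtain ⟨hfaith, h2, h3, ⟨g₀, hg₀, x₀, y₀, hxy₀, hgx, hgy⟩, -⟩ := id hZ
  obtain ⟨U, hUle, hU1, hnorm, hreg, hΩ, hcardA, hC, hdec, hfix, hTI, hnil⟩ := kernel_props hZ hab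
  set H := stabilizer G a ⊓ stabilizer G b with hHdef
  set d := Nat.card H with hd
  have hd1 : d ≠ 1 := fun h => hg₀ (by
    obtain ⟨t, t1, t2⟩ := (is_two_pretransitive_iff.1 h2) hxy₀ hab
    have hm : t * g₀ * t⁻¹ ∈ H := by
      refine Subgroup.mem_inf.mpr ⟨?_, ?_⟩
      · rw [mem_stabilizer_iff, mul_smul, mul_smul, ← t1, inv_smul_smul, hgx]
      · rw [mem_stabilizer_iff, mul_smul, mul_smul, ← t2, inv_smul_smul, hgy]
    rwa [Subgroup.card_eq_one.mp h, Subgroup.mem_bot, conj_eq_one_iff] at hm)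
  have hd3 : 3 ≤ d := by
    obtain ⟨k, hk⟩ := hodd
    omega
  have hpp := isPrimePow_degree hZ
  rw [← Nat.card_eq_fintype_card, hΩ, Nat.add_sub_cancel, isPrimePow_nat_iff] at hpp
  obtain ⟨p, k, hp, hk, hpk⟩ := hpp
  haveI := Fact.mk hp
  have hUn : ∀ h ∈ stabilizer G a, ∀ u ∈ U, h * u * h⁻¹ ∈ U := fun h hh u hu => by
    rw [← hnorm] at hh
    exact (Subgroup.mem_normalizer_iff.mp hh u).mp hu
  have hreg' : ∀ c e : Ω, c ≠ a → e ≠ a → ∃! u : U, (u : G) • c = e := fun c e hc he =>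
    hreg c hc e he
  by_cases hp2 : p = 2
  · subst hp2
    have hU2 : IsPGroup 2 U := IsPGroup.of_card hpk.symm
    obtain ⟨v, hva, hCtx⟩ := H66.ZS.exists_ctx_of_ne_bot hZ hab hUle hUn hreg' hU2 hU1
    have hH2 : H66.R1.twoPt G a v = H := by
      show stabilizer G a ⊓ stabilizer G (v • a) = _
      rw [hva]
    by_cases hUab : ∀ u ∈ U, ∀ u' ∈ U, u * u' = u' * u
    · left
      have hcard := H66.ZS.ab_card hCtx hUab
      rw [hH2, ← hd] at hcard
      omega
    · right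
      push Not at hUab
      obtain ⟨u, hu, w, hw, hne⟩ := hUab
      obtain ⟨n, -, -, hQ, -, hD⟩ := H66.ZS.zs_main hCtx ⟨u, hu, w, hw, hne⟩
      rw [hH2, ← hd] at hD
      refine ⟨U, hUle, hU2, ⟨u, hu, w, hw, hne⟩, by rw [hQ, hD], hΩ, fun H' hH'a hH'c hH'f => ?_,
        v, hva, hCtx⟩
      exact kernel_eq hab hnorm hUle hreg hC hdec hH'a (by omega) hH'f
  left
  set L := Subgroup.normalizer (U : Set G) with hL
  have hUL : U ≤ L := Subgroup.le_normalizer
  letI : Fintype ↥L := Fintype.ofFinite _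
  haveI hKn : (U.subgroupOf L).Normal := Subgroup.normal_in_normalizer
  have hKcard : Nat.card (U.subgroupOf L) = Nat.card U :=
    Nat.card_congr (Subgroup.subgroupOfEquivOfLe hUL).toEquiv
  have hLcard : Nat.card L = Nat.card U * d := by rw [hnorm, hcardA]
  have hdidx : (U.subgroupOf L).index = d := by
    refine Nat.eq_of_mul_eq_mul_left (Nat.card_pos (α := U.subgroupOf L)) ?_
    rw [Subgroup.card_mul_index, hLcard, hKcard]
  have hlt : U < L := by
    refine lt_of_le_of_ne hUL fun h => ?_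
    have h1 : Nat.card L = Nat.card U := by rw [← h]
    rw [hLcard] at h1
    have := Nat.mul_le_mul_left (Nat.card U) hd3
    have : 0 < Nat.card U := Nat.card_pos
    omega
  have hpodd : Odd (Nat.card U) := by
    rw [← hpk]
    exact (hp.odd_of_ne_two hp2).pow
  rcases H16.feit_sibley U hU1 hnil hTI hlt hC with ⟨-, hcard, -⟩ | ⟨h2pow, -⟩ | hcoh
  · rw [hdidx] at hcard
    omega
  · exfalso
    rcases Nat.eq_zero_or_pos ((Nat.card G).factorization 2) with h | h
    · rw [h, pow_zero] at h2pow; exact hU1 (Subgroup.card_eq_one.mp h2pow)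
    · exact absurd hpodd (Nat.not_odd_iff_even.mpr (h2pow ▸ Nat.even_pow.mpr ⟨even_two, h.ne'⟩))
  obtain ⟨hcyc, -⟩ := H66.Sharp.cyclic_inverted hZ hab
  have hcommH : ∀ x ∈ H, ∀ y ∈ H, x * y = y * x := fun x hx y hy => by
    haveI := hcyc
    letI := IsCyclic.commGroup (α := H)
    exact congrArg Subtype.val (mul_comm (⟨x, hx⟩ : H) ⟨y, hy⟩)
  have hab' : ∀ x y : ↥L, ((x * y * x⁻¹ * y⁻¹ : ↥L) : G) ∈ U := by
    have hmk : ∀ z : ↥L, ∃ k : ↥L, (k : G) ∈ H ∧
        (z : ↥L ⧸ U.subgroupOf L) = (k : ↥L ⧸ U.subgroupOf L) := fun z => by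
      obtain ⟨u, hu, h, hh, e⟩ := hdec (z : G) (hnorm ▸ z.2)
      refine ⟨⟨h, hnorm.symm ▸ (Subgroup.mem_inf.mp hh).1⟩, hh, ?_⟩
      rw [show z = (⟨u, hUL hu⟩ : ↥L) * ⟨h, hnorm.symm ▸ (Subgroup.mem_inf.mp hh).1⟩ from
        Subtype.ext e, QuotientGroup.mk_mul,
        (QuotientGroup.eq_one_iff _).mpr (Subgroup.mem_subgroupOf.mpr hu), one_mul]
    intro x y
    obtain ⟨x', hx', ex⟩ := hmk x
    obtain ⟨y', hy', ey⟩ := hmk y
    rw [← Subgroup.mem_subgroupOf (H := U) (h := x * y * x⁻¹ * y⁻¹), ← QuotientGroup.eq_one_iff,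
      QuotientGroup.mk_mul, QuotientGroup.mk_mul, QuotientGroup.mk_mul, QuotientGroup.mk_inv,
      QuotientGroup.mk_inv, ex, ey, ← QuotientGroup.mk_mul,
      show x' * y' = y' * x' from Subtype.ext (hcommH _ hx' _ hy'), QuotientGroup.mk_mul]
    group
  have hindex : L.index = Nat.card U + 1 := by
    haveI := MulAction.isPretransitive_of_is_two_pretransitive (G := G) (α := Ω)
    rw [hnorm, index_stabilizer_of_transitive, hΩ]
  have hle := index_le_two U hTI hC hnil hab' (fun g u hu hu1 h => by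
    have h' : g⁻¹ * u * g ∈ stabilizer G a := hnorm ▸ h
    show g ∈ L
    rw [hnorm]
    exact hfix g u hu hu1 h') hindex hdidx hd3 hcoh
  obtain ⟨β, hβ⟩ := H16.frob_index_dvd (U.subgroupOf L) (H16.centralizer_subgroupOf U hC) ⊥
  rw [Subgroup.relIndex_bot_left, hKcard, hdidx] at hβ
  have hpos : 0 < Nat.card U := Nat.card_pos
  have h3' : β < 3 := Nat.lt_of_mul_lt_mul_left (a := d) (by omega)
  interval_cases β <;> omega

omit [Finite G] in
/-- Ito's dichotomy, also for groups that are not simple -/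
theorem ito_dichotomy : ∀ (n : ℕ) {G : Type u} [Group G] [Finite G] [MulAction G Ω],
    Nat.card G = n → Cfsg.IsZassenhausGroup G Ω → ∀ {a b : Ω}, a ≠ b →
    Odd (Nat.card ↥(stabilizer G a ⊓ stabilizer G b)) →
    Nat.card Ω ≤ 2 * Nat.card ↥(stabilizer G a ⊓ stabilizer G b) + 2 ∨
      (IsSimpleGroup G ∧ Odd (Nat.card Ω)) := by
  intro n
  induction n using Nat.strong_induction_on with
  | _ n ih =>
    intro G _ _ _ hn hZ a b hab hodd
    by_cases hoΩ : Odd (Nat.card Ω)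
    · exact Or.inr ⟨H56.zassenhaus_odd_simple hZ hoΩ, hoΩ⟩
    left
    by_cases hsimp : IsSimpleGroup G
    · rcases odd_cases hZ hab hodd with h | ⟨U, -, hU2, hna, hcard, hΩ, -⟩
      · exact h
      · exfalso
        apply hoΩ
        rw [hΩ, hcard]
        exact (Nat.even_pow.mpr ⟨hodd.add_one, two_ne_zero⟩).add_one
    obtain ⟨-, -, -, ⟨g, hg, -⟩, -⟩ := id hZ
    haveI : Nontrivial G := ⟨g, 1, hg⟩
    obtain ⟨M, hMn, hM0, hM1⟩ : ∃ M : Subgroup G, M.Normal ∧ M ≠ ⊥ ∧ M ≠ ⊤ := by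
      by_contra hcon
      push Not at hcon
      exact hsimp ⟨fun M hM => (eq_or_ne M ⊥).imp_right (hcon M hM)⟩
    haveI := hMn
    have hZM := H56.normal_zassenhaus hZ M hM0
    have hlt : Nat.card M < n := by
      rw [← hn]
      exact lt_of_le_of_ne (Subgroup.card_le_card_group M) fun h => hM1 (Subgroup.card_eq_iff_eq_top M |>.mp h)
    let f : ↥(stabilizer M a ⊓ stabilizer M b) →* ↥(stabilizer G a ⊓ stabilizer G b) :=
      { toFun := fun x => ⟨((x : M) : G), x.2⟩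
        map_one' := rfl
        map_mul' := fun _ _ => rfl }
    have hf : Function.Injective f := fun x y h =>
      Subtype.ext (Subtype.ext (congrArg (fun z : ↥(stabilizer G a ⊓ stabilizer G b) => (z : G)) h))
    have hdvd := Subgroup.card_dvd_of_injective f hf
    rcases ih _ hlt rfl hZM hab (hodd.of_dvd_nat hdvd) with h | ⟨-, h⟩
    · have := Nat.le_of_dvd Nat.card_pos hdvd
      omega
    · exact absurd h hoΩ

end H66.Feit
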