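import Cfsg.Agent.H66.RankOne2
import Cfsg.Agent.H6.Basic
import Cfsg.Agent.H33.Basic
import Cfsg.Agent.H35.Basic

/-!
Rank-one set-up with 2-rank at least two: consequences of the nilpotency of `Q`.
-/

set_option autoImplicit false

namespace H66.R1

open MulAction

variable {G Ω : Type*} [Group G] [MulAction G Ω] {a : Ω} {t : G} {Q : Subgroup G}
variable [Finite G] (hS : Cfsg.IsRankOneSetup G Ω a t Q)

include hS

theorem exists_inverted_ne_one
    (h2 : ∃ x y : G, x ≠ 1 ∧ y ≠ 1 ∧ x ≠ y ∧ x * x = 1 ∧ y * y = 1 ∧ x * y = y * x) :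
    ∃ k ∈ Cfsg.invertedBy (twoPt G a t) t, k ≠ 1 := by
  obtain ⟨x, y, hx1, hy1, hxy, hxx, hyy, hc⟩ := h2
  obtain ⟨c, hxc⟩ := invol_fix hS hxx
  have hyc : y • c = c := fix_of_commute hS hx1 hxx (hc.symm : y * x = x * y) hxc
  obtain ⟨g, hg⟩ := exists_smul hS c a
  have hmem : ∀ u : G, u ≠ 1 → u * u = 1 → u • c = c →
      g * u * g⁻¹ ∈ Cfsg.involutionsIn (stabilizer G a : Set G) := fun u hu1 huu huc =>
    ⟨by
      rw [SetLike.mem_coe, mem_stabilizer_iff, ← hg, mul_smul, inv_smul_smul, mul_smul, huc],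
      by simpa using hu1, by rw [conj_mul, huu, mul_one, mul_inv_cancel]⟩
  obtain ⟨k, hk, hke⟩ := exists_conj_inverted hS (hmem x hx1 hxx hxc) (hmem y hy1 hyy hyc)
  refine ⟨k, hk, fun h => hxy ?_⟩
  rw [h, inv_one, one_mul, mul_one] at hke
  exact mul_left_cancel (mul_right_cancel hke)

/-- an element of prime order inverted by `t`; conjugation by it is fixed-point-free on `Q` -/
theorem exists_prime_fpf
    (h2 : ∃ x y : G, x ≠ 1 ∧ y ≠ 1 ∧ x ≠ y ∧ x * x = 1 ∧ y * y = 1 ∧ x * y = y * x) :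
    ∃ (φ : Q ≃* Q) (p : ℕ), p.Prime ∧ orderOf φ = p ∧
      MonoidHom.FixedPointFree (φ : Q →* Q) := by
  obtain ⟨k, hk, hk1⟩ := exists_inverted_ne_one hS h2
  set p := (orderOf k).minFac with hp
  have hpp : p.Prime := Nat.minFac_prime (by rwa [Ne, orderOf_eq_one_iff])
  have hpd : p ∣ orderOf k := Nat.minFac_dvd _
  set x := k ^ (orderOf k / p) with hx
  have hxK : x ∈ Cfsg.invertedBy (twoPt G a t) t :=
    (invertedBy_oddTwisted (odd_orderOf_of_mem_odd_card hS.odd_card) t).zpow k hk x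
      (Subgroup.npow_mem_zpowers _ _)
  have hxo : orderOf x = p := by
    rw [hx, orderOf_pow_of_dvd (Nat.div_pos (Nat.le_of_dvd (orderOf_pos k) hpd) hpp.pos).ne'
      (Nat.div_dvd_of_dvd hpd), Nat.div_div_self hpd (orderOf_pos k).ne']
  have hx1 : x ≠ 1 := fun h => hpp.one_lt.ne (by rw [← hxo, h, orderOf_one])
  have hxn : x ∈ Subgroup.normalizer (Q : Set G) := le_normalizer hS hxK.1.1
  let f : Subgroup.normalizer (Q : Set G) →* MulAut Q := Q.normalizerMonoidHom
  have hfpf : MonoidHom.FixedPointFree ((f ⟨x, hxn⟩ : Q ≃* Q) : Q →* Q) := by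
    intro q hq
    have e : x * (q : G) * x⁻¹ = q := congrArg Subtype.val hq
    have hm : (q : G) ∈ Q ⊓ Subgroup.centralizer {x} := Subgroup.mem_inf.mpr
      ⟨q.2, Subgroup.mem_centralizer_singleton_iff.mpr (mul_inv_eq_iff_eq_mul.mp e).symm⟩
    rw [inverted_fpf_Q hS hxK hx1, Subgroup.mem_bot] at hm
    exact Subtype.ext hm
  refine ⟨f ⟨x, hxn⟩, p, hpp, ?_, hfpf⟩
  have hdvd : orderOf (f ⟨x, hxn⟩) ∣ p := by
    rw [← hxo, ← Subgroup.orderOf_mk x hxn]
    exact orderOf_map_dvd f _
  rcases hpp.eq_one_or_self_of_dvd _ hdvd with h | h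
  · exfalso
    rw [orderOf_eq_one_iff] at h
    have hQ : Q ≠ ⊥ := fun hb => by simpa [hb] using hS.even_card
    obtain ⟨q, hq, hq1⟩ := Q.bot_or_exists_ne_one.resolve_left hQ
    exact hq1 (congrArg Subtype.val (hfpf ⟨q, hq⟩ (by rw [h]; rfl)))
  · exact h

variable (hN : Group.IsNilpotent Q)

include hN

theorem invol_central {s : G} (hs : s ∈ Cfsg.involutionsIn (stabilizer G a : Set G)) {x : G}
    (hx : x ∈ Q) : s * x = x * s := by
  haveI : Fact (Nat.Prime 2) := ⟨Nat.prime_two⟩
  haveI := hN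
  obtain ⟨P⟩ : Nonempty (Sylow 2 Q) := inferInstance
  have hPn : (P : Subgroup Q).Normal :=
    Sylow.normal_of_normalizerCondition Group.normalizerCondition_of_isNilpotent P
  have hPne : (P : Subgroup Q) ≠ ⊥ := P.ne_bot_of_dvd_card hS.even_card.two_dvd
  haveI : Nontrivial (P : Subgroup Q) := (Subgroup.nontrivial_iff_ne_bot _).mpr hPne
  obtain ⟨z, -, hzc, hzo⟩ := H6.exists_mem_center_orderOf P.isPGroup'
    (N := (⊤ : Subgroup (P : Subgroup Q))) (by simp)
  have hzC : ∀ q : Q, q * (z : Q) = (z : Q) * q := by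
    intro q
    have htop : Subgroup.centralizer ({(z : Q)} : Set Q) = ⊤ := by
      refine H35.eq_top_of_prime_pow_mem _ fun r b y hr hy => ?_
      rw [Subgroup.mem_centralizer_singleton_iff]
      by_cases hr2 : r = 2
      · subst hr2
        have hyP : y ∈ (P : Subgroup Q) := by
          obtain ⟨T, hT⟩ := (IsPGroup.of_card (p := 2) (G := Subgroup.zpowers y) (n := b)
            (by rw [Nat.card_zpowers, hy])).exists_le_sylow
          haveI : Unique (Sylow 2 Q) := P.unique_of_normal hPn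
          rw [show P = T from Subsingleton.elim _ _]
          exact hT (Subgroup.mem_zpowers y)
        exact congrArg Subtype.val (Subgroup.mem_center_iff.mp hzc ⟨y, hyP⟩)
      · refine (H33.commute_of_nilpotent (p := 2) ⟨1, by rw [pow_one, Subgroup.orderOf_coe, hzo]⟩
          ?_).symm
        rw [hy]
        exact fun h => hr2 ((Nat.prime_dvd_prime_iff_eq Nat.prime_two hr).mp
          (Nat.prime_two.dvd_of_dvd_pow h)).symm
    exact Subgroup.mem_centralizer_singleton_iff.mp (htop ▸ Subgroup.mem_top q)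
  have hz : ((z : Q) : G) ∈ Cfsg.involutionsIn (stabilizer G a : Set G) := by
    have h := orderOf_injective (Q.subtype.comp (P : Subgroup Q).subtype)
      (Q.subtype_injective.comp (P : Subgroup Q).subtype_injective) z
    rw [hzo] at h
    refine ⟨hS.le (z : Q).2, fun h1 => ?_, ?_⟩
    · rw [show (Q.subtype.comp (P : Subgroup Q).subtype) z = 1 from h1, orderOf_one] at h
      omega
    · exact H66.mul_self_of_orderOf_two h
  obtain ⟨k, hk, rfl⟩ := exists_conj_inverted hS hz hs
  have hxk : k * x * k⁻¹ ∈ Q := twoPt_conj_Q hS hk.1 hx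
  have hc : (k * x * k⁻¹) * ((z : Q) : G) = ((z : Q) : G) * (k * x * k⁻¹) :=
    congrArg Subtype.val (hzC ⟨_, hxk⟩)
  calc k⁻¹ * ((z : Q) : G) * k * x = k⁻¹ * (((z : Q) : G) * (k * x * k⁻¹)) * k := by group
    _ = x * (k⁻¹ * ((z : Q) : G) * k) := by rw [← hc]; group

theorem invol_mul {s s' : G} (hs : s ∈ Cfsg.involutionsIn (stabilizer G a : Set G))
    (hs' : s' ∈ Cfsg.involutionsIn (stabilizer G a : Set G)) :
    s * s' = 1 ∨ s * s' ∈ Cfsg.involutionsIn (stabilizer G a : Set G) := by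
  by_cases h : s * s' = 1
  · exact Or.inl h
  · refine Or.inr ⟨mul_mem hs.1 hs'.1, h, ?_⟩
    have hc := invol_central hS hN hs (invol_mem_Q hS hs'.1 hs'.2.2)
    calc s * s' * (s * s') = s * (s' * s) * s' := by group
      _ = (s * s) * (s' * s') := by rw [← hc]; group
      _ = 1 := by rw [hs.2.2, hs'.2.2, one_mul]

theorem strongly_real {u v : G} (hu1 : u ≠ 1) (hu2 : u * u = 1) (hv1 : v ≠ 1) (hv2 : v * v = 1)
    (hx : (u * v) * (u * v) ≠ 1) :
    (∃ g : G, ∃ u' ∈ Cfsg.involutionsIn (stabilizer G a : Set G),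
      g * (u * v) * g⁻¹ = u' * t) ∧ Odd (Nat.card (Subgroup.centralizer {u * v})) := by
  obtain ⟨c, huc⟩ := invol_fix hS hu2
  have hvc : v • c ≠ c := by
    intro hvc
    apply hx
    obtain ⟨g, hg⟩ := exists_smul hS c a
    have hmem : ∀ w : G, w ≠ 1 → w * w = 1 → w • c = c →
        g * w * g⁻¹ ∈ Cfsg.involutionsIn (stabilizer G a : Set G) := fun w hw1 hww hwc =>
      ⟨by rw [SetLike.mem_coe, mem_stabilizer_iff, ← hg, mul_smul, inv_smul_smul, mul_smul, hwc],
        by simpa using hw1, by rw [conj_mul, hww, mul_one, mul_inv_cancel]⟩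
    have h1 := hmem u hu1 hu2 huc
    have h2 := hmem v hv1 hv2 hvc
    have hc := invol_central hS hN h1 (invol_mem_Q hS h2.1 h2.2.2)
    rw [conj_mul, conj_mul] at hc
    have hcomm : u * v = v * u := mul_left_cancel (mul_right_cancel hc)
    calc u * v * (u * v) = u * (v * u) * v := by group
      _ = (u * u) * (v * v) := by rw [← hcomm]; group
      _ = 1 := by rw [hu2, hv2, one_mul]
  constructor
  · -- move the fixed point of `u` to `a`, then `v` to `t`
    obtain ⟨g, hg⟩ := exists_smul hS c a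
    set u₁ := g * u * g⁻¹ with hu₁
    set v₁ := g * v * g⁻¹ with hv₁
    have hu₁a : u₁ • a = a := by rw [hu₁, ← hg, mul_smul, inv_smul_smul, mul_smul, huc]
    have hu₁m : u₁ ∈ Cfsg.involutionsIn (stabilizer G a : Set G) :=
      ⟨hu₁a, by simpa [hu₁] using hu1, by rw [hu₁, conj_mul, hu2, mul_one, mul_inv_cancel]⟩
    have hv₁a : v₁ • a ≠ a := by
      rw [hv₁, ← hg, mul_smul, inv_smul_smul, mul_smul]
      exact fun h => hvc (MulAction.injective g h)
    obtain ⟨r, hr, k, hk, hke⟩ := moving_decomp hS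
      (u := v₁) (by rw [hv₁, conj_mul, hv2, mul_one, mul_inv_cancel]) hv₁a
    obtain ⟨l, hl, hle⟩ := exists_sqrt_conj hS hk
    refine ⟨l * r * g, (l * r) * u₁ * (l * r)⁻¹, conj_involutionsIn hS hu₁m ?_, ?_⟩
    · rw [mul_smul, fix_a hS hr, (mem_twoPt.mp hl.1).1]
    · have e : t = (l * r) * v₁ * (l * r)⁻¹ := by rw [hke, ← hle]; group
      nth_rw 1 [e]
      rw [hu₁, hv₁]
      group
  · set x := u * v with hxdef
    rw [← Nat.not_even_iff_odd]
    intro heven
    haveI : Fact (Nat.Prime 2) := ⟨Nat.prime_two⟩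
    obtain ⟨w, hw⟩ := exists_prime_orderOf_dvd_card' 2 heven.two_dvd
    rw [← Subgroup.orderOf_coe] at hw
    have hww := H66.mul_self_of_orderOf_two hw
    have hw1 : (w : G) ≠ 1 := fun h => by simp [h] at hw
    have hwx : (w : G) * x = x * w := Subgroup.mem_centralizer_singleton_iff.mp w.2
    obtain ⟨d, hwd⟩ := invol_fix hS hww
    have hxd : x • d = d := fix_of_commute hS hw1 hww hwx.symm hwd
    have hinv : u * x * u⁻¹ = x⁻¹ := H66.inverts_mul hu2 hv2
    have hxud : x • (u • d) = u • d := by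
      have e : x * u = u * x⁻¹ := by
        rw [← hinv]
        calc x * u = (u * u) * x * u := by rw [hu2, one_mul]
          _ = u * (u * x * u⁻¹) := by rw [inv_eq_self_of_sq hu2]; group
      rw [← mul_smul, e, mul_smul, inv_smul_eq_iff.mpr hxd.symm]
    have hxw : ∀ e : Ω, x • e = e → x • ((w : G) • e) = (w : G) • e := fun e he => by
      rw [← mul_smul, ← hwx, mul_smul, he]
    have hne : u • d ≠ d := by
      intro h
      have hdc : d = c := invol_fix_unique hS hu1 hu2 h huc
      subst hdc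
      apply hvc
      have h2 : u • v • d = u • d := by rw [← mul_smul, ← hxdef, hxd, huc]
      exact MulAction.injective u h2
    set e := (w : G) • (u • d) with he
    have he1 : e ≠ d := fun h => hne (by
      rw [← hwd] at h
      exact (MulAction.injective (w : G) h).trans hwd.symm |> fun h' => by rw [h', hwd])
    have he2 : e ≠ u • d := fun h => hne (invol_fix_unique hS hw1 hww h hwd)
    obtain ⟨g, hgd, hgu⟩ := move_two hS hne.symm (ta_ne hS).symm
    set x' := g * x * g⁻¹ with hx'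
    set u' := g * u * g⁻¹ with hu'
    have hx'D : x' ∈ twoPt G a t := by
      have hx'f : ∀ z : Ω, x • z = z → x' • (g • z) = g • z := fun z hz => by
        rw [hx', mul_smul, inv_smul_smul, mul_smul, hz]
      rw [mem_twoPt]
      exact ⟨by have := hx'f d hxd; rwa [hgd] at this, by have := hx'f _ hxud; rwa [hgu] at this⟩
    have hu'u : u' * u' = 1 := by rw [hu', conj_mul, hu2, mul_one, mul_inv_cancel]
    have hu'a : u' • a = t • a := by rw [hu', ← hgd, mul_smul, inv_smul_smul, mul_smul, hgu, hgd]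
    have hu'b : u' • (t • a) = a := by rw [← hu'a, ← mul_smul, hu'u, one_smul]
    have hk : t * u' ∈ Cfsg.invertedBy (twoPt G a t) t := by
      rw [mem_inverted_iff hS, mem_twoPt, mul_smul t u' a, mul_smul t u' (t • a), hu'a, hu'b,
        ← mul_assoc t t, hS.mul_self, one_mul, hu'u]
      exact ⟨⟨t_smul_smul hS a, rfl⟩, rfl⟩
    obtain ⟨l, hl, hle⟩ := exists_sqrt_conj hS hk
    rw [← mul_assoc t t, hS.mul_self, one_mul] at hle
    set x'' := l * x' * l⁻¹ with hx''
    have hx''K : x'' ∈ Cfsg.invertedBy (twoPt G a t) t := by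
      refine ⟨mul_mem (mul_mem hl.1 hx'D) (inv_mem hl.1), ?_⟩
      have et : t = l * u' * l⁻¹ := by rw [← hle]; group
      calc t * x'' * t⁻¹ = (l * g) * (u * x * u⁻¹) * (l * g)⁻¹ := by
            rw [hx'', et, hu', hx']; group
        _ = x''⁻¹ := by rw [hinv, hx'', hx']; group
    have hx1 : x ≠ 1 := fun h => hx (by rw [h, one_mul])
    refine inverted_fpf hS hx''K (c := l • g • e) ?_ ?_ ?_ ?_
    · intro h
      apply hx1
      rw [hx'', hx'] at h
      simpa using h
    · intro h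
      have h2 := MulAction.injective l (h.trans (mem_twoPt.mp hl.1).1.symm)
      exact he1 (MulAction.injective g (h2.trans hgd.symm))
    · intro h
      have h2 := MulAction.injective l (h.trans (mem_twoPt.mp hl.1).2.symm)
      exact he2 (MulAction.injective g (h2.trans hgu.symm))
    · rw [hx'', mul_smul, inv_smul_smul, mul_smul, hx', mul_smul, inv_smul_smul, mul_smul,
        hxw _ hxud]

end H66.R1
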