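import Cfsg.Agent.H66.TransLinear
import Cfsg.Agent.H66.RankOne3
import Cfsg.Agent.S1127
import Cfsg.Agent.S1130

/-!
# The two-point stabiliser in the rank one set-up as an odd linear group on the involutions

`H66.RankOneLin.exists_rep`: `D = G_a ⊓ G_{t • a}` maps onto a group having a cyclic
self-centralising Fitting subgroup, with kernel the centraliser of the involutions of `G_a`;
`H66.RankOneLin.inverted_cyclic`: then the elements inverted by `t` form a cyclic normal subgroup.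
-/

set_option autoImplicit false
set_option linter.unusedSectionVars false
set_option linter.style.haveILetI false

open MulAction

namespace H66.RankOneLin

universe u

/-- An involutory automorphism of an odd order group inverts a cyclic normal subgroup. -/
theorem inverted_cyclic {X : Type*} [Group X] [Finite X] (hodd : Odd (Nat.card X)) (τ : X ≃* X)
    (hτ : ∀ x, τ (τ x) = x) {Y : Type*} [Group Y] (φ : X →* Y) (hφ : Function.Surjective φ)
    (hker : ∀ x, φ x = 1 → τ x = x) (A : Subgroup Y) [hAn : A.Normal] (hAc : IsCyclic A)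
    (hself : ∀ g : Y, (∀ a ∈ A, g * a = a * g) → g ∈ A)
    (hmax : ∀ N : Subgroup Y, N.Normal → Group.IsNilpotent N → N ≤ A)
    (hfix : ∀ v, τ v = v → φ v ∈ A → φ v = 1) :
    ∃ k₀ : X, (∀ x, τ x = x⁻¹ ↔ x ∈ Subgroup.zpowers k₀) ∧
      ∀ g x, x ∈ Subgroup.zpowers k₀ → g * x * g⁻¹ ∈ Subgroup.zpowers k₀ := by
  classical
  have hord : ∀ x : X, Odd (orderOf x) := fun x => hodd.of_dvd_nat (orderOf_dvd_natCard x)
  -- square roots
  have hsq : ∀ x : X, ∃ j : ℕ, (x ^ j) * (x ^ j) = x := by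
    intro x
    obtain ⟨m, hm⟩ := hord x
    exact ⟨m + 1, by rw [← pow_add, show m + 1 + (m + 1) = orderOf x + 1 by omega, pow_succ,
      pow_orderOf_eq_one, one_mul]⟩
  have dec : ∀ x : X, ∃ v k : X, τ v = v ∧ τ k = k⁻¹ ∧
      k ∈ Subgroup.zpowers ((τ x)⁻¹ * x) ∧ x = v * k := by
    intro x
    set u := (τ x)⁻¹ * x with hu
    obtain ⟨j, hj⟩ := hsq u
    have hτu : τ u = u⁻¹ := by rw [hu, map_mul, map_inv, hτ, mul_inv_rev, inv_inv]
    have hτk : τ (u ^ j) = (u ^ j)⁻¹ := by rw [map_pow, hτu, inv_pow]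
    refine ⟨x * (u ^ j)⁻¹, u ^ j, ?_, hτk, Subgroup.pow_mem _ (Subgroup.mem_zpowers u) j, by group⟩
    have hτx : τ x = x * u⁻¹ := by rw [hu]; group
    rw [map_mul, map_inv, hτk, inv_inv, hτx, show u⁻¹ = (u ^ j * u ^ j)⁻¹ by rw [hj]]
    group
  obtain ⟨g₁, hg₁⟩ := hAc.exists_generator
  obtain ⟨a₀, ha₀⟩ := hφ g₁
  have ha₀A : φ a₀ ∈ A := ha₀ ▸ g₁.2
  have hgen : ∀ y ∈ A, ∃ j : ℤ, (φ a₀) ^ j = y := fun y hy => by
    obtain ⟨j, hj⟩ := Subgroup.mem_zpowers_iff.1 (hg₁ ⟨y, hy⟩)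
    exact ⟨j, by rw [ha₀, ← SubgroupClass.coe_zpow, hj]⟩
  -- the preimage is invariant
  have hτA : ∀ x, φ x ∈ A → φ (τ x) ∈ A := by
    intro x hx
    set N : Subgroup Y := ((A.comap φ).map τ.toMonoidHom).map φ with hN
    haveI h1 : ((A.comap φ).map τ.toMonoidHom).Normal :=
      Subgroup.Normal.map inferInstance τ.toMonoidHom τ.surjective
    have h2 : N.Normal := Subgroup.Normal.map h1 φ hφ
    have h3 : N ≤ Subgroup.zpowers (φ (τ a₀)) := by
      rintro _ ⟨_, ⟨p, hp, rfl⟩, rfl⟩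
      obtain ⟨j, hj⟩ := hgen _ (Subgroup.mem_comap.1 hp)
      have hw : φ ((a₀ ^ j)⁻¹ * p) = 1 := by rw [map_mul, map_inv, map_zpow, hj, inv_mul_cancel]
      have hwτ := hker _ hw
      rw [map_mul, map_inv, map_zpow] at hwτ
      refine Subgroup.mem_zpowers_iff.2 ⟨j, ?_⟩
      have h4 : τ p = (τ a₀) ^ j * ((a₀ ^ j)⁻¹ * p) := by rw [← hwτ, mul_inv_cancel_left]
      show _ = φ (τ p)
      rw [h4, map_mul, hw, mul_one, map_zpow]
    haveI : IsCyclic N := Subgroup.isCyclic_of_le h3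
    have h5 : Group.IsNilpotent N := by
      letI : CommGroup N := IsCyclic.commGroup
      exact CommGroup.isNilpotent
    exact hmax N h2 h5 ⟨τ x, ⟨x, hx, rfl⟩, rfl⟩
  have hinv : ∀ x, φ x ∈ A → φ (τ x) = (φ x)⁻¹ := by
    intro x hx
    obtain ⟨v, k, hv, hk, hku, hxk⟩ := dec x
    have hkA : φ k ∈ A := by
      obtain ⟨j, rfl⟩ := Subgroup.mem_zpowers_iff.1 hku
      rw [map_zpow, map_mul, map_inv]
      exact Subgroup.zpow_mem _ (mul_mem (inv_mem (hτA x hx)) hx) j
    have hvA : φ v ∈ A := by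
      rw [show v = x * k⁻¹ by rw [hxk]; group, map_mul, map_inv]
      exact mul_mem hx (inv_mem hkA)
    rw [hxk, map_mul τ, hv, hk, map_mul, map_mul, map_inv, hfix v hv hvA, one_mul, one_mul]
  have hKA : ∀ k, τ k = k⁻¹ → φ k ∈ A := by
    intro k hk
    have h2 : φ k * φ k ∈ A := by
      refine hself _ fun b hb => ?_
      obtain ⟨p, rfl⟩ := hφ b
      have h3 : φ (k * p * k⁻¹) ∈ A := by
        rw [map_mul, map_mul, map_inv]; exact hAn.conj_mem _ hb _
      have h4 := hinv _ h3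
      rw [map_mul τ, map_mul τ, map_inv τ, hk, inv_inv, map_mul, map_mul, map_inv,
        hinv p hb, map_mul, map_mul, map_inv] at h4
      have h5 := inv_inj.2 h4
      simp only [mul_inv_rev, inv_inv] at h5
      calc φ k * φ k * φ p = φ k * (φ k * φ p * (φ k)⁻¹) * φ k := by group
        _ = φ k * ((φ k)⁻¹ * φ p * φ k) * φ k := by rw [← h5]; group
        _ = φ p * (φ k * φ k) := by group
    obtain ⟨j, hj⟩ := hsq k
    rw [← hj, map_mul, map_pow, ← pow_add, ← two_mul, pow_mul, sq]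
    exact pow_mem h2 j
  obtain ⟨v₀, k₀, hv₀, hk₀, -, ha₀k⟩ := dec a₀
  have hk₀A := hKA k₀ hk₀
  have hφk₀ : φ k₀ = φ a₀ := by
    have hv₀A : φ v₀ ∈ A := by
      rw [show v₀ = a₀ * k₀⁻¹ by rw [ha₀k]; group, map_mul, map_inv]
      exact mul_mem ha₀A (inv_mem hk₀A)
    rw [ha₀k, map_mul, hfix v₀ hv₀ hv₀A, one_mul]
  have hiff : ∀ x, τ x = x⁻¹ ↔ x ∈ Subgroup.zpowers k₀ := by
    intro x
    constructor
    · intro hx
      obtain ⟨j, hj⟩ := hgen _ (hKA x hx)
      have hw : φ ((k₀ ^ j)⁻¹ * x) = 1 := by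
        rw [map_mul, map_inv, map_zpow, hφk₀, hj, inv_mul_cancel]
      have h1 := hker _ hw
      rw [map_mul, map_inv, map_zpow, hk₀, hx, inv_zpow, inv_inv] at h1
      have h2 : k₀ ^ j * k₀ ^ j = x * x :=
        calc k₀ ^ j * k₀ ^ j = k₀ ^ j * (k₀ ^ j * x⁻¹) * x := by group
          _ = k₀ ^ j * ((k₀ ^ j)⁻¹ * x) * x := by rw [h1]
          _ = x * x := by group
      have h3 : k₀ ^ j = x := H66.eq_of_sq_eq_sq (hord _) (hord _) h2
      exact Subgroup.mem_zpowers_iff.2 ⟨j, h3⟩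
    · intro hx
      obtain ⟨j, rfl⟩ := Subgroup.mem_zpowers_iff.1 hx
      rw [map_zpow, hk₀, inv_zpow]
  refine ⟨k₀, hiff, fun g x hx => ?_⟩
  obtain ⟨v, k, hv, hk, -, rfl⟩ := dec g
  have h1 : k * x * k⁻¹ ∈ Subgroup.zpowers k₀ :=
    mul_mem (mul_mem ((hiff k).1 hk) hx) (inv_mem ((hiff k).1 hk))
  rw [show v * k * x * (v * k)⁻¹ = v * (k * x * k⁻¹) * v⁻¹ by group, ← hiff, map_mul, map_mul,
    map_inv, hv, (hiff _).2 h1]
  group

variable {G : Type u} {Ω : Type*} [Group G] [Finite G] [MulAction G Ω] [FaithfulSMul G Ω] {a : Ω} {t : G}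
  {Q : Subgroup G}

open H66.R1 in
/-- The linear representation of the two-point stabiliser. -/
theorem exists_rep (hS : Cfsg.IsRankOneSetup G Ω a t Q)
    (h2 : ∃ x y : G, x ≠ 1 ∧ y ≠ 1 ∧ x ≠ y ∧ x * x = 1 ∧ y * y = 1 ∧ x * y = y * x) :
    ∃ (Y : Type u) (_ : Group Y) (φ : twoPt G a t →* Y) (A : Subgroup Y) (_ : A.Normal),
      Function.Surjective φ ∧ IsCyclic A ∧ (∀ g : Y, (∀ b ∈ A, g * b = b * g) → g ∈ A) ∧
      (∀ N : Subgroup Y, N.Normal → Group.IsNilpotent N → N ≤ A) ∧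
      (∀ v : twoPt G a t, (v : G) * t = t * (v : G) → φ v ∈ A → φ v = 1) ∧
      (∀ v : twoPt G a t, φ v = 1 ↔
        (v : G) ∈ Subgroup.centralizer (Cfsg.involutionsIn (stabilizer G a : Set G))) ∧
      (∀ V : Subgroup Y, V ⊓ A = ⊥ → IsCyclic V) := by
  classical
  set I := Cfsg.involutionsIn (stabilizer G a : Set G) with hI
  obtain ⟨hcen, hmul⟩ := Cfsg.Agent.S1130.result hS h2
  let EI : Subgroup G :=
    { carrier := I ∪ {1}
      one_mem' := Or.inr rfl
      mul_mem' := by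
        rintro x y (hx | hx) (hy | hy)
        · rcases hmul x hx y hy with h | h
          · exact Or.inr h
          · exact Or.inl h
        · rw [Set.mem_singleton_iff.1 hy, mul_one]; exact Or.inl hx
        · rw [Set.mem_singleton_iff.1 hx, one_mul]; exact Or.inl hy
        · rw [Set.mem_singleton_iff.1 hx, one_mul]; exact Or.inr hy
      inv_mem' := by
        rintro x (hx | hx)
        · rw [inv_eq_of_mul_eq_one_left hx.2.2]; exact Or.inl hx
        · rw [Set.mem_singleton_iff.1 hx, inv_one]; exact Or.inr rfl }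
  have hmem : ∀ x : G, x ∈ EI ↔ x ∈ I ∨ x = 1 := fun x => Iff.rfl
  letI : CommGroup EI :=
    { (inferInstance : Group EI) with
      mul_comm := by
        rintro ⟨x, hx⟩ ⟨y, hy⟩
        refine Subtype.ext (show x * y = y * x from ?_)
        rcases hx with hx | hx
        · rcases hy with hy | hy
          · exact (hcen x hx).2 y (hcen y hy).1
          · rw [Set.mem_singleton_iff.1 hy, mul_one, one_mul]
        · rw [Set.mem_singleton_iff.1 hx, mul_one, one_mul] }
  have hconj : ∀ d : twoPt G a t, ∀ x ∈ EI, (d : G) * x * (d : G)⁻¹ ∈ EI := by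
    rintro d x (hx | hx)
    · exact Or.inl (conj_involutionsIn hS hx (mem_twoPt.1 d.2).1)
    · rw [Set.mem_singleton_iff.1 hx, mul_one, mul_inv_cancel]; exact Or.inr rfl
  let aut : twoPt G a t → MulAut EI := fun d =>
    { toFun := fun x => ⟨(d : G) * x * (d : G)⁻¹, hconj d x x.2⟩
      invFun := fun x => ⟨(d : G)⁻¹ * x * (d : G), by simpa using hconj d⁻¹ x x.2⟩
      left_inv := fun x => Subtype.ext (by simp [mul_assoc])
      right_inv := fun x => Subtype.ext (by simp [mul_assoc])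
      map_mul' := fun x y => Subtype.ext (by simp [mul_assoc]) }
  let ψ : twoPt G a t →* MulAut EI :=
    { toFun := aut
      map_one' := MulEquiv.ext fun x => Subtype.ext (by simp [aut])
      map_mul' := fun d e => MulEquiv.ext fun x => Subtype.ext (by simp [aut, mul_assoc]) }
  letI act : DistribMulAction ψ.range (Additive EI) :=
    { smul := fun g x => Additive.ofMul ((g : MulAut EI) x.toMul)
      one_smul := fun x => rfl
      mul_smul := fun g h x => rfl
      smul_zero := fun g => congrArg Additive.ofMul (map_one (g : MulAut EI))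
      smul_add := fun g x y => congrArg Additive.ofMul (map_mul (g : MulAut EI) x.toMul y.toMul) }
  haveI : FaithfulSMul ψ.range (Additive EI) := ⟨fun {g h} hgh =>
    Subtype.ext (MulEquiv.ext fun x => Additive.ofMul.injective (hgh (Additive.ofMul x)))⟩
  obtain ⟨s₁, hs₁⟩ := exists_invol hS
  haveI : Nontrivial (Additive EI) :=
    ⟨⟨Additive.ofMul ⟨s₁, Or.inl hs₁⟩, 0, fun h => hs₁.2.1 (congrArg Subtype.val h)⟩⟩
  have hne : ∀ x : Additive EI, x ≠ 0 → ((x.toMul : EI) : G) ∈ I := by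
    intro x hx
    rcases x.toMul.2 with h | h
    · exact h
    · exact absurd (show x = 0 from Additive.toMul.injective (Subtype.ext h)) hx
  have hodd : Odd (Nat.card ψ.range) := Odd.of_dvd_nat hS.odd_card (Subgroup.card_range_dvd ψ)
  have hE : ∀ x : Additive EI, 2 • x = 0 := fun x => Additive.toMul.injective (Subtype.ext (by
    rw [toMul_nsmul, toMul_zero, SubmonoidClass.coe_pow, OneMemClass.coe_one]
    rcases x.toMul.2 with h | h
    · rw [sq]; exact h.2.2
    · rw [Set.mem_singleton_iff.1 h, one_pow]))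
  have htrans : ∀ x y : Additive EI, x ≠ 0 → y ≠ 0 → ∃ g : ψ.range, g • x = y := by
    intro x y hx hy
    obtain ⟨k, hk, hke⟩ := exists_conj_inverted hS (hne x hx) (hne y hy)
    refine ⟨⟨ψ ⟨k⁻¹, inv_mem hk.1⟩, _, rfl⟩, ?_⟩
    refine Additive.toMul.injective (Subtype.ext ?_)
    show k⁻¹ * _ * k⁻¹⁻¹ = _
    rw [inv_inv]
    exact hke
  obtain ⟨A, hAn, hAc, hfpf, -, hself, hmax, hVc⟩ :=
    H66.TransLinOdd.exists_core hodd Nat.prime_two hE htrans
  refine ⟨ψ.range, inferInstance, ψ.rangeRestrict, A, hAn, ψ.rangeRestrict_surjective, hAc, hself,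
    hmax, ?_, ?_, hVc⟩
  · intro v hvt hvA
    by_contra hne1
    obtain ⟨⟨s₀, r₀⟩, ⟨hs₀, hr₀, he₀⟩, -⟩ := exists_pair hS
    simp only [] at hs₀ hr₀ he₀
    have hvs := (centralizer_pair hS hs₀ hr₀ he₀ v.2).1 hvt
    have hs0 : (Additive.ofMul (⟨s₀, Or.inl hs₀⟩ : EI)) ≠ 0 := fun h =>
      hs₀.2.1 (congrArg Subtype.val h)
    refine hs0 (hfpf _ hvA hne1 _ ?_)
    refine Additive.toMul.injective (Subtype.ext ?_)
    show (v : G) * s₀ * (v : G)⁻¹ = s₀
    rw [hvs, mul_inv_cancel_right]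
  · intro v
    rw [Subgroup.mem_centralizer_iff]
    constructor
    · intro h s hs
      have h1 := congrArg (fun g : ψ.range => (((g : MulAut EI) ⟨s, Or.inl hs⟩ : EI) : G)) h
      have h2 : (v : G) * s * (v : G)⁻¹ = s := h1
      exact (mul_inv_eq_iff_eq_mul.1 h2).symm
    · intro h
      refine Subtype.ext (MulEquiv.ext fun x => Subtype.ext ?_)
      show (v : G) * x * (v : G)⁻¹ = x
      rcases x.2 with hx | hx
      · rw [← h x hx, mul_inv_cancel_right]
      · rw [Set.mem_singleton_iff.1 hx, mul_one, mul_inv_cancel]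

end H66.RankOneLin
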