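import Cfsg.Agent.H66.FeitDegree
import Cfsg.Agent.H28.ClassGraph
import Cfsg.Agent.H12.Integral
import Cfsg.Agent.H16.FeitSibley
import Cfsg.Agent.H16.Signed
import Cfsg.Agent.H12.Transport

/-!
In a simple group with a TI subgroup `U` of index `d ≥ 3` in its normaliser `L`, `L / U` abelian,
`[G : L] = |U| + 1` and coherent exceptional characters, one has `|U| - 1 ≤ 2 d`.
-/

set_option autoImplicit false

open Cfsg
open scoped ComplexConjugate

namespace H66.Feit

universe u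

variable {G : Type u} [Group G] [Fintype G]

theorem index_aux [IsSimpleGroup G] (U L : Subgroup G) [Fintype ↥L] (hUL : U ≤ L)
    (hKn : (U.subgroupOf L).Normal)
    (hC' : ∀ n ∈ U.subgroupOf L, n ≠ 1 → Subgroup.centralizer ({n} : Set ↥L) ≤ U.subgroupOf L)
    (hτ0 : ∀ α ∈ zspanOn (inducedIrrAbove (U.subgroupOf L) ⊥) {1}ᶜ, indFun L α 1 = 0)
    (hnil : Group.IsNilpotent U)
    (hab : ∀ x y : ↥L, ((x * y * x⁻¹ * y⁻¹ : ↥L) : G) ∈ U)
    (hfix : ∀ g : G, ∀ u ∈ U, u ≠ 1 → g⁻¹ * u * g ∈ L → g ∈ L)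
    (hindex : L.index = Nat.card U + 1)
    {d : ℕ} (hdidx : (U.subgroupOf L).index = d) (hd : 3 ≤ d)
    (hN : 3 * d + 1 ≤ Nat.card U)
    (hcoh : IsCoherent (inducedIrrAbove (U.subgroupOf L) ⊥) {1}ᶜ
      (fun α => indFun L α)) : False := by
  classical
  set K := U.subgroupOf L with hK
  haveI : K.Normal := hKn
  have hKcard : Nat.card K = Nat.card U :=
    Nat.card_congr (Subgroup.subgroupOfEquivOfLe hUL).toEquiv
  set N := Nat.card U with hNdef
  have hLcard : Nat.card L = N * d := by rw [← K.card_mul_index, hKcard, hdidx]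
  have hGcard : Nat.card G = N * (N + 1) * d := by
    rw [← L.card_mul_index, hindex, hLcard]; ring
  haveI : Fintype K := Fintype.ofFinite K
  set S := inducedIrrAbove K ⊥ with hS
  obtain ⟨⟨α₀, hα₀, hα₀ne⟩, τ₁, hτ₁, hτ₁eq⟩ := hcoh
  have hirr : ∀ φ ∈ S, IsIrrCharacter L φ := fun φ h => H16.frob_irr_mem K hC' h
  -- a member of degree `d`
  haveI hKnil : Group.IsNilpotent K := by
    haveI := hnil
    exact Group.nilpotent_of_mulEquiv
      (Subgroup.subgroupOfEquivOfLe hUL).symm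
  haveI : Nontrivial K := Finite.one_lt_card_iff_nontrivial.mp (by rw [hKcard]; nlinarith)
  obtain ⟨f₁, hf₁⟩ : ∃ f : K →* ℂˣ, f ≠ 1 := by
    by_contra hall
    push Not at hall
    haveI : Subsingleton (K →* ℂˣ) := ⟨fun f g => (hall f).trans (hall g).symm⟩
    have h1 : (commutator K).index = 1 := by
      rw [← H12.card_monoidHom_units]; exact Nat.card_unique
    exact (IsSolvable.commutator_lt_top_of_nontrivial (G := K)).ne (Subgroup.index_eq_one.mp h1)
  set θ₁ : K → ℂ := fun k => (f₁ k : ℂ) with hθ₁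
  have hθ₁irr : IsIrrCharacter K θ₁ := H12.isIrrCharacter_monoidHom f₁
  have hθ₁ne : θ₁ ≠ fun _ => 1 := fun h => hf₁ (MonoidHom.ext fun k =>
    Units.ext (congrFun h k))
  have hmemS : ∀ θ : K → ℂ, IsIrrCharacter K θ → θ ≠ (fun _ => 1) → indFun K θ ∈ S :=
    fun θ h1 h2 => ⟨θ, h1, h2, fun k hk => congrArg θ (Subtype.ext (Subgroup.mem_bot.mp hk)), rfl⟩
  set φ₁ := indFun K θ₁ with hφ₁
  have hφ₁S : φ₁ ∈ S := hmemS θ₁ hθ₁irr hθ₁ne
  -- degrees of the members of `S`
  have hdeg : ∀ φ ∈ S, ∃ n : ℕ, 0 < n ∧ φ 1 = ((d * n : ℕ) : ℂ) := by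
    rintro φ ⟨θ, hθ, -, -, rfl⟩
    obtain ⟨n, hn, hn1⟩ := H16.irr_one hθ
    exact ⟨n, hn, by rw [H16.ind_apply_one, hdidx, hn1, Nat.cast_mul]⟩
  choose! nn hnn0 hnn using hdeg
  have hnn1 : nn φ₁ = 1 := by
    have h := hnn φ₁ hφ₁S
    rw [hφ₁, H16.ind_apply_one, hdidx] at h
    simp only [hθ₁, map_one, Units.val_one, mul_one, Nat.cast_inj] at h
    exact Nat.eq_of_mul_eq_mul_left (by omega) (h.symm.trans (mul_one d).symm)
  -- the isometry and its signs
  have hmemA : ∀ {α : L → ℂ}, α ∈ zspan S → α 1 = 0 → α ∈ zspanOn S {1}ᶜ := fun h1 h2 =>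
    H16.mem_zspanOn_one.mpr ⟨h1, h2⟩
  obtain ⟨ε, hε, hX, hτinj⟩ := H16.uniform_signs S hirr φ₁ hφ₁S τ₁ hτ₁ (fun α h1 h2 => by
    rw [hτ₁eq α (hmemA h1 h2)]; exact hτ0 α (hmemA h1 h2))
  let X : (L → ℂ) → (G → ℂ) := fun φ => ε • τ₁ φ
  have hεε : ε * ε = 1 := by rcases hε with h | h <;> rw [h] <;> norm_num
  have hεconj : conj ε = ε := by rcases hε with h | h <;> rw [h] <;> simp
  have hXirr : ∀ φ ∈ S, IsIrrCharacter G (X φ) := hX
  have hXinj : ∀ φ ∈ S, ∀ ψ ∈ S, X φ = X ψ → φ = ψ := fun φ hφ ψ hψ h => hτinj φ hφ ψ hψ (by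
    have := congrArg (fun f : G → ℂ => ε • f) h
    simpa [X, smul_smul, hεε] using this)
  have hτX : ∀ φ ∈ S, τ₁ φ = ε • X φ := fun φ _ => by simp [X, smul_smul, hεε]
  let α : (L → ℂ) → (L → ℂ) := fun φ => φ - (nn φ : ℤ) • φ₁
  have hαspan : ∀ φ ∈ S, α φ ∈ zspan S := fun φ hφ =>
    H16.zspan_sub (H16.zspan_of_mem hφ) (H16.zspan_zsmul _ (H16.zspan_of_mem hφ₁S))
  have hα1 : ∀ φ ∈ S, α φ 1 = 0 := fun φ hφ => by
    simp only [α, Pi.sub_apply, zsmul_eq_mul, Pi.mul_apply, Pi.intCast_apply, hnn φ hφ, hnn φ₁ hφ₁S, hnn1]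
    push_cast
    ring
  have hτα : ∀ φ ∈ S, indFun L (α φ) = ε • (X φ - (nn φ : ℤ) • X φ₁) := fun φ hφ => by
    rw [show indFun L (α φ) = τ₁ (α φ) from (hτ₁eq _ (hmemA (hαspan φ hφ) (hα1 φ hφ))).symm,
      H16.iso_sub' hτ₁ (H16.zspan_of_mem hφ) (H16.zspan_zsmul _ (H16.zspan_of_mem hφ₁S)),
      hτ₁.2.1 _ (H16.zspan_of_mem hφ₁S), hτX φ hφ, hτX φ₁ hφ₁S, smul_sub, smul_comm ε (nn φ : ℤ)]
  obtain ⟨x, hx0, hx⟩ := H16.irr_one (hXirr φ₁ hφ₁S)
  have hXdeg : ∀ φ ∈ S, X φ 1 = ((nn φ * x : ℕ) : ℂ) := fun φ hφ => by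
    have h := hτ0 _ (hmemA (hαspan φ hφ) (hα1 φ hφ))
    rw [hτα φ hφ] at h
    have hε0 : ε ≠ 0 := fun e => by rw [e, mul_zero] at hεε; exact zero_ne_one hεε
    simp only [Pi.smul_apply, smul_eq_mul, Pi.sub_apply, zsmul_eq_mul, Pi.mul_apply,
      Pi.intCast_apply, mul_eq_zero, hε0, false_or, sub_eq_zero] at h
    rw [h, hx]
    push_cast
    ring
  -- Frobenius reciprocity against a class function of `G`
  have hrecip : ∀ φ ∈ S, ∀ χ : G → ℂ, IsClassFunction G χ →
      classInner φ (fun l : L => χ l) - (nn φ : ℂ) * classInner φ₁ (fun l : L => χ l)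
        = ε * (classInner (X φ) χ - (nn φ : ℂ) * classInner (X φ₁) χ) := by
    intro φ hφ χ hχ
    have h := H12.classInner_indFun L (α φ) hχ
    rw [hτα φ hφ, H16.ci_smul_left, H16.ci_sub_left, H16.ci_zsmul_left] at h
    simp only [α] at h
    rw [H16.ci_sub_left, H16.ci_zsmul_left] at h
    push_cast at h
    linear_combination -h
  -- sums over the non-principal irreducible characters of `K`
  have hone : ∀ θ : IrrCharacter K, θ ≠ H12.oneIrr K → indFun K (θ : K → ℂ) ∈ S := fun θ hθ =>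
    hmemS θ θ.2 (fun h => hθ (Subtype.ext h))
  have hθdeg : ∀ θ : IrrCharacter K, θ ≠ H12.oneIrr K →
      (θ : K → ℂ) 1 = (nn (indFun K (θ : K → ℂ)) : ℂ) := fun θ hθ => by
    have h := hnn _ (hone θ hθ)
    rw [H16.ind_apply_one, hdidx, Nat.cast_mul] at h
    exact mul_left_cancel₀ (Nat.cast_ne_zero.mpr (by omega)) h
  have hsumsq : ∑ θ ∈ (Finset.univ : Finset (IrrCharacter K)).erase (H12.oneIrr K),
      (θ : K → ℂ) 1 ^ 2 = ((N : ℂ) - 1) := by
    rw [Finset.sum_erase_eq_sub (Finset.mem_univ _), H12.sum_degree_sq, hKcard, H12.oneIrr_apply,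
      one_pow]
  -- for a character `χ` of `G`: the multiplicity data
  have hmult : ∀ χ : G → ℂ, IsCharacter G χ →
      ∃ m : ℕ, classInner (fun _ : K => (1 : ℂ)) (fun k : K => χ ((k : L) : G)) = m ∧
        χ 1 = (m : ℂ) + ∑ θ ∈ (Finset.univ : Finset (IrrCharacter K)).erase (H12.oneIrr K),
          (θ : K → ℂ) 1 * classInner (indFun K (θ : K → ℂ)) (fun l : L => χ l) := by
    intro χ hχ
    have hres : IsCharacter K (fun k : K => χ ((k : L) : G)) :=
      H12.IsCharacter.res (H12.IsCharacter.res hχ L) K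
    obtain ⟨m, hm⟩ := H12.IsCharacter.classInner_nat H12.isCharacter_one hres
    refine ⟨m, hm, ?_⟩
    have h := sum_one_inner (G := K) (H12.IsCharacter.isClassFunction hres)
    rw [← Finset.add_sum_erase _ _ (Finset.mem_univ (H12.oneIrr K))] at h
    have hc : classInner (fun k : K => χ ((k : L) : G)) (H12.oneIrr K : K → ℂ) = m := by
      rw [← H12.conj_classInner]
      show conj (classInner (fun _ : K => (1 : ℂ)) _) = _
      rw [hm, Complex.conj_natCast]
    rw [hc, H12.oneIrr_apply, mul_one] at h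
    have h1' : χ 1 = χ (((1 : K) : L) : G) := by simp only [OneMemClass.coe_one]
    rw [h1', ← h]
    congr 1
    refine Finset.sum_congr rfl fun θ _ => ?_
    obtain ⟨c, hc'⟩ := H12.IsCharacter.classInner_nat (H12.isCharacter_irr θ) hres
    rw [← H12.conj_classInner, hc', Complex.conj_natCast,
      H12.classInner_indFun K _ (H12.isClassFunction_res (H12.IsCharacter.isClassFunction hχ) L),
      hc', mul_comm]
  -- `x ^ 2 (N - 1) ≤ N (N + 1) d ^ 2`
  have hSfin : S.Finite := H16.indSet_finite K ⊥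
  set F := hSfin.toFinset with hF
  have hFmem : ∀ {φ}, φ ∈ F ↔ φ ∈ S := fun {φ} => hSfin.mem_toFinset
  have hFsum : (∑ φ ∈ F, nn φ ^ 2) * d = N - 1 := by
    have h := H16.sum_wt K ⊥ F (Set.Finite.coe_toFinset _)
    have hw : ∀ φ ∈ F, H16.wt φ = ((d * d * nn φ ^ 2 : ℕ) : ℝ) := fun φ hφ => by
      rw [H16.wt, hnn φ (hFmem.mp hφ), H16.ci_irr_self (hirr φ (hFmem.mp hφ))]
      simp only [Complex.one_re, div_one, Complex.natCast_re]
      push_cast
      ring
    rw [Finset.sum_congr rfl hw, ← Nat.cast_sum, ← Finset.mul_sum, Subgroup.relIndex_bot_left,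
      hKcard, hdidx, ← Nat.cast_one (R := ℝ), ← Nat.cast_sub (show 1 ≤ N by omega),
      ← Nat.cast_mul, Nat.cast_inj, mul_assoc] at h
    rw [mul_comm]
    exact Nat.eq_of_mul_eq_mul_left (by omega) h
  -- a second member of `S`
  obtain ⟨φ₂, hφ₂S, hφ₂ne⟩ : ∃ φ ∈ S, φ ≠ φ₁ := by
    by_contra hall
    push Not at hall
    apply hα₀ne
    obtain ⟨h1, h2⟩ := H16.mem_zspanOn_one.mp hα₀
    have hsub : S ⊆ {φ₁} := fun φ hφ => hall φ hφ
    obtain ⟨z, hz⟩ := Submodule.mem_span_singleton.mp (Submodule.span_mono hsub h1 :)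
    rw [← hz, Pi.smul_apply, zsmul_eq_mul, hnn φ₁ hφ₁S, hnn1, mul_eq_zero] at h2
    rcases h2 with h2 | h2
    · rw [Int.cast_eq_zero] at h2; rw [← hz, h2, zero_smul]
    · exact absurd h2 (Nat.cast_ne_zero.mpr (by omega))
  -- coefficient of an irreducible character
  have hcoef : ∀ χ : IrrCharacter G, ∃ c : ℤ, (0 : ℤ) ≤ c ∧ ∀ φ ∈ S,
      classInner φ (fun l : L => (χ : G → ℂ) l)
        = (c : ℂ) * nn φ + ε * classInner (X φ) (χ : G → ℂ) := by
    intro χ
    have hXχ : ∀ φ ∈ S, classInner (X φ) (χ : G → ℂ) = if X φ = (χ : G → ℂ) then 1 else 0 :=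
      fun φ hφ => H16.irr_inner (hXirr φ hφ) χ.2
    obtain ⟨c₁, hc₁⟩ := res_nat (H12.isCharacter_of_isIrrCharacter (hirr φ₁ hφ₁S))
      (H12.isCharacter_irr χ)
    obtain ⟨e, he⟩ : ∃ e : ℤ, ε * classInner (X φ₁) (χ : G → ℂ) = (e : ℂ) := by
      rw [hXχ φ₁ hφ₁S]
      rcases hε with h | h <;> split_ifs <;> rw [h]
      · exact ⟨1, by norm_num⟩
      · exact ⟨0, by norm_num⟩
      · exact ⟨-1, by norm_num⟩
      · exact ⟨0, by norm_num⟩
    have hall : ∀ φ ∈ S, classInner φ (fun l : L => (χ : G → ℂ) l)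
        = ((c₁ - e : ℤ) : ℂ) * nn φ + ε * classInner (X φ) (χ : G → ℂ) := fun φ hφ => by
      have h := hrecip φ hφ _ (H12.irr_isClassFunction χ)
      rw [hc₁] at h
      push_cast
      linear_combination h - (nn φ : ℂ) * he
    refine ⟨c₁ - e, ?_, hall⟩
    -- some member is not `χ`
    obtain ⟨φ, hφ, hne⟩ : ∃ φ ∈ S, X φ ≠ (χ : G → ℂ) := by
      by_cases h : X φ₁ = (χ : G → ℂ)
      · exact ⟨φ₂, hφ₂S, fun h' => hφ₂ne (hXinj _ hφ₂S _ hφ₁S (h'.trans h.symm))⟩
      · exact ⟨φ₁, hφ₁S, h⟩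
    obtain ⟨c, hc⟩ := res_nat (H12.isCharacter_of_isIrrCharacter (hirr φ hφ)) (H12.isCharacter_irr χ)
    have h := hall φ hφ
    rw [hc, hXχ φ hφ, if_neg hne, mul_zero, add_zero] at h
    have h' : (c : ℤ) = (c₁ - e) * nn φ := by exact_mod_cast h
    have := hnn0 φ hφ
    nlinarith
  -- the degree in terms of the coefficient
  have hφK : ∀ φ ∈ S, ∑ θ ∈ (Finset.univ : Finset (IrrCharacter K)).erase (H12.oneIrr K),
      (θ : K → ℂ) 1 * classInner (indFun K (θ : K → ℂ)) φ = ((d * nn φ : ℕ) : ℂ) := by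
    intro φ hφ
    have hres : IsCharacter K (fun k : K => φ (k : L)) :=
      H12.IsCharacter.res (H12.isCharacter_of_isIrrCharacter (hirr φ hφ)) K
    have hone0 : classInner (fun k : K => φ (k : L)) (H12.oneIrr K : K → ℂ) = 0 := by
      obtain ⟨θ, hθ, hne, -, rfl⟩ := hφ
      rw [← H12.classInner_indFun_right K _ (H12.indFun_isClassFunction K θ)]
      by_contra h
      have heq := H16.ind_eq_of_inner_ne K hθ (H12.oneIrr K).2 h
      have h1 : IsIrrCharacter L (indFun K (H12.oneIrr K : K → ℂ)) := by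
        rw [heq]; exact H16.frob_irr K hC' hθ hne
      have h2 : classInner (indFun K (H12.oneIrr K : K → ℂ)) (fun _ : L => (1 : ℂ)) = 1 := by
        rw [H12.classInner_indFun K _ (fun _ _ => rfl)]
        exact H12.classInner_irr_self (H12.oneIrr K)
      have h3 : indFun K (H12.oneIrr K : K → ℂ) = fun _ => 1 := by
        by_contra h3
        rw [H16.ci_irr_ne h1 H12.isIrrCharacter_one h3] at h2
        exact zero_ne_one h2
      have h4 := congrFun h3 1
      rw [H16.ind_apply_one, hdidx, H12.oneIrr_apply, mul_one, Nat.cast_eq_one] at h4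
      omega
    have h := sum_one_inner (G := K) (H12.IsCharacter.isClassFunction hres)
    rw [← Finset.add_sum_erase _ _ (Finset.mem_univ (H12.oneIrr K)), hone0, zero_mul, zero_add] at h
    rw [← hnn φ hφ, show φ 1 = φ ((1 : K) : L) by simp only [OneMemClass.coe_one], ← h]
    refine Finset.sum_congr rfl fun θ _ => ?_
    obtain ⟨c, hc⟩ := H12.IsCharacter.classInner_nat (H12.isCharacter_irr θ) hres
    rw [H12.classInner_indFun K _ (H12.IsCharacter.isClassFunction
        (H12.isCharacter_of_isIrrCharacter (hirr φ hφ))),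
      ← H12.conj_classInner (θ : K → ℂ) (fun k : K => φ (k : L)), hc, Complex.conj_natCast, mul_comm]
  have hdegree : ∀ χ : IrrCharacter G, ∀ c : ℤ, (∀ φ ∈ S, classInner φ (fun l : L => (χ : G → ℂ) l)
        = (c : ℂ) * nn φ + ε * classInner (X φ) (χ : G → ℂ)) →
      ∃ m : ℕ, classInner (fun _ : K => (1 : ℂ)) (fun k : K => (χ : G → ℂ) ((k : L) : G)) = m ∧
        ((∀ φ ∈ S, X φ ≠ (χ : G → ℂ)) → (χ : G → ℂ) 1 = m + c * ((N : ℂ) - 1)) ∧
        ∀ ψ ∈ S, X ψ = (χ : G → ℂ) → (χ : G → ℂ) 1 = m + c * ((N : ℂ) - 1) + ε * (d * nn ψ) := by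
    intro χ c hc
    obtain ⟨m, hm, hsum⟩ := hmult _ (H12.isCharacter_irr χ)
    refine ⟨m, hm, fun hno => ?_, fun ψ hψ hψχ => ?_⟩
    · rw [hsum, ← hsumsq, Finset.mul_sum]
      congr 1
      refine Finset.sum_congr rfl fun θ hθ => ?_
      have hθ' := Finset.ne_of_mem_erase hθ
      rw [hc _ (hone θ hθ'), hθdeg θ hθ', H16.ci_irr_ne (hXirr _ (hone θ hθ')) χ.2
        (hno _ (hone θ hθ')), mul_zero, add_zero]
      ring
    · rw [hsum, ← hsumsq, Finset.mul_sum, add_assoc]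
      congr 1
      have e := hφK ψ hψ
      rw [Nat.cast_mul] at e
      rw [← e, Finset.mul_sum, ← Finset.sum_add_distrib]
      refine Finset.sum_congr rfl fun θ hθ => ?_
      have hθ' := Finset.ne_of_mem_erase hθ
      rw [hc _ (hone θ hθ'), hθdeg θ hθ', H16.irr_inner (hirr _ (hone θ hθ')) (hirr ψ hψ), ← hψχ,
        H16.irr_inner (hXirr _ (hone θ hθ')) (hXirr ψ hψ)]
      by_cases h : indFun K (θ : K → ℂ) = ψ
      · rw [if_pos h, if_pos (by rw [h])]; ring
      · rw [if_neg h, if_neg (fun h' => h (hXinj _ (hone θ hθ') _ hψ h'))]; ring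
  set s := ∑ φ ∈ F, nn φ ^ 2 with hsdef
  have hs3 : 3 ≤ s := by
    by_contra h
    have h' : s * d ≤ 2 * d := Nat.mul_le_mul_right d (by omega)
    omega
  have hNeq : N = s * d + 1 := by omega
  -- the exceptional characters
  let χX : F → IrrCharacter G := fun φ => ⟨X φ, hXirr _ (hFmem.mp φ.2)⟩
  have hχXinj : Function.Injective χX := fun φ ψ h => Subtype.ext
    (hXinj _ (hFmem.mp φ.2) _ (hFmem.mp ψ.2) (congrArg Subtype.val h))
  have hdegX : ∀ φ : F, H12.degree (χX φ : G → ℂ) = nn φ.1 * x := fun φ => by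
    have h := (H12.irr_apply_one (χX φ)).symm.trans (hXdeg _ (hFmem.mp φ.2))
    exact_mod_cast h
  set E := Finset.univ.image χX with hE
  have hEmem : ∀ χ : IrrCharacter G, χ ∈ E ↔ ∃ φ ∈ S, X φ = (χ : G → ℂ) := fun χ => by
    constructor
    · intro h
      obtain ⟨φ, -, rfl⟩ := Finset.mem_image.mp h
      exact ⟨φ.1, hFmem.mp φ.2, rfl⟩
    · rintro ⟨φ, hφ, h⟩
      exact Finset.mem_image.mpr ⟨⟨φ, hFmem.mpr hφ⟩, Finset.mem_univ _, Subtype.ext h⟩
  -- linear characters of `L` trivial on `K`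
  haveI : Fintype (↥L ⧸ K) := Fintype.ofFinite _
  have hcommQ : ∀ p q : ↥L ⧸ K, p * q = q * p := by
    intro p q
    obtain ⟨p, rfl⟩ := QuotientGroup.mk_surjective p
    obtain ⟨q, rfl⟩ := QuotientGroup.mk_surjective q
    have h : (p * q * p⁻¹ * q⁻¹ : ↥L) ∈ K := hab p q
    rw [← QuotientGroup.eq_one_iff] at h
    simp only [QuotientGroup.mk_mul, QuotientGroup.mk_inv] at h
    exact mul_inv_eq_iff_eq_mul.mp (mul_inv_eq_one.mp h)
  let μ : IrrCharacter (↥L ⧸ K) → (↥L → ℂ) := fun ψ => (H12.inflate K ψ : ↥L → ℂ)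
  have hμch : ∀ ψ, IsCharacter L (μ ψ) := fun ψ => H12.isCharacter_irr (H12.inflate K ψ)
  let P : IrrCharacter (↥L ⧸ K) → (G → ℂ) := fun ψ => indFun L (μ ψ)
  have hPch : ∀ ψ, IsCharacter G (P ψ) := fun ψ => H12.IsCharacter.indFun (hμch ψ)
  have hP1 : ∀ ψ, P ψ 1 = ((N + 1 : ℕ) : ℂ) := fun ψ => by
    show indFun L (μ ψ) 1 = _
    rw [H12.indFun_one, hindex]
    show _ * (H12.inflate K ψ : ↥L → ℂ) 1 = _
    rw [H12.inflate_apply, QuotientGroup.mk_one, H12.irr_apply_one_of_comm hcommQ, mul_one]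
  choose k hk using fun ψ : IrrCharacter (↥L ⧸ K) => fun χ : IrrCharacter G =>
    res_nat (hμch ψ) (H12.isCharacter_irr χ)
  have hPχ : ∀ ψ, ∀ χ : IrrCharacter G, classInner (P ψ) (χ : G → ℂ) = (k ψ χ : ℂ) := fun ψ χ => by
    show classInner (indFun L (μ ψ)) _ = _
    rw [H12.classInner_indFun L _ (H12.irr_isClassFunction χ)]
    exact hk ψ χ
  have hPdeg : ∀ ψ, ∑ χ : IrrCharacter G, k ψ χ * H12.degree (χ : G → ℂ) = N + 1 := fun ψ => by
    have h := sum_one_inner (G := G) (H12.IsCharacter.isClassFunction (hPch ψ))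
    simp only [hPχ, H12.irr_apply_one, hP1] at h
    exact_mod_cast h
  -- the multiplicity of the trivial character of `K`
  have hmk : ∀ χ : IrrCharacter G,
      classInner (fun _ : K => (1 : ℂ)) (fun l : K => (χ : G → ℂ) ((l : L) : G))
        = ((∑ ψ, k ψ χ : ℕ) : ℂ) := by
    intro χ
    push_cast
    simp only [← hk]
    rw [← H12.classInner_sum_left]
    have hfun : (∑ ψ, μ ψ) = fun l : L => if l ∈ K then (d : ℂ) else 0 := by
      funext l
      rw [Finset.sum_apply]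
      have h := H12.regular_eq_sum (G := ↥L ⧸ K) (l : ↥L ⧸ K)
      simp only [H12.irr_apply_one_of_comm hcommQ, one_mul] at h
      show ∑ ψ, (H12.inflate K ψ : ↥L → ℂ) l = _
      simp only [H12.inflate_apply, h, QuotientGroup.eq_one_iff, ← Subgroup.index_eq_card, hdidx]
    rw [hfun, H12.classInner_def, H12.classInner_def]
    simp only [one_mul]
    have hsumK : ∑ l : L, (if l ∈ K then (d : ℂ) else 0) * conj ((χ : G → ℂ) l)
        = (d : ℂ) * ∑ l : K, conj ((χ : G → ℂ) ((l : L) : G)) := by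
      simp only [ite_mul, zero_mul]
      rw [← Finset.sum_filter, Finset.mul_sum]
      exact Finset.sum_subtype _ (fun l => by simp) _
    rw [hsumK, hLcard, hKcard, Nat.cast_mul]
    have hd0 : (d : ℂ) ≠ 0 := Nat.cast_ne_zero.mpr (by omega)
    field_simp
  -- the multiplicity at the trivial character of `G`
  set ψ₀ := H12.oneIrr (↥L ⧸ K) with hψ₀
  have hk1 : ∀ ψ, k ψ (H12.oneIrr G) = if ψ = ψ₀ then 1 else 0 := fun ψ => by
    have h := hk ψ (H12.oneIrr G)
    have h1 : (fun l : L => ((H12.oneIrr G : IrrCharacter G) : G → ℂ) l)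
        = (H12.inflate K ψ₀ : ↥L → ℂ) := funext fun l => by
      rw [H12.inflate_apply, hψ₀, H12.oneIrr_apply, H12.oneIrr_apply]
    rw [h1, H16.irr_inner (H12.inflate K ψ).2 (H12.inflate K ψ₀).2] at h
    by_cases hψ : ψ = ψ₀
    · rw [hψ, if_pos rfl] at h
      rw [if_pos hψ, hψ]
      exact_mod_cast h.symm
    · rw [if_neg (fun e => hψ (H12.inflate_injective K (Subtype.ext e)))] at h
      rw [if_neg hψ]
      exact_mod_cast h.symm
  have hdeg1 : H12.degree (H12.oneIrr G : G → ℂ) = 1 := by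
    have h := H12.irr_apply_one (H12.oneIrr G)
    rw [H12.oneIrr_apply] at h
    exact_mod_cast h.symm
  have hone_notE : H12.oneIrr G ∉ E := by
    intro h
    obtain ⟨φ, hφ, hXφ⟩ := (hEmem _).mp h
    have h0 : ∀ η ∈ S, classInner η (fun _ : L => (1 : ℂ)) = 0 := fun η hη =>
      H16.ci_irr_ne (hirr η hη) H12.isIrrCharacter_one (fun h => by
        have h' : d * nn η = 1 := by
          have := (congrFun h 1).symm.trans (hnn η hη)
          exact_mod_cast this.symm
        have := Nat.eq_one_of_mul_eq_one_right h'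
        omega)
    have hε0 : ε ≠ 0 := fun e => by rw [e, mul_zero] at hεε; exact zero_ne_one hεε
    have hX1 : ∀ η ∈ S, classInner (X η) (H12.oneIrr G : G → ℂ) = if η = φ then 1 else 0 :=
      fun η hη => by
        rw [H16.irr_inner (hXirr η hη) (H12.oneIrr G).2]
        by_cases he : η = φ
        · rw [if_pos he, if_pos (by rw [he]; exact hXφ)]
        · rw [if_neg he, if_neg (fun e => he (hXinj η hη φ hφ (e.trans hXφ.symm)))]
    have key : ∀ η ∈ S, classInner (X η) (H12.oneIrr G : G → ℂ)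
        = (nn η : ℂ) * classInner (X φ₁) (H12.oneIrr G : G → ℂ) := fun η hη => by
      have h := hrecip η hη _ (H12.irr_isClassFunction (H12.oneIrr G))
      simp only [H12.oneIrr_apply] at h
      rw [h0 η hη, h0 φ₁ hφ₁S, mul_zero, sub_zero, eq_comm, mul_eq_zero] at h
      exact sub_eq_zero.mp (h.resolve_left hε0)
    by_cases he : φ = φ₁
    · have h2 := key φ₂ hφ₂S
      rw [hX1 φ₂ hφ₂S, hX1 φ₁ hφ₁S, if_pos he.symm, if_neg (fun e => hφ₂ne (e.trans he)),
        mul_one] at h2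
      have := hnn0 φ₂ hφ₂S
      have h3 : nn φ₂ = 0 := by exact_mod_cast h2.symm
      omega
    · have h2 := key φ hφ
      rw [hX1 φ hφ, hX1 φ₁ hφ₁S, if_pos rfl, if_neg (Ne.symm he), mul_zero] at h2
      exact one_ne_zero h2
  -- non-exceptional non-trivial characters
  have hother : ∀ χ : IrrCharacter G, χ ∉ E → χ ≠ H12.oneIrr G →
      ∃ c : ℕ, 0 < c ∧ H12.degree (χ : G → ℂ) = (∑ ψ, k ψ χ) + c * (N - 1) ∧
        classInner φ₁ (fun l : L => (χ : G → ℂ) l) = (c : ℂ) := by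
    intro χ hχE hχ1
    have hno : ∀ φ ∈ S, X φ ≠ (χ : G → ℂ) := fun φ hφ h => hχE ((hEmem χ).mpr ⟨φ, hφ, h⟩)
    obtain ⟨c, hc0, hc⟩ := hcoef χ
    obtain ⟨m, hm, hd1, -⟩ := hdegree χ c hc
    have hmeq : m = ∑ ψ, k ψ χ := by
      have := hm.symm.trans (hmk χ)
      exact_mod_cast this
    have h := hd1 hno
    rw [H12.irr_apply_one] at h
    have h' : (H12.degree (χ : G → ℂ) : ℤ) = m + c * ((N : ℤ) - 1) := by exact_mod_cast h
    rcases eq_or_lt_of_le hc0 with hc00 | hc00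
    · exfalso
      subst hc00
      rw [zero_mul, add_zero] at h'
      have hconst : ∀ l : K, (χ : G → ℂ) ((l : L) : G) = (χ : G → ℂ) 1 := by
        intro l
        have hres : IsCharacter K (fun l : K => (χ : G → ℂ) ((l : L) : G)) :=
          H12.IsCharacter.res (H12.IsCharacter.res (H12.isCharacter_irr χ) L) K
        have hexp := H12.classFunction_apply_eq_sum (H12.IsCharacter.isClassFunction hres) l
        rw [Finset.sum_eq_single (H12.oneIrr K) (fun θ _ hθ => ?_) (by simp)] at hexp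
        · rw [hexp, H12.oneIrr_apply, mul_one, ← H12.conj_classInner, show
            classInner (H12.oneIrr K : K → ℂ) (fun l : K => (χ : G → ℂ) ((l : L) : G)) = m from hm,
            Complex.conj_natCast, H12.irr_apply_one]
          exact_mod_cast h'.symm
        · rw [← H12.conj_classInner, ← H12.classInner_indFun K (θ : K → ℂ)
            (H12.isClassFunction_res (H12.irr_isClassFunction χ) L), hc _ (hone θ hθ),
            H16.ci_irr_ne (hXirr _ (hone θ hθ)) χ.2 (hno _ (hone θ hθ))]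
          simp
      haveI := H12.charKer_normal (H12.isCharacter_irr χ)
      have htop : H12.charKer (χ : G → ℂ) (H12.isCharacter_irr χ) = ⊤ := by
        refine (Subgroup.Normal.eq_bot_or_eq_top inferInstance).resolve_left fun hb => ?_
        obtain ⟨l, hl⟩ := exists_ne (1 : K)
        refine hl (Subtype.ext (Subtype.ext ?_))
        show ((l : L) : G) = 1
        rw [← Subgroup.mem_bot, ← hb]
        exact hconst l
      apply hχ1
      have hchi : (χ : G → ℂ) = fun _ => ((H12.degree (χ : G → ℂ) : ℕ) : ℂ) := funext fun g => by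
        rw [← H12.irr_apply_one]
        exact (H12.mem_charKer _).mp (htop ▸ Subgroup.mem_top g)
      have hn := H12.classInner_irr_self χ
      rw [hchi] at hn
      simp only [H12.classInner_def, Complex.conj_natCast, Finset.sum_const, Finset.card_univ,
        nsmul_eq_mul, ← Nat.card_eq_fintype_card] at hn
      rw [← mul_assoc, inv_mul_cancel₀ (Nat.cast_ne_zero.mpr Nat.card_pos.ne'), one_mul] at hn
      have hd1' : H12.degree (χ : G → ℂ) * H12.degree (χ : G → ℂ) = 1 := by exact_mod_cast hn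
      refine Subtype.ext (hchi.trans ?_)
      funext g
      rw [H12.oneIrr_apply, Nat.eq_one_of_mul_eq_one_right hd1', Nat.cast_one]
    · refine ⟨c.toNat, by omega, ?_, ?_⟩
      · rw [← Int.toNat_of_nonneg hc0, ← hmeq] at *
        have h'' : (H12.degree (χ : G → ℂ) : ℤ) = ((m + c.toNat * (N - 1) : ℕ) : ℤ) := by
          rw [h']; push_cast [show 1 ≤ N by omega]; ring
        exact_mod_cast h''
      · rw [hc φ₁ hφ₁S, H16.ci_irr_ne (hXirr φ₁ hφ₁S) χ.2 (hno φ₁ hφ₁S), mul_zero, add_zero, hnn1,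
          Nat.cast_one, mul_one]
        exact_mod_cast (Int.toNat_of_nonneg hc0).symm
  -- exceptional multiplicities in `P ψ`
  let χ₁ : IrrCharacter G := χX ⟨φ₁, hFmem.mpr hφ₁S⟩
  have hαψ : ∀ ψ, ∀ φ : F, k ψ (χX φ) = nn φ.1 * k ψ χ₁ := by
    intro ψ φ
    have hφ := hFmem.mp φ.2
    have hPu : ∀ l : L, l ∈ K → l ≠ 1 → P ψ (l : G) = 1 := by
      intro l hl hl1
      show indFun L (μ ψ) (l : G) = 1
      rw [H12.indFun_apply, ← Finset.sum_subset (s₁ := Finset.univ.filter fun y : G => y ∈ L)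
        (Finset.subset_univ _) (fun y _ hy => H12.extendByZero_of_notMem L _ (fun h => hy
          (Finset.mem_filter.mpr ⟨Finset.mem_univ _,
            hfix y (l : G) hl (fun e => hl1 (Subtype.ext e)) h⟩))),
        Finset.sum_subtype (Finset.univ.filter fun y : G => y ∈ L) (p := fun y => y ∈ L)
          (fun y => by simp)]
      have hterm : ∀ y : {y : G // y ∈ L},
          extendByZero L (μ ψ) ((y : G)⁻¹ * l * y) = 1 := by
        intro y
        have hm' : (⟨y.1, y.2⟩ : L)⁻¹ * l * ⟨y.1, y.2⟩ ∈ K := by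
          have := (inferInstance : K.Normal).conj_mem l hl (⟨y.1, y.2⟩ : L)⁻¹
          rwa [inv_inv] at this
        rw [show ((y : G)⁻¹ * l * y) = (((⟨y.1, y.2⟩ : L)⁻¹ * l * ⟨y.1, y.2⟩ : L) : G) from rfl,
          H12.extendByZero_coe]
        show (H12.inflate K ψ : ↥L → ℂ) _ = 1
        rw [H12.inflate_mem_kernel K ψ hm', H12.inflate_apply, QuotientGroup.mk_one,
          H12.irr_apply_one_of_comm hcommQ]
      rw [Finset.sum_congr rfl (fun y _ => hterm y), Finset.sum_const, Finset.card_univ,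
        nsmul_eq_mul, mul_one, ← Nat.card_eq_fintype_card,
        inv_mul_cancel₀ (Nat.cast_ne_zero.mpr Nat.card_pos.ne')]
    have hne : ∀ η ∈ S, classInner η (fun _ : L => (1 : ℂ)) = 0 := fun η hη =>
      H16.ci_irr_ne (hirr η hη) H12.isIrrCharacter_one (fun h => by
        have h' : d * nn η = 1 := by
          have := (congrFun h 1).symm.trans (hnn η hη)
          exact_mod_cast this.symm
        have := Nat.eq_one_of_mul_eq_one_right h'
        omega)
    have h2 : classInner (α φ.1) (fun l : L => P ψ l) = 0 := by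
      have h0 : classInner (α φ.1) (fun l : L => P ψ l)
          = classInner (α φ.1) (fun _ : L => (1 : ℂ)) := by
        rw [H12.classInner_def, H12.classInner_def]
        congr 1
        refine Finset.sum_congr rfl fun l _ => ?_
        by_cases hl : l ∈ K
        · by_cases hl1 : l = 1
          · rw [hl1, hα1 _ hφ, zero_mul, zero_mul]
          · rw [hPu l hl hl1]
        · obtain ⟨-, -, h0⟩ := H16.zspan_induced_props K (hαspan _ hφ)
          rw [h0 l hl, zero_mul, zero_mul]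
      rw [h0]
      simp only [α]
      rw [H16.ci_sub_left, H16.ci_zsmul_left, hne _ hφ, hne φ₁ hφ₁S]
      simp
    have h1 := hrecip _ hφ (P ψ) (H12.IsCharacter.isClassFunction (hPch ψ))
    simp only [α] at h2
    rw [H16.ci_sub_left, H16.ci_zsmul_left, Int.cast_natCast] at h2
    have hε0 : ε ≠ 0 := fun e => by rw [e, mul_zero] at hεε; exact zero_ne_one hεε
    rw [h2, eq_comm, mul_eq_zero] at h1
    have h4 := sub_eq_zero.mp (h1.resolve_left hε0)
    have hA : ((k ψ (χX φ) : ℕ) : ℂ) = conj (classInner (X φ.1) (P ψ)) := by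
      rw [H12.conj_classInner]; exact (hPχ ψ (χX φ)).symm
    have hB : ((k ψ χ₁ : ℕ) : ℂ) = conj (classInner (X φ₁) (P ψ)) := by
      rw [H12.conj_classInner]; exact (hPχ ψ χ₁).symm
    have : ((k ψ (χX φ) : ℕ) : ℂ) = ((nn φ.1 * k ψ χ₁ : ℕ) : ℂ) := by
      rw [hA, h4, map_mul, Complex.conj_natCast, ← hB, Nat.cast_mul]
    exact_mod_cast this
  have hEsum : ∀ ψ, ∑ χ ∈ E, k ψ χ * H12.degree (χ : G → ℂ) = s * (k ψ χ₁ * x) := by
    intro ψ
    rw [hE, Finset.sum_image (fun _ _ _ _ h => hχXinj h)]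
    simp only [hαψ, hdegX]
    rw [Finset.sum_coe_sort F (fun φ => nn φ * k ψ χ₁ * (nn φ * x)), hsdef, Finset.sum_mul]
    exact Finset.sum_congr rfl fun φ _ => by ring
  -- each `P ψ` has exactly one other constituent
  set R := ((Finset.univ : Finset (IrrCharacter G)).erase (H12.oneIrr G)) \ E with hR
  have hRmem : ∀ χ, χ ∈ R ↔ χ ≠ H12.oneIrr G ∧ χ ∉ E := fun χ => by simp [hR]
  have hsplit : ∀ f : IrrCharacter G → ℂ, ∑ χ, f χ
      = f (H12.oneIrr G) + ∑ χ ∈ E, f χ + ∑ χ ∈ R, f χ := fun f => by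
    rw [← Finset.add_sum_erase _ _ (Finset.mem_univ (H12.oneIrr G)), add_assoc,
      ← Finset.sum_sdiff (s₁ := E) (s₂ := (Finset.univ : Finset (IrrCharacter G)).erase (H12.oneIrr G))
        (fun χ hχ => Finset.mem_erase.mpr ⟨fun h => hone_notE (h ▸ hχ), Finset.mem_univ χ⟩)]
    ring
  have hP : ∀ ψ, k ψ χ₁ = 0 ∧ ∃ θ ∈ R, k ψ θ = 1 ∧
      H12.degree (θ : G → ℂ) + (if ψ = ψ₀ then 1 else 0) = N + 1 ∧
      ∀ χ ∈ R, χ ≠ θ → k ψ χ = 0 := by
    intro ψ
    set a := (if ψ = ψ₀ then 1 else 0 : ℕ) with ha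
    have htot : a + s * (k ψ χ₁ * x) + ∑ χ ∈ R, k ψ χ * H12.degree (χ : G → ℂ) = N + 1 := by
      have h := hsplit fun χ => ((k ψ χ * H12.degree (χ : G → ℂ) : ℕ) : ℂ)
      simp only [← Nat.cast_sum, ← Nat.cast_add, Nat.cast_inj, hPdeg, hk1, hdeg1, mul_one,
        hEsum] at h
      exact h.symm
    have hRge : ∀ χ ∈ R, 1 ≤ k ψ χ → N ≤ H12.degree (χ : G → ℂ) := fun χ hχ hk' => by
      obtain ⟨h1, h2⟩ := (hRmem χ).mp hχ
      obtain ⟨c, hc0, hdeg', -⟩ := hother χ h2 h1
      have : k ψ χ ≤ ∑ ψ', k ψ' χ :=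
        Finset.single_le_sum (f := fun ψ' => k ψ' χ) (fun _ _ => Nat.zero_le _) (Finset.mem_univ ψ)
      have : 1 * (N - 1) ≤ c * (N - 1) := Nat.mul_le_mul_right _ hc0
      omega
    have ha1 : a ≤ 1 := by rw [ha]; split_ifs <;> omega
    by_cases hex : ∃ θ ∈ R, 1 ≤ k ψ θ
    · obtain ⟨θ, hθ, hθk⟩ := hex
      have hθN := hRge θ hθ hθk
      rw [← Finset.add_sum_erase _ _ hθ] at htot
      have hkx : k ψ χ₁ = 0 := by
        by_contra h
        have : 3 * 1 ≤ s * (k ψ χ₁ * x) :=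
          Nat.mul_le_mul hs3 (Nat.mul_pos (Nat.pos_of_ne_zero h) hx0)
        have : 1 * N ≤ k ψ θ * H12.degree (θ : G → ℂ) := Nat.mul_le_mul hθk hθN
        omega
      have hk1' : k ψ θ = 1 := by
        by_contra h
        have : 2 * N ≤ k ψ θ * H12.degree (θ : G → ℂ) :=
          Nat.mul_le_mul (by omega) hθN
        omega
      have hzero : ∀ χ ∈ R, χ ≠ θ → k ψ χ = 0 := fun χ hχ hne => by
        by_contra h
        have h9 : k ψ χ * H12.degree (χ : G → ℂ) ≤ _ :=
          Finset.single_le_sum (f := fun χ => k ψ χ * H12.degree (χ : G → ℂ))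
            (fun _ _ => Nat.zero_le _) (Finset.mem_erase.mpr ⟨hne, hχ⟩)
        have h10 : 1 * N ≤ k ψ χ * H12.degree (χ : G → ℂ) :=
          Nat.mul_le_mul (by omega) (hRge χ hχ (by omega))
        have : 1 * N ≤ k ψ θ * H12.degree (θ : G → ℂ) := Nat.mul_le_mul hθk hθN
        omega
      refine ⟨hkx, θ, hθ, hk1', ?_, hzero⟩
      rw [Finset.sum_eq_zero (fun χ hχ => by
        rw [hzero χ (Finset.mem_of_mem_erase hχ) (Finset.ne_of_mem_erase hχ), zero_mul]),
        hkx, hk1'] at htot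
      simp only [zero_mul, mul_zero, add_zero, one_mul] at htot
      omega
    · exfalso
      push Not at hex
      rw [Finset.sum_eq_zero (fun χ hχ => by
        rw [Nat.lt_one_iff.mp (hex χ hχ), zero_mul]), add_zero, hNeq] at htot
      set y := k ψ χ₁ * x
      have hdv : s ∣ s * d + 1 + 1 - a := ⟨y, by omega⟩
      have h9 : s ∣ 1 + 1 - a := by
        rw [show s * d + 1 + 1 - a = s * d + (1 + 1 - a) by omega] at hdv
        exact (Nat.dvd_add_right (dvd_mul_right s d)).mp hdv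
      have := Nat.le_of_dvd (by omega) h9
      omega
  -- an element fixing nothing
  obtain ⟨g, hg⟩ : ∃ g : G, ∀ y : G, y⁻¹ * g * y ∉ L := by
    by_contra hcon
    push Not at hcon
    have := H28.ClassGraph.eq_top_of_conj_cover L hcon
    rw [this, Subgroup.index_top] at hindex
    omega
  have hindg : ∀ f : L → ℂ, indFun L f g = 0 := fun f => by
    rw [H12.indFun_apply, Finset.sum_eq_zero (fun y _ => H12.extendByZero_of_notMem L _ (hg y)),
      mul_zero]
  have hg1 : g ≠ 1 := fun h => hg 1 (by rw [h]; simp)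
  -- exceptional characters have multiplicity zero at the trivial character of `K`
  have hXk : ∀ φ : F, ∑ ψ, k ψ (χX φ) = 0 := fun φ =>
    Finset.sum_eq_zero fun ψ _ => by rw [hαψ, (hP ψ).1, mul_zero]
  -- every member of `R` is a constituent of some `P ψ`
  have hRk : ∀ χ ∈ R, 1 ≤ ∑ ψ, k ψ χ := by
    intro χ hχ
    obtain ⟨h1, h2⟩ := (hRmem χ).mp hχ
    obtain ⟨c, -, hdeg', -⟩ := hother χ h2 h1
    by_contra h
    rw [show ∑ ψ, k ψ χ = 0 by omega, zero_add] at hdeg'
    have hdv := H12.irr_degree_dvd_card χ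
    rw [hdeg', hGcard, show N - 1 = s * d by omega] at hdv
    have h' : c * s * d ∣ N * (N + 1) * d := by rwa [mul_assoc c s d]
    have h'' := (dvd_mul_left s c).trans (Nat.dvd_of_mul_dvd_mul_right (by omega) h')
    rw [hNeq, show (s * d + 1) * (s * d + 1 + 1) = s * (d * (s * d + 1 + 1) + d) + 2 by ring] at h''
    have := Nat.le_of_dvd two_pos ((Nat.dvd_add_right (dvd_mul_right s _)).mp h'')
    omega
  obtain ⟨-, θ, hθR, hθk, hθdeg, hθuniq⟩ := hP ψ₀
  rw [if_pos rfl] at hθdeg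
  have hθN : H12.degree (θ : G → ℂ) = N := by omega
  have hPg : ∀ ψ, ∀ χ ∈ R, 1 ≤ k ψ χ →
      (χ : G → ℂ) g = -(if ψ = ψ₀ then (1 : ℂ) else 0) ∧
        (ψ = ψ₀ → χ = θ) ∧ (ψ ≠ ψ₀ → H12.degree (χ : G → ℂ) = N + 1) := by
    intro ψ χ hχ hχk
    obtain ⟨hk0, η, hη, hηk, hηdeg, hηu⟩ := hP ψ
    have hχη : χ = η := by
      by_contra h
      have := hηu χ hχ h
      omega
    subst hχη
    refine ⟨?_, fun h => ?_, fun h => ?_⟩
    · have hex := H12.classFunction_apply_eq_sum (H12.IsCharacter.isClassFunction (hPch ψ)) g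
      rw [hsplit, hPχ, hk1, H12.oneIrr_apply, mul_one,
        Finset.sum_eq_zero (s := E) (fun ξ hξ => by
          obtain ⟨φ, -, rfl⟩ := Finset.mem_image.mp hξ
          rw [hPχ, hαψ, hk0, mul_zero, Nat.cast_zero, zero_mul]),
        Finset.sum_eq_single χ (fun ξ hξ hne => by rw [hPχ, hηu ξ hξ hne, Nat.cast_zero, zero_mul])
          (fun h => absurd hη h), hPχ, hηk, Nat.cast_one, one_mul, add_zero] at hex
      have hz : P ψ g = 0 := hindg _
      rw [hz, Nat.cast_ite, Nat.cast_one, Nat.cast_zero] at hex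
      linear_combination -hex
    · subst h
      by_contra h'
      have := hθuniq χ hη h'
      omega
    · rw [if_neg h] at hηdeg
      omega
  -- the values on `g`
  have hXg : ∀ φ : F, (χX φ : G → ℂ) g = nn φ.1 * X φ₁ g := fun φ => by
    have h := congrFun (hτα _ (hFmem.mp φ.2)) g
    have hε0 : ε ≠ 0 := fun e => by rw [e, mul_zero] at hεε; exact zero_ne_one hεε
    rw [hindg] at h
    simp only [Pi.smul_apply, smul_eq_mul, Pi.sub_apply, zsmul_eq_mul, Pi.mul_apply,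
      Pi.intCast_apply, zero_eq_mul, hε0, false_or, sub_eq_zero, Int.cast_natCast] at h
    exact h
  have horth : (1 : ℂ) - N + (s : ℂ) * x * X φ₁ g = 0 := by
    have h := H12.regular_eq_sum (G := G) g
    rw [if_neg hg1, hsplit, H12.oneIrr_apply, H12.oneIrr_apply, one_mul,
      Finset.sum_eq_single (s := R) θ (fun χ hχ hne => by
        obtain ⟨ψ, -, hψk⟩ := Finset.exists_ne_zero_of_sum_ne_zero
          (s := Finset.univ) (f := fun ψ => k ψ χ) (by have := hRk χ hχ; omega)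
        obtain ⟨hv, hψ0, -⟩ := hPg ψ χ hχ (Nat.one_le_iff_ne_zero.mpr hψk)
        rw [if_neg (fun e => hne (hψ0 e))] at hv
        rw [hv, neg_zero, mul_zero]) (fun h => absurd hθR h),
      (hPg ψ₀ θ hθR (by omega)).1, if_pos rfl, H12.irr_apply_one, hθN, hE,
      Finset.sum_image (fun _ _ _ _ h => hχXinj h),
      Finset.sum_congr rfl (fun φ _ => by
        rw [H12.irr_apply_one, hdegX φ, hXg φ, Nat.cast_mul,
          show ((nn φ.1 : ℂ) * x) * (nn φ.1 * X φ₁ g) = ((nn φ.1 : ℂ) ^ 2) * (x * X φ₁ g) by ring]),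
      ← Finset.sum_mul, Finset.sum_coe_sort F (fun φ => (nn φ : ℂ) ^ 2)] at h
    rw [hsdef]
    push_cast
    linear_combination h
  -- the first exceptional character
  obtain ⟨c, hc0, hc⟩ := hcoef χ₁
  obtain ⟨m, hm, -, hd2⟩ := hdegree χ₁ c hc
  have hm0 : m = 0 := by
    have h := hm.symm.trans (hmk χ₁)
    rw [show (∑ ψ, k ψ χ₁) = 0 from hXk _] at h
    exact_mod_cast h
  have hxeq := hd2 φ₁ hφ₁S rfl
  rw [show (χ₁ : G → ℂ) 1 = (x : ℂ) from hx, hnn1, Nat.cast_one, mul_one, hm0, Nat.cast_zero,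
    zero_add] at hxeq
  obtain ⟨e, he, hee⟩ : ∃ e : ℤ, ε = (e : ℂ) ∧ (e = 1 ∨ e = -1) := by
    rcases hε with h | h
    · exact ⟨1, by simp [h], Or.inl rfl⟩
    · exact ⟨-1, by simp [h], Or.inr rfl⟩
  rw [he] at hxeq
  have hxeq' : (x : ℤ) = c * ((N : ℤ) - 1) + e * d := by exact_mod_cast hxeq
  have hxd : (x : ℤ) = d * (c * s + e) := by rw [hxeq', hNeq]; push_cast; ring
  obtain ⟨x', hx'⟩ : ∃ x' : ℕ, x = d * x' := by
    have : (d : ℤ) ∣ (x : ℤ) := ⟨_, hxd⟩
    exact Int.natCast_dvd_natCast.mp this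
  have hx'1 : x' = 1 := by
    have hd0 : (d : ℂ) ≠ 0 := Nat.cast_ne_zero.mpr (by omega)
    have hs0 : (s : ℂ) ≠ 0 := Nat.cast_ne_zero.mpr (by omega)
    rw [hNeq, hx'] at horth
    push_cast at horth
    have h1 : (x' : ℂ) * X φ₁ g = 1 := mul_left_cancel₀ (mul_ne_zero hs0 hd0)
      (by linear_combination horth)
    have hint : IsIntegral ℤ (X φ₁ g) :=
      H12.IsCharacter.isIntegral (H12.isCharacter_of_isIrrCharacter (hXirr φ₁ hφ₁S)) g
    have hx'0 : x' ≠ 0 := fun h => by rw [h, Nat.cast_zero, zero_mul] at h1; exact zero_ne_one h1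
    refine Nat.dvd_one.mp (H12.nat_dvd_of_isIntegral_div (a := 1) hx'0 ?_)
    rw [Nat.cast_one, ← h1, mul_div_cancel_left₀ _ (Nat.cast_ne_zero.mpr hx'0)]
    exact hint
  rw [hx'1, mul_one] at hx'
  have hce : c = 0 ∧ e = 1 := by
    have h1 : c * (s : ℤ) + e = 1 := by
      have h : (d : ℤ) * (c * s + e) = (d : ℤ) * 1 := by rw [← hxd, hx', mul_one]
      exact mul_left_cancel₀ (by omega) h
    have hc00 : c = 0 := by
      by_contra h
      have : 1 * 3 ≤ c * (s : ℤ) := mul_le_mul (by omega) (by omega) (by norm_num) hc0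
      omega
    subst hc00
    omega
  obtain ⟨rfl, rfl⟩ := hce
  have hε1 : ε = 1 := by rw [he]; norm_num
  -- Frobenius reciprocity for `φ₁`
  have hXc : ∀ φ : F, classInner φ₁ (fun l : L => (χX φ : G → ℂ) l)
      = if φ.1 = φ₁ then 1 else 0 := by
    intro φ
    have hφ := hFmem.mp φ.2
    obtain ⟨c', hc'0, hc'⟩ := hcoef (χX φ)
    obtain ⟨m', hm', -, hd2'⟩ := hdegree (χX φ) c' hc'
    have hm'0 : m' = 0 := by
      have h := hm'.symm.trans (hmk (χX φ))
      rw [hXk φ] at h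
      exact_mod_cast h
    have h := hd2' φ.1 hφ rfl
    rw [H12.irr_apply_one, hdegX φ, hm'0, hε1, hx'] at h
    push_cast at h
    have hcz : c' = 0 := by
      have hz : (c' : ℂ) * ((N : ℂ) - 1) = 0 := by linear_combination -h
      rcases mul_eq_zero.mp hz with h' | h'
      · exact_mod_cast h'
      · exfalso
        have : (N : ℂ) = 1 := sub_eq_zero.mp h'
        have : N = 1 := by exact_mod_cast this
        omega
    rw [hc' φ₁ hφ₁S, hcz, hε1, Int.cast_zero, zero_mul, zero_add, one_mul]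
    show classInner (X φ₁) (X φ.1) = _
    rw [H16.irr_inner (hXirr φ₁ hφ₁S) (hXirr _ hφ)]
    by_cases h' : φ.1 = φ₁
    · rw [if_pos h', if_pos (by rw [h'])]
    · rw [if_neg h', if_neg (fun e => h' (hXinj _ hφ₁S _ hφ e).symm)]
  set Q := indFun L φ₁ with hQ
  have hQch : IsCharacter G Q :=
    H12.IsCharacter.indFun (H12.isCharacter_of_isIrrCharacter (hirr φ₁ hφ₁S))
  have hQsum := sum_one_inner (G := G) (H12.IsCharacter.isClassFunction hQch)
  have hQc : ∀ χ : IrrCharacter G, classInner Q (χ : G → ℂ)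
      = classInner φ₁ (fun l : L => (χ : G → ℂ) l) := fun χ =>
    H12.classInner_indFun L φ₁ (H12.irr_isClassFunction χ)
  simp only [hQc] at hQsum
  rw [hsplit] at hQsum
  have hfirst : classInner φ₁ (fun l : L => (H12.oneIrr G : G → ℂ) l) = 0 := by
    simp only [H12.oneIrr_apply]
    refine H16.ci_irr_ne (hirr φ₁ hφ₁S) H12.isIrrCharacter_one fun h => ?_
    have h' : d * nn φ₁ = 1 := by
      have := (congrFun h 1).symm.trans (hnn φ₁ hφ₁S)
      exact_mod_cast this.symm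
    have := Nat.eq_one_of_mul_eq_one_right h'
    omega
  rw [hfirst, zero_mul, zero_add, hE, Finset.sum_image (fun _ _ _ _ h => hχXinj h),
    Finset.sum_eq_single (s := (Finset.univ : Finset F)) (⟨φ₁, hFmem.mpr hφ₁S⟩ : F)
      (fun φ _ hne => by rw [hXc φ, if_neg (fun e => hne (Subtype.ext e)), zero_mul])
      (fun h => absurd (Finset.mem_univ _) h),
    hXc, if_pos rfl, one_mul, H12.irr_apply_one, hdegX, hnn1, one_mul, hx', hQ, H12.indFun_one,
    hindex, hnn φ₁ hφ₁S, hnn1, mul_one, ← Finset.add_sum_erase _ _ hθR] at hQsum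
  -- `θ` contributes `N`, the others multiples of `N + 1`
  have hθc : classInner φ₁ (fun l : L => (θ : G → ℂ) l) = 1 := by
    obtain ⟨h1, h2⟩ := (hRmem θ).mp hθR
    obtain ⟨cθ, hcθ, hdeg', hci⟩ := hother θ h2 h1
    have hm1 := hRk θ hθR
    rw [hθN] at hdeg'
    have : cθ = 1 := by
      by_contra hne
      have : 2 * (N - 1) ≤ cθ * (N - 1) := Nat.mul_le_mul_right _ (by omega)
      omega
    rw [hci, this, Nat.cast_one]
  have hrest : ∀ χ ∈ R.erase θ, ∃ z : ℕ,
      classInner φ₁ (fun l : L => (χ : G → ℂ) l) * (χ : G → ℂ) 1 = (((N + 1) * z : ℕ) : ℂ) := by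
    intro χ hχ
    have hχR := Finset.mem_of_mem_erase hχ
    obtain ⟨ψ, -, hψk⟩ := Finset.exists_ne_zero_of_sum_ne_zero
      (s := Finset.univ) (f := fun ψ => k ψ χ) (by have := hRk χ hχR; omega)
    obtain ⟨-, hψ0, hψ1⟩ := hPg ψ χ hχR (Nat.one_le_iff_ne_zero.mpr hψk)
    have hdχ := hψ1 fun e => Finset.ne_of_mem_erase hχ (hψ0 e)
    obtain ⟨h1, h2⟩ := (hRmem χ).mp hχR
    obtain ⟨cχ, -, -, hci⟩ := hother χ h2 h1
    exact ⟨cχ, by rw [hci, H12.irr_apply_one, hdχ]; push_cast; ring⟩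
  choose! z hz using hrest
  rw [Finset.sum_congr rfl hz, hθc, one_mul, H12.irr_apply_one, hθN, ← Nat.cast_sum,
    ← Finset.mul_sum] at hQsum
  have hfin : d + (N + (N + 1) * ∑ χ ∈ R.erase θ, z χ) = (N + 1) * d := by exact_mod_cast hQsum
  set Z := ∑ χ ∈ R.erase θ, z χ
  rcases Nat.lt_or_ge Z d with hlt | hge
  · have : (N + 1) * (Z + 1) ≤ (N + 1) * d := Nat.mul_le_mul_left _ hlt
    have h5 : (N + 1) * (Z + 1) = (N + 1) * Z + (N + 1) := by ring
    rcases Nat.lt_or_ge (Z + 1) d with h6 | h6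
    · have : (N + 1) * (Z + 2) ≤ (N + 1) * d := Nat.mul_le_mul_left _ h6
      have : (N + 1) * (Z + 2) = (N + 1) * Z + 2 * (N + 1) := by ring
      omega
    · have : (N + 1) * d ≤ (N + 1) * (Z + 1) := Nat.mul_le_mul_left _ h6
      omega
  · have : (N + 1) * d ≤ (N + 1) * Z := Nat.mul_le_mul_left _ hge
    omega

theorem index_le_two [IsSimpleGroup G] (U : Subgroup G) (hTI : IsTISubset (U : Set G))
    [Fintype ↥(Subgroup.normalizer (U : Set G))]
    (hC : ∀ k ∈ U, k ≠ 1 → Subgroup.centralizer ({k} : Set G) ≤ U)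
    (hnil : Group.IsNilpotent U)
    (hab : ∀ x y : ↥(Subgroup.normalizer (U : Set G)),
      ((x * y * x⁻¹ * y⁻¹ : ↥(Subgroup.normalizer (U : Set G))) : G) ∈ U)
    (hfix : ∀ g : G, ∀ u ∈ U, u ≠ 1 → g⁻¹ * u * g ∈ Subgroup.normalizer (U : Set G) →
      g ∈ Subgroup.normalizer (U : Set G))
    (hindex : (Subgroup.normalizer (U : Set G)).index = Nat.card U + 1)
    {d : ℕ} (hdidx : (U.subgroupOf (Subgroup.normalizer (U : Set G))).index = d) (hd : 3 ≤ d)
    (hcoh : IsCoherent (inducedIrrAbove (U.subgroupOf (Subgroup.normalizer (U : Set G))) ⊥) {1}ᶜ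
      (fun α => indFun (Subgroup.normalizer (U : Set G)) α)) : Nat.card U ≤ 3 * d := by
  by_contra h
  exact index_aux U _ Subgroup.le_normalizer Subgroup.normal_in_normalizer
    (H16.centralizer_subgroupOf U hC) (H16.ti_induction_isometry U hTI).2 hnil hab hfix hindex hdidx
    hd (by omega) hcoh

end H66.Feit
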