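import Cfsg.Agent.H16.FeitSibley
import Cfsg.Agent.H16.Signed
import Cfsg.Agent.H12.Transport

/-!
The numerical heart of Feit's theorem on Zassenhaus groups: a simple group cannot have a TI subgroup
`U`, of index `d ≥ 3` in its normaliser `L` with `L / U` abelian, `[G : L] = |U| + 1`, coherent
exceptional characters and `|U|` large compared with `d ^ 2`.
-/

set_option autoImplicit false

open Cfsg
open scoped ComplexConjugate

namespace H66.Feit

universe u

theorem arith {N d : ℕ} (hd : 2 ≤ d) (hN : 2 * d ^ 2 + 3 * d + 1 ≤ N) :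
    N * (N + 1) * d ^ 2 < (N - 1) * (N - 1 - d) ^ 2 := by
  obtain ⟨M, rfl⟩ : ∃ M, N = M + 1 + d := ⟨N - 1 - d, by omega⟩
  have hM : 2 * d ^ 2 + 2 * d ≤ M := by nlinarith
  rw [show M + 1 + d - 1 - d = M by omega, show M + 1 + d - 1 = M + d by omega]
  have h1 : (M + 1 + d) * (M + 1 + d + 1) ≤ 2 * ((M + d) * M) := by nlinarith
  have h2 : (M + d) * M * (2 * d ^ 2 + 2 * d) ≤ (M + d) * M * M := Nat.mul_le_mul_left _ hM
  have h3 : (M + 1 + d) * (M + 1 + d + 1) * d ^ 2 ≤ 2 * ((M + d) * M) * d ^ 2 :=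
    Nat.mul_le_mul_right _ h1
  have h4 : 0 < (M + d) * M * d := Nat.mul_pos (Nat.mul_pos (by omega) (by omega)) (by omega)
  nlinarith

variable {G : Type u} [Group G] [Fintype G]

theorem res_nat {L : Subgroup G} [Fintype L] {φ : L → ℂ} (hφ : IsCharacter L φ) {χ : G → ℂ}
    (hχ : IsCharacter G χ) : ∃ c : ℕ, classInner φ (fun l : L => χ l) = c :=
  H12.IsCharacter.classInner_nat hφ (H12.IsCharacter.res hχ L)

/-- `∑ χ(1) ⟨χ, ψ⟩` is `ψ(1)` -/
theorem sum_one_inner {ψ : G → ℂ} (hψ : IsClassFunction G ψ) :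
    ∑ χ : IrrCharacter G, classInner ψ (χ : G → ℂ) * (χ : G → ℂ) 1 = ψ 1 :=
  (H12.classFunction_apply_eq_sum hψ 1).symm

theorem sum_deg_mul_inner_le [DecidableEq (IrrCharacter G)] {ψ : G → ℂ} (hψ : IsCharacter G ψ)
    {n : ℕ} (hn : ψ 1 = n) (A : Finset (IrrCharacter G)) (k : IrrCharacter G → ℕ)
    (hk : ∀ χ ∈ A, classInner ψ (χ : G → ℂ) = k χ) :
    ∑ χ ∈ A, k χ * H12.degree (χ : G → ℂ) ≤ n := by
  classical
  choose c hc using fun χ : IrrCharacter G => H12.IsCharacter.classInner_nat hψ (H12.isCharacter_irr χ)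
  have h := sum_one_inner (G := G) (H12.IsCharacter.isClassFunction hψ)
  simp only [hc, H12.irr_apply_one, hn] at h
  have h' : ∑ χ : IrrCharacter G, c χ * H12.degree (χ : G → ℂ) = n := by exact_mod_cast h
  rw [← h']
  refine le_trans (le_of_eq (Finset.sum_congr rfl fun χ hχ => ?_))
    (Finset.sum_le_sum_of_subset (Finset.subset_univ A))
  have : (k χ : ℂ) = c χ := (hk χ hχ).symm.trans (hc χ)
  rw [Nat.cast_inj] at this
  rw [this]

theorem main_aux [IsSimpleGroup G] (U L : Subgroup G) [Fintype ↥L] (hUL : U ≤ L)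
    (hKn : (U.subgroupOf L).Normal)
    (hC' : ∀ n ∈ U.subgroupOf L, n ≠ 1 → Subgroup.centralizer ({n} : Set ↥L) ≤ U.subgroupOf L)
    (hτ0 : ∀ α ∈ zspanOn (inducedIrrAbove (U.subgroupOf L) ⊥) {1}ᶜ, indFun L α 1 = 0)
    (hnil : Group.IsNilpotent U)
    (hab : ∀ x y : ↥L, ((x * y * x⁻¹ * y⁻¹ : ↥L) : G) ∈ U)
    (hfix : ∀ g : G, ∀ u ∈ U, u ≠ 1 → g⁻¹ * u * g ∈ L → g ∈ L)
    (hindex : L.index = Nat.card U + 1)
    {d : ℕ} (hdidx : (U.subgroupOf L).index = d) (hd : 3 ≤ d)
    (hN : 2 * d ^ 2 + 3 * d + 1 ≤ Nat.card U)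
    (hcoh : IsCoherent (inducedIrrAbove (U.subgroupOf L) ⊥) {1}ᶜ
      (fun α => indFun L α)) : False := by
  classical
  set K := U.subgroupOf L with hK
  haveI : K.Normal := hKn
  have hKcard : Nat.card K = Nat.card U :=
    Nat.card_congr (Subgroup.subgroupOfEquivOfLe hUL).toEquiv
  set N := Nat.card U with hNdef
  have hLcard : Nat.card L = N * d := by rw [← K.card_mul_index, hKcard, hdidx]
  have hGcard : Nat.card G = N * (N + 1) * d := by
    rw [← L.card_mul_index, hindex, hLcard]; ring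
  haveI : Fintype K := Fintype.ofFinite K
  set S := inducedIrrAbove K ⊥ with hS
  obtain ⟨⟨α₀, hα₀, hα₀ne⟩, τ₁, hτ₁, hτ₁eq⟩ := hcoh
  have hirr : ∀ φ ∈ S, IsIrrCharacter L φ := fun φ h => H16.frob_irr_mem K hC' h
  -- a member of degree `d`
  haveI hKnil : Group.IsNilpotent K := by
    haveI := hnil
    exact Group.nilpotent_of_mulEquiv
      (Subgroup.subgroupOfEquivOfLe hUL).symm
  haveI : Nontrivial K := Finite.one_lt_card_iff_nontrivial.mp (by rw [hKcard]; nlinarith)
  obtain ⟨f₁, hf₁⟩ : ∃ f : K →* ℂˣ, f ≠ 1 := by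
    by_contra hall
    push Not at hall
    haveI : Subsingleton (K →* ℂˣ) := ⟨fun f g => (hall f).trans (hall g).symm⟩
    have h1 : (commutator K).index = 1 := by
      rw [← H12.card_monoidHom_units]; exact Nat.card_unique
    exact (IsSolvable.commutator_lt_top_of_nontrivial (G := K)).ne (Subgroup.index_eq_one.mp h1)
  set θ₁ : K → ℂ := fun k => (f₁ k : ℂ) with hθ₁
  have hθ₁irr : IsIrrCharacter K θ₁ := H12.isIrrCharacter_monoidHom f₁
  have hθ₁ne : θ₁ ≠ fun _ => 1 := fun h => hf₁ (MonoidHom.ext fun k =>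
    Units.ext (congrFun h k))
  have hmemS : ∀ θ : K → ℂ, IsIrrCharacter K θ → θ ≠ (fun _ => 1) → indFun K θ ∈ S :=
    fun θ h1 h2 => ⟨θ, h1, h2, fun k hk => congrArg θ (Subtype.ext (Subgroup.mem_bot.mp hk)), rfl⟩
  set φ₁ := indFun K θ₁ with hφ₁
  have hφ₁S : φ₁ ∈ S := hmemS θ₁ hθ₁irr hθ₁ne
  -- degrees of the members of `S`
  have hdeg : ∀ φ ∈ S, ∃ n : ℕ, 0 < n ∧ φ 1 = ((d * n : ℕ) : ℂ) := by
    rintro φ ⟨θ, hθ, -, -, rfl⟩
    obtain ⟨n, hn, hn1⟩ := H16.irr_one hθ
    exact ⟨n, hn, by rw [H16.ind_apply_one, hdidx, hn1, Nat.cast_mul]⟩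
  choose! nn hnn0 hnn using hdeg
  have hnn1 : nn φ₁ = 1 := by
    have h := hnn φ₁ hφ₁S
    rw [hφ₁, H16.ind_apply_one, hdidx] at h
    simp only [hθ₁, map_one, Units.val_one, mul_one, Nat.cast_inj] at h
    exact Nat.eq_of_mul_eq_mul_left (by omega) (h.symm.trans (mul_one d).symm)
  -- the isometry and its signs
  have hmemA : ∀ {α : L → ℂ}, α ∈ zspan S → α 1 = 0 → α ∈ zspanOn S {1}ᶜ := fun h1 h2 =>
    H16.mem_zspanOn_one.mpr ⟨h1, h2⟩
  obtain ⟨ε, hε, hX, hτinj⟩ := H16.uniform_signs S hirr φ₁ hφ₁S τ₁ hτ₁ (fun α h1 h2 => by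
    rw [hτ₁eq α (hmemA h1 h2)]; exact hτ0 α (hmemA h1 h2))
  let X : (L → ℂ) → (G → ℂ) := fun φ => ε • τ₁ φ
  have hεε : ε * ε = 1 := by rcases hε with h | h <;> rw [h] <;> norm_num
  have hεconj : conj ε = ε := by rcases hε with h | h <;> rw [h] <;> simp
  have hXirr : ∀ φ ∈ S, IsIrrCharacter G (X φ) := hX
  have hXinj : ∀ φ ∈ S, ∀ ψ ∈ S, X φ = X ψ → φ = ψ := fun φ hφ ψ hψ h => hτinj φ hφ ψ hψ (by
    have := congrArg (fun f : G → ℂ => ε • f) h
    simpa [X, smul_smul, hεε] using this)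
  have hτX : ∀ φ ∈ S, τ₁ φ = ε • X φ := fun φ _ => by simp [X, smul_smul, hεε]
  let α : (L → ℂ) → (L → ℂ) := fun φ => φ - (nn φ : ℤ) • φ₁
  have hαspan : ∀ φ ∈ S, α φ ∈ zspan S := fun φ hφ =>
    H16.zspan_sub (H16.zspan_of_mem hφ) (H16.zspan_zsmul _ (H16.zspan_of_mem hφ₁S))
  have hα1 : ∀ φ ∈ S, α φ 1 = 0 := fun φ hφ => by
    simp only [α, Pi.sub_apply, zsmul_eq_mul, Pi.mul_apply, Pi.intCast_apply, hnn φ hφ, hnn φ₁ hφ₁S, hnn1]
    push_cast
    ring
  have hτα : ∀ φ ∈ S, indFun L (α φ) = ε • (X φ - (nn φ : ℤ) • X φ₁) := fun φ hφ => by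
    rw [show indFun L (α φ) = τ₁ (α φ) from (hτ₁eq _ (hmemA (hαspan φ hφ) (hα1 φ hφ))).symm,
      H16.iso_sub' hτ₁ (H16.zspan_of_mem hφ) (H16.zspan_zsmul _ (H16.zspan_of_mem hφ₁S)),
      hτ₁.2.1 _ (H16.zspan_of_mem hφ₁S), hτX φ hφ, hτX φ₁ hφ₁S, smul_sub, smul_comm ε (nn φ : ℤ)]
  obtain ⟨x, hx0, hx⟩ := H16.irr_one (hXirr φ₁ hφ₁S)
  have hXdeg : ∀ φ ∈ S, X φ 1 = ((nn φ * x : ℕ) : ℂ) := fun φ hφ => by
    have h := hτ0 _ (hmemA (hαspan φ hφ) (hα1 φ hφ))
    rw [hτα φ hφ] at h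
    have hε0 : ε ≠ 0 := fun e => by rw [e, mul_zero] at hεε; exact zero_ne_one hεε
    simp only [Pi.smul_apply, smul_eq_mul, Pi.sub_apply, zsmul_eq_mul, Pi.mul_apply,
      Pi.intCast_apply, mul_eq_zero, hε0, false_or, sub_eq_zero] at h
    rw [h, hx]
    push_cast
    ring
  -- Frobenius reciprocity against a class function of `G`
  have hrecip : ∀ φ ∈ S, ∀ χ : G → ℂ, IsClassFunction G χ →
      classInner φ (fun l : L => χ l) - (nn φ : ℂ) * classInner φ₁ (fun l : L => χ l)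
        = ε * (classInner (X φ) χ - (nn φ : ℂ) * classInner (X φ₁) χ) := by
    intro φ hφ χ hχ
    have h := H12.classInner_indFun L (α φ) hχ
    rw [hτα φ hφ, H16.ci_smul_left, H16.ci_sub_left, H16.ci_zsmul_left] at h
    simp only [α] at h
    rw [H16.ci_sub_left, H16.ci_zsmul_left] at h
    push_cast at h
    linear_combination -h
  -- sums over the non-principal irreducible characters of `K`
  have hone : ∀ θ : IrrCharacter K, θ ≠ H12.oneIrr K → indFun K (θ : K → ℂ) ∈ S := fun θ hθ =>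
    hmemS θ θ.2 (fun h => hθ (Subtype.ext h))
  have hθdeg : ∀ θ : IrrCharacter K, θ ≠ H12.oneIrr K →
      (θ : K → ℂ) 1 = (nn (indFun K (θ : K → ℂ)) : ℂ) := fun θ hθ => by
    have h := hnn _ (hone θ hθ)
    rw [H16.ind_apply_one, hdidx, Nat.cast_mul] at h
    exact mul_left_cancel₀ (Nat.cast_ne_zero.mpr (by omega)) h
  have hsumsq : ∑ θ ∈ (Finset.univ : Finset (IrrCharacter K)).erase (H12.oneIrr K),
      (θ : K → ℂ) 1 ^ 2 = ((N : ℂ) - 1) := by
    rw [Finset.sum_erase_eq_sub (Finset.mem_univ _), H12.sum_degree_sq, hKcard, H12.oneIrr_apply,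
      one_pow]
  -- for a character `χ` of `G`: the multiplicity data
  have hmult : ∀ χ : G → ℂ, IsCharacter G χ →
      ∃ m : ℕ, classInner (fun _ : K => (1 : ℂ)) (fun k : K => χ ((k : L) : G)) = m ∧
        χ 1 = (m : ℂ) + ∑ θ ∈ (Finset.univ : Finset (IrrCharacter K)).erase (H12.oneIrr K),
          (θ : K → ℂ) 1 * classInner (indFun K (θ : K → ℂ)) (fun l : L => χ l) := by
    intro χ hχ
    have hres : IsCharacter K (fun k : K => χ ((k : L) : G)) :=
      H12.IsCharacter.res (H12.IsCharacter.res hχ L) K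
    obtain ⟨m, hm⟩ := H12.IsCharacter.classInner_nat H12.isCharacter_one hres
    refine ⟨m, hm, ?_⟩
    have h := sum_one_inner (G := K) (H12.IsCharacter.isClassFunction hres)
    rw [← Finset.add_sum_erase _ _ (Finset.mem_univ (H12.oneIrr K))] at h
    have hc : classInner (fun k : K => χ ((k : L) : G)) (H12.oneIrr K : K → ℂ) = m := by
      rw [← H12.conj_classInner]
      show conj (classInner (fun _ : K => (1 : ℂ)) _) = _
      rw [hm, Complex.conj_natCast]
    rw [hc, H12.oneIrr_apply, mul_one] at h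
    have h1' : χ 1 = χ (((1 : K) : L) : G) := by simp only [OneMemClass.coe_one]
    rw [h1', ← h]
    congr 1
    refine Finset.sum_congr rfl fun θ _ => ?_
    obtain ⟨c, hc'⟩ := H12.IsCharacter.classInner_nat (H12.isCharacter_irr θ) hres
    rw [← H12.conj_classInner, hc', Complex.conj_natCast,
      H12.classInner_indFun K _ (H12.isClassFunction_res (H12.IsCharacter.isClassFunction hχ) L),
      hc', mul_comm]
  -- `x ^ 2 (N - 1) ≤ N (N + 1) d ^ 2`
  have hSfin : S.Finite := H16.indSet_finite K ⊥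
  set F := hSfin.toFinset with hF
  have hFmem : ∀ {φ}, φ ∈ F ↔ φ ∈ S := fun {φ} => hSfin.mem_toFinset
  have hFsum : (∑ φ ∈ F, nn φ ^ 2) * d = N - 1 := by
    have h := H16.sum_wt K ⊥ F (Set.Finite.coe_toFinset _)
    have hw : ∀ φ ∈ F, H16.wt φ = ((d * d * nn φ ^ 2 : ℕ) : ℝ) := fun φ hφ => by
      rw [H16.wt, hnn φ (hFmem.mp hφ), H16.ci_irr_self (hirr φ (hFmem.mp hφ))]
      simp only [Complex.one_re, div_one, Complex.natCast_re]
      push_cast
      ring
    rw [Finset.sum_congr rfl hw, ← Nat.cast_sum, ← Finset.mul_sum, Subgroup.relIndex_bot_left,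
      hKcard, hdidx, ← Nat.cast_one (R := ℝ), ← Nat.cast_sub (show 1 ≤ N by omega),
      ← Nat.cast_mul, Nat.cast_inj, mul_assoc] at h
    rw [mul_comm]
    exact Nat.eq_of_mul_eq_mul_left (by omega) h
  have hbound : (N - 1) * x ^ 2 ≤ N * (N + 1) * d ^ 2 := by
    have h : ∑ φ ∈ F, (nn φ * x) ^ 2 ≤ Nat.card G := by
      let e : F → IrrCharacter G := fun φ => ⟨X φ, hXirr _ (hFmem.mp φ.2)⟩
      have he : Function.Injective e := fun φ ψ h => Subtype.ext
        (hXinj _ (hFmem.mp φ.2) _ (hFmem.mp ψ.2) (congrArg Subtype.val h))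
      have hdg : ∀ φ : F, H12.degree ((e φ : IrrCharacter G) : G → ℂ) = nn φ.1 * x := fun φ => by
        have h := (H12.irr_apply_one (e φ)).symm.trans (hXdeg _ (hFmem.mp φ.2))
        exact_mod_cast h
      calc ∑ φ ∈ F, (nn φ * x) ^ 2
          = ∑ φ : F, H12.degree ((e φ : IrrCharacter G) : G → ℂ) ^ 2 := by
            rw [← Finset.sum_coe_sort F]
            exact Finset.sum_congr rfl fun φ _ => by rw [hdg φ]
        _ = ∑ χ ∈ Finset.univ.image e, H12.degree (χ : G → ℂ) ^ 2 :=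
            (Finset.sum_image (f := fun χ : IrrCharacter G => H12.degree (χ : G → ℂ) ^ 2)
              (fun _ _ _ _ h => he h)).symm
        _ ≤ _ := by
            rw [← H12.sum_degree_sq_nat (G := G)]
            exact Finset.sum_le_sum_of_subset (Finset.subset_univ _)
    rw [hGcard, Finset.sum_congr rfl (fun φ _ => mul_pow (nn φ) x 2), ← Finset.sum_mul] at h
    calc (N - 1) * x ^ 2 = d * ((∑ φ ∈ F, nn φ ^ 2) * x ^ 2) := by rw [← hFsum]; ring
      _ ≤ d * (N * (N + 1) * d) := Nat.mul_le_mul_left d h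
      _ = _ := by ring
  -- a second member of `S`
  obtain ⟨φ₂, hφ₂S, hφ₂ne⟩ : ∃ φ ∈ S, φ ≠ φ₁ := by
    by_contra hall
    push Not at hall
    apply hα₀ne
    obtain ⟨h1, h2⟩ := H16.mem_zspanOn_one.mp hα₀
    have hsub : S ⊆ {φ₁} := fun φ hφ => hall φ hφ
    obtain ⟨z, hz⟩ := Submodule.mem_span_singleton.mp (Submodule.span_mono hsub h1 :)
    rw [← hz, Pi.smul_apply, zsmul_eq_mul, hnn φ₁ hφ₁S, hnn1, mul_eq_zero] at h2
    rcases h2 with h2 | h2
    · rw [Int.cast_eq_zero] at h2; rw [← hz, h2, zero_smul]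
    · exact absurd h2 (Nat.cast_ne_zero.mpr (by omega))
  -- coefficient of an irreducible character
  have hcoef : ∀ χ : IrrCharacter G, ∃ c : ℤ, (0 : ℤ) ≤ c ∧ ∀ φ ∈ S,
      classInner φ (fun l : L => (χ : G → ℂ) l)
        = (c : ℂ) * nn φ + ε * classInner (X φ) (χ : G → ℂ) := by
    intro χ
    have hXχ : ∀ φ ∈ S, classInner (X φ) (χ : G → ℂ) = if X φ = (χ : G → ℂ) then 1 else 0 :=
      fun φ hφ => H16.irr_inner (hXirr φ hφ) χ.2
    obtain ⟨c₁, hc₁⟩ := res_nat (H12.isCharacter_of_isIrrCharacter (hirr φ₁ hφ₁S))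
      (H12.isCharacter_irr χ)
    obtain ⟨e, he⟩ : ∃ e : ℤ, ε * classInner (X φ₁) (χ : G → ℂ) = (e : ℂ) := by
      rw [hXχ φ₁ hφ₁S]
      rcases hε with h | h <;> split_ifs <;> rw [h]
      · exact ⟨1, by norm_num⟩
      · exact ⟨0, by norm_num⟩
      · exact ⟨-1, by norm_num⟩
      · exact ⟨0, by norm_num⟩
    have hall : ∀ φ ∈ S, classInner φ (fun l : L => (χ : G → ℂ) l)
        = ((c₁ - e : ℤ) : ℂ) * nn φ + ε * classInner (X φ) (χ : G → ℂ) := fun φ hφ => by
      have h := hrecip φ hφ _ (H12.irr_isClassFunction χ)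
      rw [hc₁] at h
      push_cast
      linear_combination h - (nn φ : ℂ) * he
    refine ⟨c₁ - e, ?_, hall⟩
    -- some member is not `χ`
    obtain ⟨φ, hφ, hne⟩ : ∃ φ ∈ S, X φ ≠ (χ : G → ℂ) := by
      by_cases h : X φ₁ = (χ : G → ℂ)
      · exact ⟨φ₂, hφ₂S, fun h' => hφ₂ne (hXinj _ hφ₂S _ hφ₁S (h'.trans h.symm))⟩
      · exact ⟨φ₁, hφ₁S, h⟩
    obtain ⟨c, hc⟩ := res_nat (H12.isCharacter_of_isIrrCharacter (hirr φ hφ)) (H12.isCharacter_irr χ)
    have h := hall φ hφ
    rw [hc, hXχ φ hφ, if_neg hne, mul_zero, add_zero] at h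
    have h' : (c : ℤ) = (c₁ - e) * nn φ := by exact_mod_cast h
    have := hnn0 φ hφ
    nlinarith
  -- the degree in terms of the coefficient
  have hφK : ∀ φ ∈ S, ∑ θ ∈ (Finset.univ : Finset (IrrCharacter K)).erase (H12.oneIrr K),
      (θ : K → ℂ) 1 * classInner (indFun K (θ : K → ℂ)) φ = ((d * nn φ : ℕ) : ℂ) := by
    intro φ hφ
    have hres : IsCharacter K (fun k : K => φ (k : L)) :=
      H12.IsCharacter.res (H12.isCharacter_of_isIrrCharacter (hirr φ hφ)) K
    have hone0 : classInner (fun k : K => φ (k : L)) (H12.oneIrr K : K → ℂ) = 0 := by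
      obtain ⟨θ, hθ, hne, -, rfl⟩ := hφ
      rw [← H12.classInner_indFun_right K _ (H12.indFun_isClassFunction K θ)]
      by_contra h
      have heq := H16.ind_eq_of_inner_ne K hθ (H12.oneIrr K).2 h
      have h1 : IsIrrCharacter L (indFun K (H12.oneIrr K : K → ℂ)) := by
        rw [heq]; exact H16.frob_irr K hC' hθ hne
      have h2 : classInner (indFun K (H12.oneIrr K : K → ℂ)) (fun _ : L => (1 : ℂ)) = 1 := by
        rw [H12.classInner_indFun K _ (fun _ _ => rfl)]
        exact H12.classInner_irr_self (H12.oneIrr K)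
      have h3 : indFun K (H12.oneIrr K : K → ℂ) = fun _ => 1 := by
        by_contra h3
        rw [H16.ci_irr_ne h1 H12.isIrrCharacter_one h3] at h2
        exact zero_ne_one h2
      have h4 := congrFun h3 1
      rw [H16.ind_apply_one, hdidx, H12.oneIrr_apply, mul_one, Nat.cast_eq_one] at h4
      omega
    have h := sum_one_inner (G := K) (H12.IsCharacter.isClassFunction hres)
    rw [← Finset.add_sum_erase _ _ (Finset.mem_univ (H12.oneIrr K)), hone0, zero_mul, zero_add] at h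
    rw [← hnn φ hφ, show φ 1 = φ ((1 : K) : L) by simp only [OneMemClass.coe_one], ← h]
    refine Finset.sum_congr rfl fun θ _ => ?_
    obtain ⟨c, hc⟩ := H12.IsCharacter.classInner_nat (H12.isCharacter_irr θ) hres
    rw [H12.classInner_indFun K _ (H12.IsCharacter.isClassFunction
        (H12.isCharacter_of_isIrrCharacter (hirr φ hφ))),
      ← H12.conj_classInner (θ : K → ℂ) (fun k : K => φ (k : L)), hc, Complex.conj_natCast, mul_comm]
  have hdegree : ∀ χ : IrrCharacter G, ∀ c : ℤ, (∀ φ ∈ S, classInner φ (fun l : L => (χ : G → ℂ) l)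
        = (c : ℂ) * nn φ + ε * classInner (X φ) (χ : G → ℂ)) →
      ∃ m : ℕ, classInner (fun _ : K => (1 : ℂ)) (fun k : K => (χ : G → ℂ) ((k : L) : G)) = m ∧
        ((∀ φ ∈ S, X φ ≠ (χ : G → ℂ)) → (χ : G → ℂ) 1 = m + c * ((N : ℂ) - 1)) ∧
        ∀ ψ ∈ S, X ψ = (χ : G → ℂ) → (χ : G → ℂ) 1 = m + c * ((N : ℂ) - 1) + ε * (d * nn ψ) := by
    intro χ c hc
    obtain ⟨m, hm, hsum⟩ := hmult _ (H12.isCharacter_irr χ)
    refine ⟨m, hm, fun hno => ?_, fun ψ hψ hψχ => ?_⟩
    · rw [hsum, ← hsumsq, Finset.mul_sum]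
      congr 1
      refine Finset.sum_congr rfl fun θ hθ => ?_
      have hθ' := Finset.ne_of_mem_erase hθ
      rw [hc _ (hone θ hθ'), hθdeg θ hθ', H16.ci_irr_ne (hXirr _ (hone θ hθ')) χ.2
        (hno _ (hone θ hθ')), mul_zero, add_zero]
      ring
    · rw [hsum, ← hsumsq, Finset.mul_sum, add_assoc]
      congr 1
      have e := hφK ψ hψ
      rw [Nat.cast_mul] at e
      rw [← e, Finset.mul_sum, ← Finset.sum_add_distrib]
      refine Finset.sum_congr rfl fun θ hθ => ?_
      have hθ' := Finset.ne_of_mem_erase hθ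
      rw [hc _ (hone θ hθ'), hθdeg θ hθ', H16.irr_inner (hirr _ (hone θ hθ')) (hirr ψ hψ), ← hψχ,
        H16.irr_inner (hXirr _ (hone θ hθ')) (hXirr ψ hψ)]
      by_cases h : indFun K (θ : K → ℂ) = ψ
      · rw [if_pos h, if_pos (by rw [h])]; ring
      · rw [if_neg h, if_neg (fun h' => h (hXinj _ (hone θ hθ') _ hψ h'))]; ring
  -- small irreducible characters are exceptional
  have hsmall : ∀ χ : IrrCharacter G, χ ≠ H12.oneIrr G → H12.degree (χ : G → ℂ) + 1 < N →
      ∃ φ ∈ S, X φ = (χ : G → ℂ) := by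
    intro χ hχ1 hlt
    by_contra hno
    push Not at hno
    obtain ⟨c, hc0, hc⟩ := hcoef χ
    obtain ⟨m, hm, hd1, -⟩ := hdegree χ c hc
    have h := hd1 hno
    rw [H12.irr_apply_one] at h
    have h' : (H12.degree (χ : G → ℂ) : ℤ) = m + c * ((N : ℤ) - 1) := by exact_mod_cast h
    rcases eq_or_lt_of_le hc0 with hc00 | hc00
    · -- `U` lies in the kernel
      subst hc00
      rw [zero_mul, add_zero] at h'
      have hconst : ∀ k : K, (χ : G → ℂ) ((k : L) : G) = (χ : G → ℂ) 1 := by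
        intro k
        have hres : IsCharacter K (fun k : K => (χ : G → ℂ) ((k : L) : G)) :=
          H12.IsCharacter.res (H12.IsCharacter.res (H12.isCharacter_irr χ) L) K
        have hexp := H12.classFunction_apply_eq_sum (H12.IsCharacter.isClassFunction hres) k
        rw [Finset.sum_eq_single (H12.oneIrr K) (fun θ _ hθ => ?_) (by simp)] at hexp
        · rw [hexp, H12.oneIrr_apply, mul_one, ← H12.conj_classInner, show
            classInner (H12.oneIrr K : K → ℂ) (fun k : K => (χ : G → ℂ) ((k : L) : G)) = m from hm,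
            Complex.conj_natCast, H12.irr_apply_one]
          exact_mod_cast h'.symm
        · rw [← H12.conj_classInner, ← H12.classInner_indFun K (θ : K → ℂ)
            (H12.isClassFunction_res (H12.irr_isClassFunction χ) L), hc _ (hone θ hθ),
            H16.ci_irr_ne (hXirr _ (hone θ hθ)) χ.2 (hno _ (hone θ hθ))]
          simp
      haveI := H12.charKer_normal (H12.isCharacter_irr χ)
      have htop : H12.charKer (χ : G → ℂ) (H12.isCharacter_irr χ) = ⊤ := by
        refine (Subgroup.Normal.eq_bot_or_eq_top inferInstance).resolve_left fun hb => ?_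
        obtain ⟨k, hk⟩ := exists_ne (1 : K)
        refine hk (Subtype.ext (Subtype.ext ?_))
        show ((k : L) : G) = 1
        rw [← Subgroup.mem_bot, ← hb]
        exact hconst k
      apply hχ1
      have hchi : (χ : G → ℂ) = fun _ => ((H12.degree (χ : G → ℂ) : ℕ) : ℂ) := funext fun g => by
        rw [← H12.irr_apply_one]
        exact (H12.mem_charKer _).mp (htop ▸ Subgroup.mem_top g)
      have hn := H12.classInner_irr_self χ
      rw [hchi] at hn
      simp only [H12.classInner_def, Complex.conj_natCast, Finset.sum_const, Finset.card_univ,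
        nsmul_eq_mul, ← Nat.card_eq_fintype_card] at hn
      rw [← mul_assoc, inv_mul_cancel₀ (Nat.cast_ne_zero.mpr Nat.card_pos.ne'), one_mul] at hn
      have hd1' : H12.degree (χ : G → ℂ) * H12.degree (χ : G → ℂ) = 1 := by exact_mod_cast hn
      refine Subtype.ext (hchi.trans ?_)
      funext g
      rw [H12.oneIrr_apply, Nat.eq_one_of_mul_eq_one_right hd1', Nat.cast_one]
    · have : (N : ℤ) - 1 ≤ c * ((N : ℤ) - 1) := by nlinarith
      omega
  -- the first exceptional character has degree `d`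
  let χ₁ : IrrCharacter G := ⟨X φ₁, hXirr φ₁ hφ₁S⟩
  obtain ⟨c, hc0, hc⟩ := hcoef χ₁
  obtain ⟨m, hm, -, hd2⟩ := hdegree χ₁ c hc
  have hxeq := hd2 φ₁ hφ₁S rfl
  rw [show (χ₁ : G → ℂ) 1 = (x : ℂ) from hx, hnn1, Nat.cast_one, mul_one] at hxeq
  obtain ⟨e, he, hee⟩ : ∃ e : ℤ, ε = (e : ℂ) ∧ (e = 1 ∨ e = -1) := by
    rcases hε with h | h
    · exact ⟨1, by simp [h], Or.inl rfl⟩
    · exact ⟨-1, by simp [h], Or.inr rfl⟩
  rw [he] at hxeq
  have hxeq' : (x : ℤ) = m + c * ((N : ℤ) - 1) + e * d := by exact_mod_cast hxeq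
  have hc' : c = 0 := by
    by_contra hne
    have h1 : (N : ℤ) - 1 ≤ c * ((N : ℤ) - 1) := by
      have : 1 ≤ c := by omega
      nlinarith
    have h2 : N - 1 - d ≤ x := by
      rcases hee with h | h <;> rw [h] at hxeq' <;> omega
    have h3 : (N - 1) * (N - 1 - d) ^ 2 ≤ (N - 1) * x ^ 2 :=
      Nat.mul_le_mul_left _ (Nat.pow_le_pow_left h2 2)
    have := arith (by omega : 2 ≤ d) hN
    omega
  subst hc'
  have hε1 : ε = 1 := by
    obtain ⟨c', hc'⟩ := res_nat (H12.isCharacter_of_isIrrCharacter (hirr φ₁ hφ₁S))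
      (H12.isCharacter_irr χ₁)
    have h := hc φ₁ hφ₁S
    rw [hc', show classInner (X φ₁) (χ₁ : G → ℂ) = 1 from H12.classInner_irr_self χ₁, he] at h
    have h' : (c' : ℤ) = e := by
      simp only [Int.cast_zero, zero_mul, zero_add, mul_one] at h
      exact_mod_cast h
    rw [he]
    rcases hee with h'' | h''
    · rw [h'', Int.cast_one]
    · exfalso; rw [h''] at h'; omega
  have hxm : x = m + d := by
    rcases hee with h | h
    · rw [h] at hxeq'; omega
    · rw [h] at he; rw [he] at hε1; norm_num at hε1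
  -- `m = 0`
  have hm0 : m = 0 := by
    haveI : Fintype (↥L ⧸ K) := Fintype.ofFinite _
    have hcommQ : ∀ p q : ↥L ⧸ K, p * q = q * p := by
      intro p q
      obtain ⟨p, rfl⟩ := QuotientGroup.mk_surjective p
      obtain ⟨q, rfl⟩ := QuotientGroup.mk_surjective q
      have h : (p * q * p⁻¹ * q⁻¹ : ↥L) ∈ K := hab p q
      rw [← QuotientGroup.eq_one_iff] at h
      simp only [QuotientGroup.mk_mul, QuotientGroup.mk_inv] at h
      exact mul_inv_eq_iff_eq_mul.mp (mul_inv_eq_one.mp h)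
    let μ : IrrCharacter (↥L ⧸ K) → (↥L → ℂ) := fun ψ => (H12.inflate K ψ : ↥L → ℂ)
    have hμch : ∀ ψ, IsCharacter L (μ ψ) := fun ψ => H12.isCharacter_irr (H12.inflate K ψ)
    choose k hk using fun ψ => res_nat (hμch ψ) (H12.isCharacter_irr χ₁)
    have hsum : (m : ℂ) = ∑ ψ : IrrCharacter (↥L ⧸ K), (k ψ : ℂ) := by
      simp only [← hk]
      rw [← H12.classInner_sum_left]
      have hfun : (∑ ψ, μ ψ) = fun l : L => if l ∈ K then (d : ℂ) else 0 := by
        funext l
        rw [Finset.sum_apply]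
        have h := H12.regular_eq_sum (G := ↥L ⧸ K) (l : ↥L ⧸ K)
        simp only [H12.irr_apply_one_of_comm hcommQ, one_mul] at h
        show ∑ ψ, (H12.inflate K ψ : ↥L → ℂ) l = _
        simp only [H12.inflate_apply, h, QuotientGroup.eq_one_iff, ← Subgroup.index_eq_card, hdidx]
      rw [hfun, ← hm, H12.classInner_def, H12.classInner_def]
      simp only [one_mul]
      have hsumK : ∑ l : L, (if l ∈ K then (d : ℂ) else 0) * conj ((χ₁ : G → ℂ) l)
          = (d : ℂ) * ∑ k : K, conj ((χ₁ : G → ℂ) ((k : L) : G)) := by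
        simp only [ite_mul, zero_mul]
        rw [← Finset.sum_filter, Finset.mul_sum]
        exact Finset.sum_subtype _ (fun l => by simp) _
      rw [hsumK, hLcard, hKcard, Nat.cast_mul]
      have hd0 : (d : ℂ) ≠ 0 := Nat.cast_ne_zero.mpr (by omega)
      field_simp
    by_contra hm0
    obtain ⟨ψ, hψ⟩ : ∃ ψ, 1 ≤ k ψ := by
      by_contra hall
      push Not at hall
      apply hm0
      have : (m : ℂ) = 0 := by
        rw [hsum]
        exact Finset.sum_eq_zero fun ψ _ => by rw [Nat.lt_one_iff.mp (hall ψ), Nat.cast_zero]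
      exact_mod_cast this
    set P := indFun L (μ ψ) with hP
    have hPch : IsCharacter G P := H12.IsCharacter.indFun (hμch ψ)
    have hP1 : P 1 = ((N + 1 : ℕ) : ℂ) := by
      rw [hP, H12.indFun_one, hindex]
      show _ * (H12.inflate K ψ : ↥L → ℂ) 1 = _
      rw [H12.inflate_apply, QuotientGroup.mk_one, H12.irr_apply_one_of_comm hcommQ, mul_one]
    have hPu : ∀ l : L, l ∈ K → l ≠ 1 → P (l : G) = 1 := by
      intro l hl hl1
      rw [hP, H12.indFun_apply, ← Finset.sum_subset (s₁ := Finset.univ.filter fun y : G => y ∈ L)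
        (Finset.subset_univ _) (fun y _ hy => H12.extendByZero_of_notMem L _ (fun h => hy
          (Finset.mem_filter.mpr ⟨Finset.mem_univ _,
            hfix y (l : G) hl (fun e => hl1 (Subtype.ext e)) h⟩))),
        Finset.sum_subtype (Finset.univ.filter fun y : G => y ∈ L) (p := fun y => y ∈ L)
          (fun y => by simp)]
      have hterm : ∀ y : {y : G // y ∈ L},
          extendByZero L (μ ψ) ((y : G)⁻¹ * l * y) = 1 := by
        intro y
        have hm' : (⟨y.1, y.2⟩ : L)⁻¹ * l * ⟨y.1, y.2⟩ ∈ K := by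
          have := (inferInstance : K.Normal).conj_mem l hl (⟨y.1, y.2⟩ : L)⁻¹
          rwa [inv_inv] at this
        rw [show ((y : G)⁻¹ * l * y) = (((⟨y.1, y.2⟩ : L)⁻¹ * l * ⟨y.1, y.2⟩ : L) : G) from rfl,
          H12.extendByZero_coe]
        show (H12.inflate K ψ : ↥L → ℂ) _ = 1
        rw [H12.inflate_mem_kernel K ψ hm', H12.inflate_apply, QuotientGroup.mk_one,
          H12.irr_apply_one_of_comm hcommQ]
      rw [Finset.sum_congr rfl (fun y _ => hterm y), Finset.sum_const, Finset.card_univ,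
        nsmul_eq_mul, mul_one, ← Nat.card_eq_fintype_card,
        inv_mul_cancel₀ (Nat.cast_ne_zero.mpr Nat.card_pos.ne')]
    have hαP : ∀ φ ∈ S, classInner (α φ) (fun l : L => P l) = 0 := fun φ hφ => by
      have h0 : classInner (α φ) (fun l : L => P l) = classInner (α φ) (fun _ : L => (1 : ℂ)) := by
        rw [H12.classInner_def, H12.classInner_def]
        congr 1
        refine Finset.sum_congr rfl fun l _ => ?_
        by_cases hl : l ∈ K
        · by_cases hl1 : l = 1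
          · rw [hl1, hα1 φ hφ, zero_mul, zero_mul]
          · rw [hPu l hl hl1]
        · obtain ⟨-, -, h0⟩ := H16.zspan_induced_props K (hαspan φ hφ)
          rw [h0 l hl, zero_mul, zero_mul]
      have hne : ∀ η ∈ S, classInner η (fun _ : L => (1 : ℂ)) = 0 := fun η hη =>
        H16.ci_irr_ne (hirr η hη) H12.isIrrCharacter_one (fun h => by
          have h' : d * nn η = 1 := by
            have := (congrFun h 1).symm.trans (hnn η hη)
            exact_mod_cast this.symm
          have := Nat.eq_one_of_mul_eq_one_right h'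
          omega)
      rw [h0]
      simp only [α]
      rw [H16.ci_sub_left, H16.ci_zsmul_left, hne φ hφ, hne φ₁ hφ₁S]
      simp
    have hPX : ∀ φ ∈ S, classInner P (X φ) = ((nn φ * k ψ : ℕ) : ℂ) := by
      intro φ hφ
      have h1 := hrecip φ hφ P (H12.IsCharacter.isClassFunction hPch)
      have h2 := hαP φ hφ
      simp only [α] at h2
      rw [H16.ci_sub_left, H16.ci_zsmul_left, Int.cast_natCast] at h2
      rw [h2, hε1, one_mul, eq_comm, sub_eq_zero] at h1
      have h3 : classInner P (X φ₁) = (k ψ : ℂ) := by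
        rw [hP, H12.classInner_indFun L _ (H12.irr_isClassFunction χ₁)]
        exact hk ψ
      rw [← H12.conj_classInner, h1, map_mul, H12.conj_classInner, h3, Complex.conj_natCast,
        Nat.cast_mul]
    let e : F → IrrCharacter G := fun φ => ⟨X φ, hXirr _ (hFmem.mp φ.2)⟩
    have heinj : Function.Injective e := fun φ ψ h => Subtype.ext
      (hXinj _ (hFmem.mp φ.2) _ (hFmem.mp ψ.2) (congrArg Subtype.val h))
    have hsle := sum_deg_mul_inner_le hPch hP1 (Finset.univ.image e)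
      (fun χ => if h : ∃ φ : F, e φ = χ then nn h.choose.1 * k ψ else 0) (fun χ hχ => by
        obtain ⟨φ, -, rfl⟩ := Finset.mem_image.mp hχ
        have h : ∃ φ' : F, e φ' = e φ := ⟨φ, rfl⟩
        rw [dif_pos h, show h.choose = φ from heinj h.choose_spec]
        exact hPX _ (hFmem.mp φ.2))
    rw [Finset.sum_image (fun _ _ _ _ h => heinj h)] at hsle
    have hsum' : ∑ φ : F, nn φ.1 * k ψ * (nn φ.1 * x) ≤ N + 1 := by
      refine le_trans (le_of_eq (Finset.sum_congr rfl fun φ _ => ?_)) hsle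
      have h : ∃ φ' : F, e φ' = e φ := ⟨φ, rfl⟩
      rw [dif_pos h, show h.choose = φ from heinj h.choose_spec]
      congr 1
      have h2 := (H12.irr_apply_one (e φ)).symm.trans (hXdeg _ (hFmem.mp φ.2))
      exact_mod_cast h2.symm
    rw [Finset.sum_coe_sort F (fun φ => nn φ * k ψ * (nn φ * x)),
      show ∑ φ ∈ F, nn φ * k ψ * (nn φ * x) = (∑ φ ∈ F, nn φ ^ 2) * (k ψ * x) by
        rw [Finset.sum_mul]; exact Finset.sum_congr rfl fun φ _ => by ring] at hsum'
    have h5 : (N - 1) * (k ψ * x) ≤ d * (N + 1) := by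
      rw [← hFsum, mul_comm _ d, mul_assoc]
      exact Nat.mul_le_mul_left d hsum'
    have h6 : (N - 1) * (d + 1) ≤ (N - 1) * (k ψ * x) :=
      Nat.mul_le_mul_left _ (le_trans (by omega : d + 1 ≤ 1 * x) (Nat.mul_le_mul_right x hψ))
    have h7 : (N - 1) * (d + 1) = d * (N - 1) + (N - 1) := by ring
    have h8 : d * (N + 1) = d * (N - 1) + 2 * d := by
      rw [show N + 1 = N - 1 + 2 by omega]; ring
    nlinarith
  -- `X₁ · conj X₁` has only exceptional constituents besides `1`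
  rw [hm0, zero_add] at hxm
  set Y : G → ℂ := fun g => (χ₁ : G → ℂ) g * conj ((χ₁ : G → ℂ) g) with hY
  have hYch : IsCharacter G Y :=
    H12.IsCharacter.mul (H12.isCharacter_irr χ₁)
      (H12.isCharacter_of_isIrrCharacter (H12.isIrrCharacter_conj χ₁.2))
  have hY1 : Y 1 = ((d * d : ℕ) : ℂ) := by
    show (χ₁ : G → ℂ) 1 * conj ((χ₁ : G → ℂ) 1) = _
    rw [show (χ₁ : G → ℂ) 1 = (x : ℂ) from hx, Complex.conj_natCast, hxm, Nat.cast_mul]
  choose c' hc' using fun χ : IrrCharacter G =>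
    H12.IsCharacter.classInner_nat hYch (H12.isCharacter_irr χ)
  have hY0 : c' (H12.oneIrr G) = 1 := by
    have h : classInner Y (H12.oneIrr G : G → ℂ) = 1 := by
      rw [← H12.classInner_irr_self χ₁, H12.classInner_def, H12.classInner_def]
      simp only [Y, H12.oneIrr_apply, map_one, mul_one]
    rw [hc'] at h
    exact_mod_cast h
  have hYsum : ∑ χ : IrrCharacter G, c' χ * H12.degree (χ : G → ℂ) = d * d := by
    have h := sum_one_inner (G := G) (H12.IsCharacter.isClassFunction hYch)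
    simp only [hc', H12.irr_apply_one, hY1] at h
    exact_mod_cast h
  rw [← Finset.add_sum_erase _ _ (Finset.mem_univ (H12.oneIrr G)), hY0, one_mul] at hYsum
  have hdeg1 : H12.degree (H12.oneIrr G : G → ℂ) = 1 := by
    have h := H12.irr_apply_one (H12.oneIrr G)
    rw [H12.oneIrr_apply] at h
    exact_mod_cast h.symm
  rw [hdeg1] at hYsum
  have hdvd : d ∣ ∑ χ ∈ (Finset.univ : Finset (IrrCharacter G)).erase (H12.oneIrr G),
      c' χ * H12.degree (χ : G → ℂ) := by
    refine Finset.dvd_sum fun χ hχ => ?_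
    rcases Nat.eq_zero_or_pos (c' χ) with h0 | h0
    · rw [h0, zero_mul]; exact dvd_zero d
    have hle : H12.degree (χ : G → ℂ) ≤ d * d := by
      have h9 : c' χ * H12.degree (χ : G → ℂ) ≤ _ :=
        Finset.single_le_sum (f := fun χ : IrrCharacter G => c' χ * H12.degree (χ : G → ℂ))
          (fun _ _ => Nat.zero_le _) hχ
      have h10 := Nat.le_mul_of_pos_left (H12.degree (χ : G → ℂ)) h0
      omega
    obtain ⟨φ, hφ, hφχ⟩ := hsmall χ (Finset.ne_of_mem_erase hχ) (by nlinarith)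
    have h := hXdeg φ hφ
    rw [hφχ, H12.irr_apply_one, Nat.cast_inj, hxm] at h
    rw [h]
    exact (dvd_mul_left d _).mul_left _
  obtain ⟨z, hz⟩ := hdvd
  rw [hz] at hYsum
  have hd1 : d ∣ 1 := (Nat.dvd_add_left (dvd_mul_right d z)).mp (hYsum ▸ dvd_mul_right d d)
  have := Nat.dvd_one.mp hd1
  omega

theorem main [IsSimpleGroup G] (U : Subgroup G) (hTI : IsTISubset (U : Set G))
    [Fintype ↥(Subgroup.normalizer (U : Set G))]
    (hC : ∀ k ∈ U, k ≠ 1 → Subgroup.centralizer ({k} : Set G) ≤ U)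
    (hnil : Group.IsNilpotent U)
    (hab : ∀ x y : ↥(Subgroup.normalizer (U : Set G)),
      ((x * y * x⁻¹ * y⁻¹ : ↥(Subgroup.normalizer (U : Set G))) : G) ∈ U)
    (hfix : ∀ g : G, ∀ u ∈ U, u ≠ 1 → g⁻¹ * u * g ∈ Subgroup.normalizer (U : Set G) →
      g ∈ Subgroup.normalizer (U : Set G))
    (hindex : (Subgroup.normalizer (U : Set G)).index = Nat.card U + 1)
    {d : ℕ} (hdidx : (U.subgroupOf (Subgroup.normalizer (U : Set G))).index = d) (hd : 3 ≤ d)
    (hN : 2 * d ^ 2 + 3 * d + 1 ≤ Nat.card U)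
    (hcoh : IsCoherent (inducedIrrAbove (U.subgroupOf (Subgroup.normalizer (U : Set G))) ⊥) {1}ᶜ
      (fun α => indFun (Subgroup.normalizer (U : Set G)) α)) : False :=
  main_aux U _ Subgroup.le_normalizer Subgroup.normal_in_normalizer
    (H16.centralizer_subgroupOf U hC) (H16.ti_induction_isometry U hTI).2 hnil hab hfix hindex hdidx
    hd hN hcoh

end H66.Feit
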