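import Cfsg.Prelude
import Cfsg.Agent.H65.FourConnected

/-! The commuting graph of four-subgroups and the 2-generated core. -/

set_option autoImplicit false

namespace H66.Four

open Pointwise

variable {G : Type*} [Group G]

/-- Adjacency of four-subgroups. -/
def Adj (A B : Subgroup G) : Prop :=
  IsKleinFour A ∧ IsKleinFour B ∧ ∀ a ∈ A, ∀ b ∈ B, a * b = b * a

theorem adj_symm {A B : Subgroup G} (h : Adj A B) : Adj B A :=
  ⟨h.2.1, h.1, fun b hb a ha => (h.2.2 a ha b hb).symm⟩

theorem conn_symm {A B : Subgroup G} (h : Relation.ReflTransGen Adj A B) :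
    Relation.ReflTransGen Adj B A := by
  induction h with
  | refl => exact Relation.ReflTransGen.refl
  | tail _ h ih => exact (Relation.ReflTransGen.single (adj_symm h)).trans ih

theorem klein_map {H : Type*} [Group H] (f : H →* G) (hf : Function.Injective f) {A : Subgroup H}
    (hA : IsKleinFour A) : IsKleinFour (A.map f) := by
  have e := A.equivMapOfInjective f hf
  exact ⟨by rw [← Nat.card_congr e.toEquiv]; exact hA.card_four,
    by rw [← Monoid.exponent_eq_of_mulEquiv e]; exact hA.exponent_two⟩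

theorem adj_map {H : Type*} [Group H] (f : H →* G) (hf : Function.Injective f) {A B : Subgroup H}
    (h : Adj A B) : Adj (A.map f) (B.map f) := by
  refine ⟨klein_map f hf h.1, klein_map f hf h.2.1, ?_⟩
  rintro _ ⟨a, ha, rfl⟩ _ ⟨b, hb, rfl⟩
  rw [← map_mul, ← map_mul, h.2.2 a ha b hb]

theorem conn_map {H : Type*} [Group H] (f : H →* G) (hf : Function.Injective f) {A B : Subgroup H}
    (h : Relation.ReflTransGen Adj A B) : Relation.ReflTransGen Adj (A.map f) (B.map f) := by
  induction h with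
  | refl => exact Relation.ReflTransGen.refl
  | tail _ h ih => exact ih.tail (adj_map f hf h)

theorem conn_smul (g : G) {A B : Subgroup G} (h : Relation.ReflTransGen Adj A B) :
    Relation.ReflTransGen Adj (MulAut.conj g • A) (MulAut.conj g • B) :=
  conn_map _ (MulAut.conj g).injective h

theorem klein_smul (g : G) {A : Subgroup G} (h : IsKleinFour A) :
    IsKleinFour (MulAut.conj g • A : Subgroup G) :=
  klein_map _ (MulAut.conj g).injective h

variable [Finite G]

theorem exists_four_of_rank {Q : Subgroup G} (h : ¬ Cfsg.PRankLE 2 1 Q) :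
    ∃ W : Subgroup G, IsKleinFour W ∧ W ≤ Q := by
  simp only [Cfsg.PRankLE, not_forall, not_le, pow_one] at h
  obtain ⟨A, hAc, hA2, hA⟩ := h
  haveI : Nontrivial A := Finite.one_lt_card_iff_nontrivial.mp (by omega)
  obtain ⟨a, ha⟩ := exists_ne (1 : A)
  obtain ⟨b, hb⟩ : ∃ b : A, b ≠ 1 ∧ b ≠ a := by
    by_contra hcon
    push Not at hcon
    have hs : (Set.univ : Set A) ⊆ {1, a} := fun x _ => by
      by_cases hx : x = 1
      · simp [hx]
      · simp [hcon x hx]
    have := Set.ncard_le_ncard hs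
    rw [Set.ncard_univ] at this
    have := Set.ncard_insert_le (1 : A) ({a} : Set A)
    rw [Set.ncard_singleton] at this
    omega
  have sq : ∀ x : A, ((x : Q) : G) * ((x : Q) : G) = 1 := fun x => by
    rw [← pow_two, ← Subgroup.coe_pow, hA2 x x.2, Subgroup.coe_one]
  have hc : ((a : Q) : G) * ((b : Q) : G) = ((b : Q) : G) * ((a : Q) : G) :=
    congrArg (fun x : A => ((x : Q) : G)) (hAc.is_comm.comm a b)
  refine ⟨H65.fourOf (sq a) (sq b) hc, H65.isKleinFour_fourOf (sq a) (sq b) hc ?_ ?_ ?_, ?_⟩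
  · exact fun h => ha (Subtype.ext (Subtype.ext h))
  · exact fun h => hb.1 (Subtype.ext (Subtype.ext h))
  · exact fun h => hb.2 (Subtype.ext (Subtype.ext h)).symm
  · rintro g (rfl | rfl | rfl | rfl)
    exacts [one_mem _, a.1.2, b.1.2, mul_mem a.1.2 b.1.2]

theorem rank_of_four {Q W : Subgroup G} (hW : IsKleinFour W) (h : W ≤ Q) : ¬ Cfsg.PRankLE 2 1 Q := by
  intro hr
  have h2 : ∀ a ∈ W.subgroupOf Q, a ^ 2 = 1 := fun a ha => Subtype.ext (by
    rw [Subgroup.coe_pow, pow_two]; exact H65.klein_sub_mul_self hW ha)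
  have hc : IsMulCommutative (W.subgroupOf Q) :=
    ⟨⟨fun a b => Subtype.ext (Subtype.ext (H65.klein_sub_comm hW a.2 b.2))⟩⟩
  have := hr _ hc h2
  rw [Nat.card_congr (Subgroup.subgroupOfEquivOfLe h).toEquiv, hW.card_four] at this
  norm_num at this

/-- The 2-generated core. -/
abbrev core (S : Sylow 2 G) : Subgroup G :=
  ⨆ Q : {Q : Subgroup G // Q ≤ (S : Subgroup G) ∧ ¬ Cfsg.PRankLE 2 1 Q},
    Subgroup.normalizer ((Q : Subgroup G) : Set G)

theorem normalizer_le_core (S : Sylow 2 G) {Q W : Subgroup G} (hQ : Q ≤ (S : Subgroup G))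
    (hW : IsKleinFour W) (hWQ : W ≤ Q) : Subgroup.normalizer (Q : Set G) ≤ core S :=
  le_iSup (fun Q : {Q : Subgroup G // Q ≤ (S : Subgroup G) ∧ ¬ Cfsg.PRankLE 2 1 Q} =>
    Subgroup.normalizer ((Q : Subgroup G) : Set G)) ⟨Q, hQ, rank_of_four hW hWQ⟩

theorem smul_mem_normalizer {D : Subgroup G} {g : G} :
    MulAut.conj g • D = D ↔ g ∈ Subgroup.normalizer (D : Set G) :=
  ⟨fun h => by
    rw [Subgroup.mem_set_normalizer_iff]
    intro x
    conv_rhs => rw [← h]
    constructor
    · intro hx; exact ⟨x, hx, rfl⟩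
    · rintro ⟨y, hy, hxy⟩
      rwa [← (MulAut.conj g).injective (show MulAut.conj g y = MulAut.conj g x from hxy)],
   fun h => SetLike.ext fun x => by
    rw [Subgroup.mem_set_normalizer_iff] at h
    constructor
    · rintro ⟨y, hy, rfl⟩
      exact (h y).mp hy
    · intro hx
      refine ⟨g⁻¹ * x * g, (h _).mpr (by simpa [mul_assoc] using hx), ?_⟩
      show g * (g⁻¹ * x * g) * g⁻¹ = x
      group⟩

/-- The core-orbit of `S` contains every Sylow subgroup meeting one of its members in a four-group. -/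
theorem orbit_closed (S : Sylow 2 G) : ∀ (n : ℕ) (m : G), m ∈ core S → ∀ (T : Sylow 2 G) (A : Subgroup G),
    IsKleinFour A → A ≤ ((m • S : Sylow 2 G) : Subgroup G) → A ≤ (T : Subgroup G) →
    Nat.card G ≤ n + Nat.card (((m • S : Sylow 2 G) : Subgroup G) ⊓ (T : Subgroup G) : Subgroup G) →
    ∃ m' ∈ core S, T = m' • S := by
  haveI : Fact (Nat.Prime 2) := ⟨Nat.prime_two⟩
  intro n
  induction n using Nat.strong_induction_on with
  | _ n ih =>
    intro m hm T A hA hAm hAT hn
    set T₁ : Sylow 2 G := m • S with hT₁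
    set D : Subgroup G := (T₁ : Subgroup G) ⊓ (T : Subgroup G) with hD
    by_cases hDT : D = (T₁ : Subgroup G)
    · exact ⟨m, hm, Sylow.ext (T₁.is_maximal' T.isPGroup' (hDT ▸ inf_le_right))⟩
    have hDT' : D < (T : Subgroup G) := by
      refine inf_le_right.lt_of_ne fun h => hDT ?_
      have := T.is_maximal' T₁.isPGroup' (h ▸ inf_le_left)
      rw [hD, this, inf_idem]
    have hAD : A ≤ D := le_inf hAm hAT
    -- `N(D)` is in the core
    have hND : Subgroup.normalizer (D : Set G) ≤ core S := by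
      intro g hg
      set D' : Subgroup G := MulAut.conj m⁻¹ • D with hD'
      have hD'S : D' ≤ (S : Subgroup G) := by
        rw [hD']
        rintro _ ⟨x, hx, rfl⟩
        have hx1 : x ∈ (T₁ : Subgroup G) := (Subgroup.mem_inf.mp hx).1
        rw [hT₁, Sylow.coe_subgroup_smul] at hx1
        obtain ⟨y, hy, rfl⟩ := hx1
        show m⁻¹ * (m * y * m⁻¹) * m⁻¹⁻¹ ∈ _
        rw [show m⁻¹ * (m * y * m⁻¹) * m⁻¹⁻¹ = y by group]
        exact hy
      have hAD' : MulAut.conj m⁻¹ • A ≤ D' := Subgroup.map_mono hAD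
      have h1 : m⁻¹ * g * m ∈ Subgroup.normalizer (D' : Set G) := by
        rw [← smul_mem_normalizer, hD', smul_smul, ← map_mul]
        conv_rhs => rw [← smul_mem_normalizer.mpr hg, smul_smul, ← map_mul]
        congr 2
        group
      have h2 := normalizer_le_core S hD'S (klein_smul m⁻¹ hA) hAD' h1
      have := (core S).mul_mem ((core S).mul_mem hm h2) ((core S).inv_mem hm)
      simpa [mul_assoc] using this
    set N : Subgroup G := Subgroup.normalizer (D : Set G) with hN
    -- `2`-groups of `N` above `D`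
    have grow : ∀ R : Sylow 2 G, D < (R : Subgroup G) → D < N ⊓ (R : Subgroup G) := by
      intro R hR
      haveI := (show IsPGroup 2 (R : Subgroup G) from R.isPGroup').isNilpotent
      have h1 : D.subgroupOf (R : Subgroup G) < ⊤ := by
        refine lt_top_iff_ne_top.mpr fun h => hR.not_ge ?_
        exact Subgroup.subgroupOf_eq_top.mp h
      have h2 := Group.normalizerCondition_of_isNilpotent (D.subgroupOf (R : Subgroup G)) h1
      obtain ⟨x, hx, hxD⟩ := SetLike.exists_of_lt h2
      refine SetLike.lt_iff_le_and_exists.mpr ⟨le_inf Subgroup.le_normalizer hR.le, x.1, ?_, hxD⟩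
      refine Subgroup.mem_inf.mpr ⟨?_, x.2⟩
      rw [hN, Subgroup.mem_set_normalizer_iff]
      intro y
      rw [Subgroup.mem_set_normalizer_iff] at hx
      constructor
      · intro hy
        exact (hx ⟨y, hR.le hy⟩).mp hy
      · intro hy
        have hy' := (R : Subgroup G).mul_mem ((R : Subgroup G).mul_mem ((R : Subgroup G).inv_mem x.2) (hR.le hy)) x.2
        have : y ∈ (R : Subgroup G) := by simpa [mul_assoc] using hy'
        exact (hx ⟨y, this⟩).mpr hy
    have hDT₁ : D < (T₁ : Subgroup G) := inf_le_left.lt_of_ne hDT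
    set E₁ : Subgroup G := N ⊓ (T₁ : Subgroup G) with hE₁
    set E₂ : Subgroup G := N ⊓ (T : Subgroup G) with hE₂
    have p₁ : IsPGroup 2 (E₁.subgroupOf N) :=
      T₁.isPGroup'.comap_of_injective N.subtype N.subtype_injective |>.to_le
        (Subgroup.comap_mono inf_le_right)
    have p₂ : IsPGroup 2 (E₂.subgroupOf N) :=
      T.isPGroup'.comap_of_injective N.subtype N.subtype_injective |>.to_le
        (Subgroup.comap_mono inf_le_right)
    obtain ⟨R₁, hR₁⟩ := p₁.exists_le_sylow
    obtain ⟨R₂, hR₂⟩ := p₂.exists_le_sylow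
    obtain ⟨c, hc⟩ := MulAction.exists_smul_eq N R₁ R₂
    obtain ⟨T₃, hT₃⟩ := (R₁.isPGroup'.map N.subtype).exists_le_sylow
    have hE₁T₃ : E₁ ≤ (T₃ : Subgroup G) := fun x hx =>
      hT₃ ⟨⟨x, (Subgroup.mem_inf.mp hx).1⟩, hR₁ hx, rfl⟩
    have hE₂T₄ : E₂ ≤ ((c.1 • T₃ : Sylow 2 G) : Subgroup G) := by
      intro x hx
      have h1 : (⟨x, (Subgroup.mem_inf.mp hx).1⟩ : N) ∈ (R₂ : Subgroup N) := hR₂ hx
      rw [← hc, Sylow.coe_subgroup_smul] at h1
      obtain ⟨y, hy, hyx⟩ := h1
      rw [Sylow.coe_subgroup_smul]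
      exact ⟨y.1, hT₃ ⟨y, hy, rfl⟩, congrArg Subtype.val hyx⟩
    have card_lt : ∀ {K : Subgroup G}, D < K → Nat.card G ≤ n - 1 + Nat.card K ∧ n - 1 < n := by
      intro K hK
      have h1 : Nat.card D < Nat.card K := by
        refine lt_of_le_of_ne (Subgroup.card_le_of_le hK.le) fun h => hK.ne ?_
        exact Subgroup.eq_of_le_of_card_ge hK.le h.ge
      have h2 : Nat.card K ≤ Nat.card G := Subgroup.card_le_card_group K
      omega
    have g₁ : D < (T₁ : Subgroup G) ⊓ (T₃ : Subgroup G) :=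
      (grow T₁ hDT₁).trans_le (le_inf inf_le_right hE₁T₃)
    obtain ⟨m₃, hm₃, hT₃m⟩ := ih (n - 1) (card_lt g₁).2 m hm T₃ A hA hAm
      (hAD.trans ((grow T₁ hDT₁).le.trans hE₁T₃)) (card_lt g₁).1
    have hcm : c.1 * m₃ ∈ core S := (core S).mul_mem (hND c.2) hm₃
    have e4 : ((c.1 * m₃) • S : Sylow 2 G) = c.1 • T₃ := by rw [mul_smul, hT₃m]
    have g₂ : D < ((c.1 • T₃ : Sylow 2 G) : Subgroup G) ⊓ (T : Subgroup G) :=
      (grow T hDT').trans_le (le_inf hE₂T₄ inf_le_right)
    rw [← e4] at g₂
    exact ih (n - 1) (card_lt g₂).2 _ hcm T A hA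
      (e4 ▸ hAD.trans ((grow T hDT').le.trans hE₂T₄)) hAT (card_lt g₂).1

theorem core_top_of_connected (S : Sylow 2 G) {W : Subgroup G} (hW : IsKleinFour W)
    (hWS : W ≤ (S : Subgroup G)) (h : Cfsg.IsFourConnected G) : core S = ⊤ := by
  haveI : Fact (Nat.Prime 2) := ⟨Nat.prime_two⟩
  have step : ∀ B, Relation.ReflTransGen Adj W B → IsKleinFour B ∧ ∀ T : Sylow 2 G,
      B ≤ (T : Subgroup G) → ∃ m ∈ core S, T = m • S := by
    intro B hB
    induction hB with
    | refl =>
      exact ⟨hW, fun T hT => orbit_closed S (Nat.card G) 1 (one_mem _) T W hW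
        (by rw [one_smul]; exact hWS) hT (Nat.le_add_right _ _)⟩
    | @tail A B _ hAB ih =>
      refine ⟨hAB.2.1, fun T hT => ?_⟩
      have hn : A ≤ Subgroup.normalizer (B : Set G) := by
        intro a ha
        rw [Subgroup.mem_set_normalizer_iff]
        intro b
        constructor
        · intro hb
          rwa [hAB.2.2 a ha b hb, mul_inv_cancel_right]
        · intro hb
          have h1 := hAB.2.2 a ha _ hb
          have : b = a * b * a⁻¹ := by
            calc b = a⁻¹ * ((a * b * a⁻¹) * a) := by group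
              _ = a⁻¹ * (a * (a * b * a⁻¹)) := by rw [h1]
              _ = _ := by group
          rwa [this]
      have hpA : IsPGroup 2 A := IsPGroup.of_card (n := 2) hAB.1.card_four
      have hpB : IsPGroup 2 B := IsPGroup.of_card (n := 2) hAB.2.1.card_four
      obtain ⟨T₂, hT₂⟩ := (IsPGroup.to_sup_of_normal_right' hpA hpB hn).exists_le_sylow
      obtain ⟨m, hm, rfl⟩ := ih.2 T₂ (le_sup_left.trans hT₂)
      exact orbit_closed S (Nat.card G) m hm T B hAB.2.1 (le_sup_right.trans hT₂) hT
        (Nat.le_add_right _ _)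
  refine (Subgroup.eq_top_iff' _).mpr fun g => ?_
  have hle : MulAut.conj g • W ≤ ((g • S : Sylow 2 G) : Subgroup G) := by
    rw [Sylow.coe_subgroup_smul]; exact Subgroup.map_mono hWS
  obtain ⟨m, hm, hgm⟩ := (step _ (h W _ hW (klein_smul g hW))).2 _ hle
  have h1 : m⁻¹ * g ∈ Subgroup.normalizer ((S : Subgroup G) : Set G) :=
    Sylow.smul_eq_iff_mem_normalizer.mp
      (by rw [mul_smul, hgm, ← mul_smul, inv_mul_cancel, one_smul])
  have h2 := normalizer_le_core S le_rfl hW hWS h1
  simpa using (core S).mul_mem hm h2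

theorem connected_of_core_top (S : Sylow 2 G) {W : Subgroup G} (hW : IsKleinFour W)
    (hWS : W ≤ (S : Subgroup G)) (hS : Cfsg.IsFourConnected (S : Subgroup G)) (h : core S = ⊤) :
    Cfsg.IsFourConnected G := by
  haveI : Fact (Nat.Prime 2) := ⟨Nat.prime_two⟩
  have inS : ∀ V : Subgroup G, IsKleinFour V → V ≤ (S : Subgroup G) → Relation.ReflTransGen Adj W V := by
    intro V hV hVS
    have toS : ∀ U : Subgroup G, IsKleinFour U → U ≤ (S : Subgroup G) →
        IsKleinFour (U.subgroupOf (S : Subgroup G)) := by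
      intro U hU hUS
      have e := Subgroup.subgroupOfEquivOfLe hUS
      exact ⟨by rw [Nat.card_congr e.toEquiv]; exact hU.card_four,
        by rw [Monoid.exponent_eq_of_mulEquiv e]; exact hU.exponent_two⟩
    have h1 := conn_map (S : Subgroup G).subtype Subtype.coe_injective
      (hS _ _ (toS W hW hWS) (toS V hV hVS))
    rwa [Subgroup.subgroupOf_map_subtype, Subgroup.subgroupOf_map_subtype, inf_eq_left.mpr hWS,
      inf_eq_left.mpr hVS] at h1
  let H : Subgroup G :=
    { carrier := {g | Relation.ReflTransGen Adj W (MulAut.conj g • W)}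
      one_mem' := by
        show Relation.ReflTransGen Adj W _
        rw [map_one, one_smul]
      mul_mem' := by
        intro a b ha hb
        have h1 := conn_smul a hb
        rw [smul_smul, ← map_mul] at h1
        exact ha.trans h1
      inv_mem' := by
        intro a ha
        have h1 := conn_smul a⁻¹ ha
        rw [smul_smul, ← map_mul, inv_mul_cancel, map_one, one_smul] at h1
        exact conn_symm h1 }
  have hH : core S ≤ H := by
    refine iSup_le fun ⟨Q, hQS, hQr⟩ g hg => ?_
    obtain ⟨V, hV, hVQ⟩ := exists_four_of_rank hQr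
    have hWV := inS V hV (hVQ.trans hQS)
    have h1 : MulAut.conj g • V ≤ Q :=
      (Subgroup.map_mono hVQ).trans (smul_mem_normalizer.mpr hg).le
    exact (inS _ (klein_smul g hV) (h1.trans hQS)).trans (conn_smul g (conn_symm hWV))
  have key : ∀ V : Subgroup G, IsKleinFour V → Relation.ReflTransGen Adj W V := by
    intro V hV
    obtain ⟨T, hT⟩ := (IsPGroup.of_card (p := 2) (n := 2) hV.card_four).exists_le_sylow
    obtain ⟨g, rfl⟩ := MulAction.exists_smul_eq G S T
    have h1 : MulAut.conj g⁻¹ • V ≤ (S : Subgroup G) := by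
      rintro _ ⟨x, hx, rfl⟩
      have hx1 := hT hx
      rw [Sylow.coe_subgroup_smul] at hx1
      obtain ⟨y, hy, rfl⟩ := hx1
      show g⁻¹ * (g * y * g⁻¹) * g⁻¹⁻¹ ∈ _
      rw [show g⁻¹ * (g * y * g⁻¹) * g⁻¹⁻¹ = y by group]
      exact hy
    have h2 := conn_smul g (inS _ (klein_smul g⁻¹ hV) h1)
    rw [smul_smul, ← map_mul, mul_inv_cancel, map_one, one_smul] at h2
    exact Relation.ReflTransGen.trans (hH (h ▸ Subgroup.mem_top g)) h2
  exact fun U V hU hV => (conn_symm (key U hU)).trans (key V hV)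

end H66.Four
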