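import Cfsg.Agent.H6.Basic
import Cfsg.Agent.H6.Commutator
import Cfsg.Agent.H2.FPFSubgroup
import Cfsg.Agent.H82.PRankOne
import Cfsg.Agent.H83.NormalSquare

/-!
Odd p-groups acting on an elementary abelian group with all stabilisers of the same order are
cyclic and fixed-point-free.
-/

set_option autoImplicit false

namespace H66

open Finset
open scoped commutatorElement

variable {P E : Type*} [Group P] [AddCommGroup E] [DistribMulAction P E]

/-- the sum over the first `p` powers of `g` -/
noncomputable def orbitSum (p : ℕ) (g : P) : E →+ E :=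
  ∑ i ∈ range p, DistribSMul.toAddMonoidHom E (g ^ i)

theorem orbitSum_apply (p : ℕ) (g : P) (e : E) :
    orbitSum p g e = ∑ i ∈ range p, g ^ i • e := by
  simp [orbitSum]

theorem orbitSum_fixed (p : ℕ) {g : P} {e : E} (h : g • e = e) : orbitSum p g e = p • e := by
  rw [orbitSum_apply]
  have hi : ∀ i : ℕ, g ^ i • e = e := fun i => by
    induction i with
    | zero => simp
    | succ i ih => rw [pow_succ, mul_smul, h, ih]
  simp [hi]

theorem smul_orbitSum (p : ℕ) {g : P} (hg : g ^ p = 1) (e : E) :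
    g • orbitSum p g e = orbitSum p g e := by
  rw [orbitSum_apply, Finset.smul_sum]
  simp_rw [← mul_smul, ← pow_succ']
  have h1 := Finset.sum_range_succ' (fun i => g ^ i • e) p
  rw [Finset.sum_range_succ, hg, pow_zero] at h1
  exact (add_right_cancel h1).symm

theorem orbitSum_conj (p : ℕ) (x g : P) (e : E) :
    orbitSum p (x * g * x⁻¹) (x • e) = x • orbitSum p g e := by
  rw [orbitSum_apply, orbitSum_apply, Finset.smul_sum]
  refine Finset.sum_congr rfl fun i _ => ?_
  rw [← mul_smul, ← mul_smul, conj_pow, inv_mul_cancel_right]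

theorem orbitSum_comm (p : ℕ) {x g : P} (h : Commute x g) (e : E) :
    orbitSum p g (x • e) = x • orbitSum p g e := by
  rw [← orbitSum_conj p x g e, h.eq, mul_inv_cancel_right]

/-- a distributive action on `E`, as an action on `Multiplicative E` -/
@[reducible] def mulAct : MulDistribMulAction P (Multiplicative E) where
  smul g m := Multiplicative.ofAdd (g • m.toAdd)
  one_smul m := congrArg Multiplicative.ofAdd (one_smul P m.toAdd)
  mul_smul g h m := congrArg Multiplicative.ofAdd (mul_smul g h m.toAdd)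
  smul_mul g m n := congrArg Multiplicative.ofAdd (smul_add g m.toAdd n.toAdd)
  smul_one g := congrArg Multiplicative.ofAdd (smul_zero (A := E) g)

variable [Finite P] {p : ℕ} [hp : Fact p.Prime]

/-- the core configuration is impossible -/
theorem no_noncentral_fixed (hp2 : p ≠ 2) (hinj : ∀ e : E, p • e = 0 → e = 0)
    (hconst : ∀ a b : E, a ≠ 0 → b ≠ 0 →
      Nat.card (MulAction.stabilizer P a) = Nat.card (MulAction.stabilizer P b))
    {z g : P} (hz : z ^ p = 1) (hzc : ∀ x : P, Commute x z)
    (hzf : ∀ i : ℤ, z ^ i ≠ 1 → ∀ e : E, z ^ i • e = e → e = 0)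
    (hg : g ^ p = 1) (hgc : ∃ y : P, y * g ≠ g * y)
    (hgU : ∀ x : P, x * g * x⁻¹ * g⁻¹ ∈ Subgroup.zpowers z) {a : E} (ha : a ≠ 0) (hga : g • a = a) :
    False := by
  obtain ⟨y, hy⟩ := hgc
  have hform : ∀ x : P, ∃ j : ℤ, x * g * x⁻¹ = z ^ j * g := fun x => by
    obtain ⟨j, hj⟩ := Subgroup.mem_zpowers_iff.mp (hgU x)
    exact ⟨j, by rw [hj]; group⟩
  obtain ⟨i, hi⟩ := hform y
  have hzi : z ^ i ≠ 1 := fun h => hy (by
    rw [h, one_mul] at hi
    exact mul_inv_eq_iff_eq_mul.mp hi)
  have hzero : ∀ k : ℤ, z ^ k ≠ 1 → ∀ e : E, orbitSum p (z ^ k) e = 0 := fun k hk e =>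
    hzf k hk _ (smul_orbitSum p (by rw [← zpow_natCast, ← zpow_mul, mul_comm, zpow_mul,
      zpow_natCast, hz, one_zpow]) e)
  -- a conjugate `z ^ k * g` kills a vector fixed by another conjugate
  have hkill : ∀ j k : ℤ, z ^ j ≠ z ^ k → ∀ e : E, (z ^ j * g) • e = e →
      orbitSum p (z ^ k * g) e = 0 := by
    intro j k hjk e he
    have hne : z ^ (k - j) ≠ 1 := fun h => hjk (by
      rw [zpow_sub, mul_inv_eq_one] at h; exact h.symm)
    rw [← hzero (k - j) hne e, orbitSum_apply, orbitSum_apply]
    refine Finset.sum_congr rfl fun n _ => ?_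
    have hc : Commute (z ^ (k - j)) (z ^ j * g) :=
      ((Commute.zpow_zpow_self z (k - j) j).mul_right ((hzc g).symm.zpow_left _))
    have e1 : z ^ k * g = z ^ (k - j) * (z ^ j * g) := by rw [← mul_assoc, ← zpow_add, sub_add_cancel]
    rw [e1, hc.mul_pow, mul_smul]
    congr 1
    exact (pow_mem (show z ^ j * g ∈ MulAction.stabilizer P e from he) n : _)
  set b := y • a with hb
  have hb0 : b ≠ 0 := fun h => ha (by
    rw [← inv_smul_smul y a, ← hb, h, smul_zero])
  have hgb : (z ^ i * g) • b = b := by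
    rw [← hi, hb, ← mul_smul, inv_mul_cancel_right, mul_smul, hga]
  have hga' : (z ^ (0 : ℤ) * g) • a = a := by rw [zpow_zero, one_mul, hga]
  have hNg : orbitSum p g (a + b) = p • a := by
    rw [map_add, orbitSum_fixed p hga]
    have h2 := hkill i 0 (by rwa [zpow_zero]) b hgb
    rw [zpow_zero, one_mul] at h2
    rw [h2, add_zero]
  have hNi : orbitSum p (z ^ i * g) (a + b) = p • b := by
    rw [map_add, orbitSum_fixed p hgb, hkill 0 i (by rw [zpow_zero]; exact hzi.symm) a hga',
      zero_add]
  have hab : a + b ≠ 0 := fun h => by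
    rw [h, map_zero] at hNg
    exact ha (hinj a hNg.symm)
  have hpinj : ∀ u v : E, p • u = p • v → u = v := fun u v h =>
    sub_eq_zero.mp (hinj _ (by rw [smul_sub, h, sub_self]))
  have hfix : ∀ x : P, x • (a + b) = a + b → x • a = a ∧ x • b = b := by
    intro x hx
    obtain ⟨j, hj⟩ := hform x
    have h1 := orbitSum_conj p x g (a + b)
    rw [hx, hj, hNg, smul_comm x p a] at h1
    by_cases hj0 : z ^ j = 1
    · rw [hj0, one_mul, hNg] at h1
      have h2 : x • a = a := (hpinj _ _ h1).symm
      refine ⟨h2, ?_⟩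
      rw [smul_add, h2] at hx
      exact add_left_cancel hx
    · exfalso
      by_cases hji : z ^ j = z ^ i
      · rw [hji, hNi] at h1
        have h2 : x • a = b := (hpinj _ _ h1).symm
        have h3 : x • b = a := by
          rw [smul_add, h2, add_comm a b] at hx
          exact add_left_cancel hx
        have hxx : (x * x) • a = a := by rw [mul_smul, h2, h3]
        have hzfix : (z ^ (j + j)) • a = a := by
          have e2 : (x * x) * g * (x * x)⁻¹ = z ^ (j + j) * g := by
            calc (x * x) * g * (x * x)⁻¹ = x * (x * g * x⁻¹) * x⁻¹ := by group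
              _ = z ^ j * (x * g * x⁻¹) := by
                rw [hj, ← mul_assoc x, ((hzc x).zpow_right j).eq, mul_assoc (z ^ j) x g,
                  mul_assoc (z ^ j) (x * g) x⁻¹, hj]
              _ = _ := by rw [hj, ← mul_assoc, zpow_add]
          have h4 : ((x * x) * g * (x * x)⁻¹) • a = a := by
            rw [mul_smul, mul_smul, inv_smul_eq_iff.mpr hxx.symm, hga, hxx]
          rw [e2, mul_smul, hga] at h4
          exact h4
        apply hj0
        by_contra hne
        refine ha (hzf (j + j) ?_ a hzfix)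
        intro h5
        have h6 : (z ^ j) ^ 2 = 1 := by rw [pow_two, ← zpow_add, h5]
        have h7 : (z ^ j) ^ p = 1 := by
          rw [← zpow_natCast, ← zpow_mul, mul_comm, zpow_mul, zpow_natCast, hz, one_zpow]
        have h8 := pow_gcd_eq_one.mpr ⟨h6, h7⟩
        rw [(Nat.coprime_primes Nat.prime_two hp.out).mpr (Ne.symm hp2), pow_one] at h8
        exact hne h8
      · rw [map_add, hkill 0 j (by rw [zpow_zero]; exact Ne.symm hj0) a hga',
          hkill i j (Ne.symm hji) b hgb, add_zero] at h1
        exact ha (by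
          have := hinj _ h1.symm
          rw [← inv_smul_smul x a, this, smul_zero])
  have hle : MulAction.stabilizer P (a + b) ≤ MulAction.stabilizer P a := fun x hx => (hfix x hx).1
  have heq := Subgroup.eq_of_le_of_card_ge hle (hconst a (a + b) ha hab).le
  have hgab : g • (a + b) = a + b := by
    have h : g ∈ MulAction.stabilizer P (a + b) := by rw [heq]; exact hga
    exact h
  have h9 := (hfix g hgab).2
  rw [mul_smul, h9] at hgb
  exact hb0 (hzf i hzi b hgb)

variable [Finite E] [FaithfulSMul P E]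

theorem halfTrans_cyclic_fpf (hp2 : p ≠ 2) (hP : IsPGroup p P) {q : ℕ} (hq : q.Prime)
    (hE : ∀ e : E, q • e = 0)
    (hconst : ∀ a b : E, a ≠ 0 → b ≠ 0 →
      Nat.card (MulAction.stabilizer P a) = Nat.card (MulAction.stabilizer P b)) :
    IsCyclic P ∧ ∀ g : P, g ≠ 1 → ∀ a : E, g • a = a → a = 0 := by
  classical
  rcases subsingleton_or_nontrivial E with hsub | hnt
  · haveI : Subsingleton P := ⟨fun g h => eq_of_smul_eq_smul fun e : E => Subsingleton.elim _ _⟩
    exact ⟨inferInstance, fun g hg => absurd (Subsingleton.elim g 1) hg⟩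
  rcases subsingleton_or_nontrivial P with hsub | hntP
  · exact ⟨inferInstance, fun g hg => absurd (Subsingleton.elim g 1) hg⟩
  have hpq : p ≠ q := by
    intro hpq
    have hEp : IsPGroup p (Multiplicative E) := fun e => ⟨1, by
      apply Multiplicative.toAdd.injective
      simp only [pow_one, toAdd_pow, toAdd_one]
      rw [hpq]; exact hE _⟩
    obtain ⟨n, hn⟩ := hEp.exists_card_eq
    rw [Nat.card_congr (Multiplicative.ofAdd (α := E)).symm] at hn
    have hn0 : n ≠ 0 := fun h => by
      rw [h, pow_zero] at hn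
      exact absurd hn Finite.one_lt_card.ne'
    obtain ⟨b, hb, hb0⟩ := hP.exists_fixed_point_of_prime_dvd_card_of_fixed_point E
      (hn ▸ dvd_pow_self p hn0) (a := 0) (fun g => smul_zero g)
    obtain ⟨g, hg⟩ := exists_ne (1 : P)
    apply hg
    apply eq_of_smul_eq_smul (α := E)
    intro e
    rw [one_smul]
    by_cases he : e = 0
    · rw [he, smul_zero]
    · have htop : MulAction.stabilizer P b = ⊤ := (Subgroup.eq_top_iff' _).mpr fun x => hb x
      have h2 : MulAction.stabilizer P e = ⊤ :=
        Subgroup.eq_top_of_card_eq _ (by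
          rw [hconst e b he hb0.symm, htop, Subgroup.card_top])
      have h3 : g ∈ MulAction.stabilizer P e := h2 ▸ Subgroup.mem_top g
      exact h3
  have hinj : ∀ e : E, p • e = 0 → e = 0 := fun e he => by
    have h1 := addOrderOf_dvd_of_nsmul_eq_zero he
    have h2 := addOrderOf_dvd_of_nsmul_eq_zero (hE e)
    have h3 := Nat.dvd_gcd h1 h2
    rw [(Nat.coprime_primes hp.out hq).mpr hpq, Nat.dvd_one, AddMonoid.addOrderOf_eq_one_iff] at h3
    exact h3
  -- central elements of order `p` are fixed-point-free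
  have hcentral : ∀ w : P, w ≠ 1 → w ^ p = 1 → (∀ x, Commute x w) → ∀ a : E, w • a = a → a = 0 := by
    intro w hw1 hwp hwc a hwa
    by_contra ha
    obtain ⟨e, he⟩ : ∃ e : E, w • e ≠ e := by
      by_contra hcon
      push Not at hcon
      exact hw1 (eq_of_smul_eq_smul fun e : E => by rw [hcon e, one_smul])
    set b := w • e - e with hb
    have hb0 : b ≠ 0 := fun h => he (sub_eq_zero.mp h)
    have hNb : orbitSum p w b = 0 := by
      rw [hb, map_sub, orbitSum_comm p (Commute.refl w), smul_orbitSum p hwp, sub_self]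
    have hab : a + b ≠ 0 := fun h => by
      have h2 : orbitSum p w (a + b) = 0 := by rw [h, map_zero]
      rw [map_add, orbitSum_fixed p hwa, hNb, add_zero] at h2
      exact ha (hinj a h2)
    have hfix : ∀ x : P, x • (a + b) = a + b → x • a = a ∧ x • b = b := by
      intro x hx
      have h1 := orbitSum_comm p (hwc x) (a + b)
      rw [hx, map_add, orbitSum_fixed p hwa, hNb, add_zero, smul_comm x p a] at h1
      have h2 : x • a = a :=
        (sub_eq_zero.mp (hinj _ (by rw [smul_sub, ← h1, sub_self]))).symm.symm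
      refine ⟨h2, ?_⟩
      rw [smul_add, h2] at hx
      exact add_left_cancel hx
    have heq := Subgroup.eq_of_le_of_card_ge
      (show MulAction.stabilizer P (a + b) ≤ MulAction.stabilizer P a from fun x hx => (hfix x hx).1)
      (hconst a (a + b) ha hab).le
    have hw : w ∈ MulAction.stabilizer P (a + b) := heq ▸ hwa
    have hwb := (hfix w hw).2
    rw [orbitSum_fixed p hwb] at hNb
    exact hb0 (hinj b hNb)
  obtain ⟨z, -, hzC, hzo⟩ := H6.exists_mem_center_orderOf hP (N := ⊤) (by simp)
  have hzp : z ^ p = 1 := hzo ▸ pow_orderOf_eq_one z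
  have hzc : ∀ x : P, Commute x z := fun x => Subgroup.mem_center_iff.mp hzC x
  have hz1 : z ≠ 1 := fun h => by simp [h] at hzo; exact hp.out.one_lt.ne hzo
  have hzf : ∀ i : ℤ, z ^ i ≠ 1 → ∀ e : E, z ^ i • e = e → e = 0 := fun i hi =>
    hcentral _ hi (by rw [← zpow_natCast, ← zpow_mul, mul_comm, zpow_mul, zpow_natCast, hzp,
      one_zpow]) (fun x => (hzc x).zpow_right i)
  suffices hfpf : ∀ g : P, g ≠ 1 → ∀ a : E, g • a = a → a = 0 by
    refine ⟨?_, hfpf⟩
    by_contra hnc
    have hnc' : ¬ IsCyclic (⊤ : Subgroup P) := fun h =>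
      hnc (Subgroup.topEquiv.isCyclic.mp h)
    obtain ⟨A, -, hA, hAc⟩ := H82.exists_elemAb_sq hp2 (hP.to_subgroup ⊤) hnc'
    letI := mulAct (P := P) (E := E)
    haveI := H2.isCyclic_subgroup_prime_sq (M := Multiplicative E)
      (fun f hf m hm => by
        apply Multiplicative.toAdd.injective
        exact hfpf f hf _ (congrArg Multiplicative.toAdd hm)) A hAc
    obtain ⟨u, hu⟩ := IsCyclic.exists_ofOrder_eq_natCard (α := A)
    have := orderOf_dvd_of_pow_eq_one (Subtype.ext (hA.2 u u.2) : u ^ p = 1)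
    rw [hu, hAc, pow_two] at this
    have := Nat.le_of_dvd hp.out.pos this
    nlinarith [hp.out.one_lt]
  intro g₀ hg₀ a₀ hga₀
  by_contra ha₀
  -- an element of order `p` fixing `a₀`
  obtain ⟨g, hg1, hgp, hga⟩ : ∃ g : P, g ≠ 1 ∧ g ^ p = 1 ∧ g • a₀ = a₀ := by
    haveI : Nontrivial (MulAction.stabilizer P a₀) :=
      ⟨⟨g₀, hga₀⟩, 1, fun h => hg₀ (congrArg Subtype.val h)⟩
    obtain ⟨g, hg⟩ := exists_prime_orderOf_dvd_card' p
      ((hP.to_subgroup (MulAction.stabilizer P a₀)).card_eq_or_dvd.resolve_left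
        Finite.one_lt_card.ne')
    rw [← Subgroup.orderOf_coe] at hg
    refine ⟨g, fun h => ?_, hg ▸ pow_orderOf_eq_one (g : P), g.2⟩
    rw [h, orderOf_one] at hg
    exact hp.out.one_lt.ne hg
  obtain ⟨A, -, hAn, hAc, hAmax⟩ :=
    H6.exists_maximal_normal_abelian (B := (⊥ : Subgroup P)) inferInstance inferInstance
  haveI := hAn
  have hself := H6.centralizer_eq_of_maximal_normal_abelian hP hAc hAmax
  have hzA : z ∈ A := by
    rw [← hself, Subgroup.mem_centralizer_iff]
    exact fun x _ => (hzc x).eq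
  haveI hZn : (Subgroup.zpowers z).Normal :=
    H6.normal_of_le_center (Subgroup.zpowers_le.mpr hzC)
  -- the elements of `A` killed by `p`
  let B : Subgroup P :=
    { carrier := {x | x ∈ A ∧ x ^ p = 1}
      one_mem' := ⟨one_mem _, one_pow _⟩
      mul_mem' := fun {x y} hx hy => ⟨mul_mem hx.1 hy.1, by
        rw [(show Commute x y from setLike_mul_comm hx.1 hy.1).mul_pow, hx.2, hy.2, one_mul]⟩
      inv_mem' := fun {x} hx => ⟨inv_mem hx.1, by rw [inv_pow, hx.2, inv_one]⟩ }
  haveI : B.Normal := ⟨fun x hx y => ⟨hAn.conj_mem x hx.1 y, by rw [conj_pow, hx.2]; group⟩⟩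
  have hzB : Subgroup.zpowers z ≤ B := Subgroup.zpowers_le.mpr ⟨hzA, hzp⟩
  rcases eq_or_lt_of_le hzB with hBz | hBlt
  · -- `A` has one subgroup of order `p`: the element `g` already works
    have hsmall : ∀ c ∈ A, c ^ p = 1 → c ∈ Subgroup.zpowers z := fun c hc hcp => by
      rw [hBz]; exact ⟨hc, hcp⟩
    have hgA : g ∉ A := fun h => by
      obtain ⟨i, hi⟩ := Subgroup.mem_zpowers_iff.mp (hsmall g h hgp)
      exact ha₀ (hzf i (hi ▸ hg1) a₀ (hi ▸ hga))
    have hAcyc : IsCyclic A := by
      by_contra hnc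
      obtain ⟨U, hUA, hU, hUc⟩ := H82.exists_elemAb_sq hp2 (hP.to_subgroup A) hnc
      have hle : U ≤ Subgroup.zpowers z := fun x hx => hsmall x (hUA hx) (hU.2 x hx)
      have := Subgroup.card_le_of_le hle
      rw [hUc, Nat.card_zpowers, hzo] at this
      nlinarith [hp.out.one_lt]
    obtain ⟨c₀, hc₀⟩ := IsCyclic.exists_zpow_surjective (G := A)
    have hpow : ∀ (y : P), ∃ r : ℤ, ∀ c ∈ A, y * c * y⁻¹ = c ^ r := fun y => by
      obtain ⟨r, hr⟩ := hc₀ ⟨y * c₀ * y⁻¹, hAn.conj_mem _ c₀.2 y⟩
      refine ⟨r, fun c hc => ?_⟩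
      obtain ⟨n, hn⟩ := hc₀ ⟨c, hc⟩
      have hn' : (c₀ : P) ^ n = c := by rw [← Subgroup.coe_zpow]; exact congrArg Subtype.val hn
      have hr' : (c₀ : P) ^ r = y * c₀ * y⁻¹ := by
        rw [← Subgroup.coe_zpow]; exact congrArg Subtype.val hr
      rw [← hn', ← conj_zpow, ← hr', ← zpow_mul, mul_comm, zpow_mul]
    obtain ⟨r, hr⟩ := hpow g
    have hriter : ∀ n : ℕ, ∀ c ∈ A, g ^ n * c * (g ^ n)⁻¹ = c ^ (r ^ n) := by
      intro n c hc
      induction n with
      | zero => simp
      | succ n ih =>
        calc g ^ (n + 1) * c * (g ^ (n + 1))⁻¹ = g * (g ^ n * c * (g ^ n)⁻¹) * g⁻¹ := by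
              rw [pow_succ']; group
          _ = c ^ (r ^ (n + 1)) := by
              rw [ih, hr _ (zpow_mem hc _), ← zpow_mul, pow_succ]
    have hr1 : (p : ℤ) ∣ r - 1 := by
      have h1 := hriter p z hzA
      rw [hgp] at h1
      have h1' : z ^ (r ^ p - 1) = 1 := by
        rw [zpow_sub, ← h1]; group
      rw [← orderOf_dvd_iff_zpow_eq_one, hzo] at h1'
      rw [← ZMod.intCast_zmod_eq_zero_iff_dvd, Int.cast_sub, Int.cast_one, sub_eq_zero] at h1' ⊢
      rwa [Int.cast_pow, ZMod.pow_card] at h1'
    -- `[g, A]` has exponent `p`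
    have hcomm : ∀ n : ℕ, ∀ c ∈ A, orderOf c ≤ n → g * c * g⁻¹ * c⁻¹ ∈ Subgroup.zpowers z := by
      intro n
      induction n with
      | zero => intro c _ h; exact absurd h (orderOf_pos c).not_ge
      | succ n ih =>
        intro c hc hord
        by_cases hc1 : c = 1
        · simp [hc1]
        set u := g * c * g⁻¹ * c⁻¹ with hu
        have huA : u ∈ A := mul_mem (hAn.conj_mem c hc g) (inv_mem hc)
        obtain ⟨m, hm⟩ := hr1
        have hue : u = (c ^ (p : ℤ)) ^ m := by
          rw [hu, hr c hc, ← zpow_mul, ← hm, zpow_sub, zpow_one]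
        have hlt : orderOf u < orderOf c := by
          obtain ⟨k, hk⟩ := IsPGroup.iff_orderOf.mp hP c
          have hk0 : k ≠ 0 := fun h => hc1 (orderOf_eq_one_iff.mp (by rw [hk, h, pow_zero]))
          have h2 : orderOf u ∣ orderOf (c ^ p) := orderOf_dvd_of_mem_zpowers
            (by rw [hue, zpow_natCast]; exact Subgroup.zpow_mem_zpowers _ _)
          rw [orderOf_pow_of_dvd hp.out.ne_zero (hk ▸ dvd_pow_self p hk0)] at h2
          have h3 := Nat.le_of_dvd (Nat.div_pos (by rw [hk]; exact Nat.le_self_pow hk0 p) hp.out.pos) h2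
          exact lt_of_le_of_lt h3 (Nat.div_lt_self (orderOf_pos c) hp.out.one_lt)
        have hv := ih u huA (by omega)
        obtain ⟨v, hv'⟩ : ∃ v, v = g * u * g⁻¹ * u⁻¹ := ⟨_, rfl⟩
        rw [← hv'] at hv
        have hvp : v ^ p = 1 := by
          obtain ⟨w, hw⟩ := Subgroup.mem_zpowers_iff.mp hv
          rw [← hw, ← zpow_natCast, ← zpow_mul, mul_comm, zpow_mul, zpow_natCast, hzp, one_zpow]
        have hvc : ∀ x, Commute x v := fun x => by
          obtain ⟨w, hw⟩ := Subgroup.mem_zpowers_iff.mp hv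
          exact hw ▸ (hzc x).zpow_right w
        have hiter : ∀ j : ℕ, g ^ j * c * (g ^ j)⁻¹ = v ^ (j.choose 2) * u ^ j * c ∧
            g ^ j * u * (g ^ j)⁻¹ = v ^ j * u := by
          intro j
          induction j with
          | zero => simp
          | succ j ih2 =>
            obtain ⟨ihc, ihu⟩ := ih2
            have hgu : g * u * g⁻¹ = v * u := by rw [hv']; group
            have hgc : g * c * g⁻¹ = u * c := by rw [hu]; group
            have hgv : ∀ k : ℕ, g * v ^ k * g⁻¹ = v ^ k := fun k => by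
              rw [((hvc g).pow_right k).eq, mul_inv_cancel_right]
            constructor
            · calc g ^ (j + 1) * c * (g ^ (j + 1))⁻¹
                  = g * (g ^ j * c * (g ^ j)⁻¹) * g⁻¹ := by rw [pow_succ']; group
                _ = (g * v ^ (j.choose 2) * g⁻¹) * (g * u * g⁻¹) ^ j * (g * c * g⁻¹) := by
                    rw [ihc, conj_pow]; group
                _ = v ^ (j.choose 2) * (v ^ j * u ^ j) * (u * c) := by
                    rw [hgv, hgu, hgc, (hvc u).symm.mul_pow]
                _ = _ := by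
                    rw [show (j + 1).choose 2 = j.choose 2 + j by
                      rw [Nat.choose_succ_succ', Nat.choose_one_right, add_comm], pow_add, pow_succ]
                    group
            · calc g ^ (j + 1) * u * (g ^ (j + 1))⁻¹
                  = g * (g ^ j * u * (g ^ j)⁻¹) * g⁻¹ := by rw [pow_succ']; group
                _ = (g * v ^ j * g⁻¹) * (g * u * g⁻¹) := by rw [ihu]; group
                _ = _ := by rw [hgv, hgu, pow_succ]; group
        have h4 := (hiter p).1
        rw [hgp] at h4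
        obtain ⟨k, hk⟩ : p ∣ p.choose 2 :=
          hp.out.dvd_choose_self (by norm_num) (lt_of_le_of_ne hp.out.two_le (Ne.symm hp2))
        rw [hk, pow_mul, hvp, one_pow, one_mul, one_mul, inv_one, mul_one] at h4
        exact hsmall u huA (mul_eq_right.mp h4.symm)
    have hgU : ∀ x : P, x * g * x⁻¹ * g⁻¹ ∈ Subgroup.zpowers z := by
      intro x
      set c := x * g * x⁻¹ * g⁻¹ with hcdef
      have hcA : c ∈ A := by
        rw [← hself, Subgroup.mem_centralizer_iff]
        intro w hw
        obtain ⟨s, hs⟩ := hpow x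
        obtain ⟨s', hs'⟩ := hpow x⁻¹
        obtain ⟨r', hr'⟩ := hpow g⁻¹
        -- the actions on the cyclic group `A` commute
        have e : c * w * c⁻¹ = w := by
          calc c * w * c⁻¹ = x * (g * (x⁻¹ * (g⁻¹ * w * g) * x) * g⁻¹) * x⁻¹ := by rw [hcdef]; group
            _ = x * (g * (g⁻¹ * (x⁻¹ * w * x) * g) * g⁻¹) * x⁻¹ := by
                have e1 : ∀ d ∈ A, x⁻¹ * d * x = d ^ s' := fun d hd => by
                  simpa using hs' d hd
                have e2 : ∀ d ∈ A, g⁻¹ * d * g = d ^ r' := fun d hd => by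
                  simpa using hr' d hd
                rw [e2 w hw, e1 _ (zpow_mem hw _), e1 w hw, e2 _ (zpow_mem hw _), ← zpow_mul,
                  ← zpow_mul, mul_comm]
            _ = w := by group
        exact (mul_inv_eq_iff_eq_mul.mp e).symm
      have hxg : x * g * x⁻¹ = c * g := by rw [hcdef]; group
      have hw := hcomm _ c hcA le_rfl
      set w := g * c * g⁻¹ * c⁻¹ with hwdef
      have hwz : ∀ y, Commute y w := fun y => by
        obtain ⟨k, hk⟩ := Subgroup.mem_zpowers_iff.mp hw
        exact hk ▸ (hzc y).zpow_right k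
      have hwcg : ⁅g, c⁆ = w := by rw [hwdef, commutatorElement_def]
      have h5 : (c * g) ^ p = c ^ p * g ^ p :=
        H6.mul_pow_prime_of_commute_commutator hp.out hp2 (hwcg ▸ (hwz c).symm) (hwcg ▸ (hwz g).symm)
          (by
            rw [hwcg]
            obtain ⟨k, hk⟩ := Subgroup.mem_zpowers_iff.mp hw
            rw [← hk, ← zpow_natCast, ← zpow_mul, mul_comm, zpow_mul, zpow_natCast, hzp, one_zpow])
      rw [← hxg, conj_pow, hgp, mul_one, mul_inv_cancel, mul_one] at h5
      exact hsmall c hcA h5.symm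
    exact no_noncentral_fixed hp2 hinj hconst hzp hzc hzf hgp (by
      by_contra hcon
      push Not at hcon
      refine hgA ?_
      rw [← hself, Subgroup.mem_centralizer_iff]
      exact fun w _ => hcon w) hgU ha₀ hga
  · -- a normal elementary abelian subgroup of order `p²`
    obtain ⟨U, hUn, hzU, hUB, hUc⟩ := H6.exists_normal_between hP hBlt
    rw [Nat.card_zpowers, hzo, ← pow_two] at hUc
    have hcyc : ¬ IsCyclic U := fun h => by
      obtain ⟨u, hu⟩ := IsCyclic.exists_ofOrder_eq_natCard (α := U)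
      have := orderOf_dvd_of_pow_eq_one (Subtype.ext (hUB u.2).2 : u ^ p = 1)
      rw [hu, hUc, pow_two] at this
      have := Nat.le_of_dvd hp.out.pos this
      nlinarith [hp.out.one_lt]
    obtain ⟨u, hu1, a, hua, ha⟩ : ∃ u : U, u ≠ 1 ∧ ∃ a : E, (u : P) • a = a ∧ a ≠ 0 := by
      by_contra hcon
      push Not at hcon
      apply hcyc
      letI := mulAct (P := U) (E := E)
      exact H2.isCyclic_of_fpf_comm (M := Multiplicative E) (F := U)
        (fun f hf m hm => by
          apply Multiplicative.toAdd.injective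
          exact hcon f hf _ (congrArg Multiplicative.toAdd hm))
        (fun x y => Subtype.ext (setLike_mul_comm (hUB x.2).1 (hUB y.2).1))
    have hu1' : (u : P) ≠ 1 := fun h => hu1 (Subtype.ext h)
    refine no_noncentral_fixed hp2 hinj hconst hzp hzc hzf (hUB u.2).2 ?_ ?_ ha hua
    · by_contra hcon
      push Not at hcon
      exact ha (hcentral _ hu1' (hUB u.2).2 hcon a hua)
    · intro x
      exact H83.commutator_mem_zpowers_of_card_sq (R := ⊤) (hP.to_subgroup ⊤) le_top
        (by rw [Subgroup.normalizer_eq_top]) hUc (hzU (Subgroup.mem_zpowers z)) hz1 hzp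
        (fun y _ => (hzc y).eq) x (Subgroup.mem_top x) u u.2

end H66
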