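import Cfsg.Agent.H66.HigmanSq2

/-!
Higman's theorem on the order of a Suzuki 2-group.
-/

set_option autoImplicit false

namespace H66.Hig

universe u

theorem exists_free {P : Type u} [Group P] (hP : Cfsg.IsSuzukiTwoGroup P) :
    ∃ (K : Type u) (_ : CommGroup K) (_ : MulDistribMulAction K P) (_ : Finite K), Free P K := by
  classical
  haveI : Finite P := hP.1
  obtain ⟨hchar, -⟩ := suzuki_center hP
  obtain ⟨-, hp, hna, ⟨s, s', hne, hs1, hss, hs1', hss'⟩, L, hcyc, hreg⟩ := hP
  haveI := hcyc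
  haveI : Finite (MulAut P) := Finite.of_injective (fun e : MulAut P => (e : P → P))
    DFunLike.coe_injective
  letI : CommGroup L := IsCyclic.commGroup
  refine ⟨L, inferInstance, inferInstance, inferInstance, ⟨⟨hp, ?_, ?_⟩, ?_, hna, ?_⟩⟩
  · intro x y hx1 hx hy1 hy
    obtain ⟨k, hk, -⟩ := hreg x y hx1 hx hy1 hy
    exact ⟨k, hk⟩
  · have hodd : Odd (Nat.card L) := by
      haveI : Fact (Nat.Prime 2) := ⟨Nat.prime_two⟩
      have hcard : Nat.card L + 1 = Nat.card (Subgroup.center P) := by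
        rw [← Finite.card_option]
        have hsZ : s ∈ Subgroup.center P := ((hchar s).mp ⟨hs1, hss⟩).1
        have himg : ∀ k : L, k • s ∈ Subgroup.center P := fun k => center_smul hsZ
        refine Nat.card_eq_of_bijective (fun o : Option L =>
          o.elim (1 : Subgroup.center P) (fun k => ⟨k • s, himg k⟩)) ⟨?_, ?_⟩
        · rintro (_ | k) (_ | l) h
          · rfl
          · refine absurd (congrArg Subtype.val h).symm ?_
            show l • s ≠ 1
            exact fun h' => hs1 (by rw [← inv_smul_smul l s, h', smul_one])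
          · refine absurd (congrArg Subtype.val h) ?_
            show k • s ≠ 1
            exact fun h' => hs1 (by rw [← inv_smul_smul k s, h', smul_one])
          · obtain ⟨m, -, hu⟩ := hreg s (k • s) hs1 hss
              (fun h' => hs1 (by rw [← inv_smul_smul k s, h', smul_one]))
              (by rw [← smul_mul', hss, smul_one])
            exact congrArg some ((hu k rfl).trans (hu l (congrArg Subtype.val h).symm).symm)
        · rintro ⟨x, hx⟩
          by_cases hx1 : x = 1
          · exact ⟨none, Subtype.ext hx1.symm⟩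
          · obtain ⟨h1, h2⟩ := (hchar x).mpr ⟨hx, hx1⟩
            obtain ⟨k, hk, -⟩ := hreg s x hs1 hss h1 h2
            exact ⟨some k, Subtype.ext hk⟩
      have h2 : 2 ∣ Nat.card (Subgroup.center P) := (hp.to_subgroup _).card_eq_or_dvd.resolve_left
        (fun h => by have := Nat.card_pos (α := L); omega)
      rw [Nat.odd_iff]; omega
    intro k
    obtain ⟨m, hm⟩ := hodd.of_dvd_nat (orderOf_dvd_natCard k)
    refine ⟨k ^ (m + 1), ?_⟩
    rw [← pow_add, show m + 1 + (m + 1) = orderOf k + 1 by omega, pow_succ, pow_orderOf_eq_one,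
      one_mul]
  · intro k x hx1 hx h
    obtain ⟨m, -, hu⟩ := hreg x x hx1 hx hx1 hx
    exact (hu k h).trans (hu 1 rfl).symm
  · obtain ⟨k, hk, -⟩ := hreg s s' hs1 hss hs1' hss'
    exact ⟨k, fun h => hne (by rw [← hk, h]; rfl)⟩

variable {P : Type*} [Group P] [Finite P] {K : Type*} [CommGroup K] [MulDistribMulAction K P]
  [Finite K]

theorem card_K (hF : Free P K) : Nat.card K + 1 = Nat.card (Subgroup.center P) := by
  haveI : Fact (Nat.Prime 2) := ⟨Nat.prime_two⟩
  obtain ⟨x, y, hxy⟩ := hF.nonabelian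
  haveI : Nontrivial P := ⟨⟨x * y, y * x, hxy⟩⟩
  haveI := hF.isPGroup.center_nontrivial
  obtain ⟨⟨z, hz⟩, hz1⟩ := exists_ne (1 : Subgroup.center P)
  have hz1' : z ≠ 1 := fun h => hz1 (Subtype.ext h)
  rw [← Finite.card_option]
  refine Nat.card_eq_of_bijective (fun o : Option K =>
    o.elim (1 : Subgroup.center P) (fun k => ⟨k • z, center_smul hz⟩)) ⟨?_, ?_⟩
  · rintro (_ | k) (_ | l) h
    · rfl
    · have h' : (1 : P) = l • z := congrArg Subtype.val h
      exact absurd (by rw [← inv_smul_smul l z, ← h', smul_one]) hz1'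
    · have h' : k • z = 1 := congrArg Subtype.val h
      exact absurd (by rw [← inv_smul_smul k z, h', smul_one]) hz1'
    · have h' : k • z = l • z := congrArg Subtype.val h
      refine congrArg some (inv_mul_eq_one.mp (hF.free (l⁻¹ * k) z hz1'
        ((mem_center_iff_sq hF).mp hz) (by rw [mul_smul, h', inv_smul_smul]))).symm
  · rintro ⟨w, hw⟩
    by_cases hw1 : w = 1
    · exact ⟨none, Subtype.ext hw1.symm⟩
    · obtain ⟨k, hk⟩ := hF.trans z w hz1' ((mem_center_iff_sq hF).mp hz) hw1
        ((mem_center_iff_sq hF).mp hw)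
      exact ⟨some k, Subtype.ext hk⟩

theorem card_dvd_quotient (hF : Free P K) :
    Nat.card K ∣ Nat.card (P ⧸ Subgroup.center P) - 1 := by
  classical
  have hle : ∀ k : K, Subgroup.center P ≤
      (Subgroup.center P).comap (MulDistribMulAction.toMonoidHom P k) :=
    fun k z hz => center_smul hz
  letI : MulAction K {x : P ⧸ Subgroup.center P // x ≠ 1} :=
    { smul := fun k x => ⟨QuotientGroup.map _ _ (MulDistribMulAction.toMonoidHom P k)
          (hle k) x.1, by
        obtain ⟨p, hp⟩ := QuotientGroup.mk_surjective x.1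
        intro h
        rw [← hp, QuotientGroup.map_mk, QuotientGroup.eq_one_iff] at h
        refine x.2 (by rw [← hp, QuotientGroup.eq_one_iff]; simpa using center_smul (k := k⁻¹) h)⟩
      one_smul := fun x => Subtype.ext (by
        obtain ⟨p, hp⟩ := QuotientGroup.mk_surjective x.1
        show QuotientGroup.map _ _ _ _ x.1 = x.1
        rw [← hp, QuotientGroup.map_mk]
        exact congrArg _ (one_smul K p))
      mul_smul := fun k l x => Subtype.ext (by
        obtain ⟨p, hp⟩ := QuotientGroup.mk_surjective x.1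
        show QuotientGroup.map _ _ _ _ x.1 = QuotientGroup.map _ _ _ _ (QuotientGroup.map _ _ _ _ x.1)
        rw [← hp, QuotientGroup.map_mk, QuotientGroup.map_mk, QuotientGroup.map_mk]
        exact congrArg _ (mul_smul k l p)) }
  have h := Cfsg.Agent.H29.card_dvd_of_free_action (G := K)
    (α := {x : P ⧸ Subgroup.center P // x ≠ 1}) (fun k x h => by
    obtain ⟨p, hp⟩ := QuotientGroup.mk_surjective x.1
    have h' : QuotientGroup.map _ _ (MulDistribMulAction.toMonoidHom P k)
          (hle k) x.1 = x.1 := congrArg Subtype.val h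
    rw [← hp, QuotientGroup.map_mk] at h'
    refine coset_moved hF (H := Subgroup.center P) (fun k z hz => center_smul hz)
      (QuotientGroup.eq.mp h'.symm) (fun hpz => x.2 ?_)
    rw [← hp, QuotientGroup.eq_one_iff]; exact hpz)
  letI := Fintype.ofFinite (P ⧸ Subgroup.center P)
  rwa [Nat.card_eq_fintype_card (α := {x : P ⧸ Subgroup.center P // x ≠ 1}),
    Fintype.card_subtype_compl, Fintype.card_subtype_eq, ← Nat.card_eq_fintype_card] at h

theorem card_quotient_le (hF : Free P K) :
    Nat.card (P ⧸ Subgroup.center P) ≤ Nat.card (Subgroup.center P) ^ 2 := by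
  classical
  set Z := Subgroup.center P with hZ
  letI : CommGroup Z :=
    { (inferInstance : Group Z) with
      mul_comm := fun a b => Subtype.ext (Subgroup.mem_center_iff.mp b.2 a) }
  letI : CommGroup (P ⧸ Z) :=
    { (inferInstance : Group (P ⧸ Z)) with
      mul_comm := fun a b => by
        obtain ⟨x, rfl⟩ := QuotientGroup.mk_surjective a
        obtain ⟨y, rfl⟩ := QuotientGroup.mk_surjective b
        have h := (QuotientGroup.eq_one_iff _).mpr (comm_central hF x y)
        simp only [QuotientGroup.mk_mul, QuotientGroup.mk_inv] at h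
        exact mul_inv_eq_iff_eq_mul.mp (mul_inv_eq_one.mp h) }
  have hsqX : ∀ x : P ⧸ Z, x * x = 1 := fun a => by
    obtain ⟨x, rfl⟩ := QuotientGroup.mk_surjective a
    rw [← QuotientGroup.mk_mul]
    exact (QuotientGroup.eq_one_iff _).mpr (sq_central hF x)
  let sq : P ⧸ Z → Z := fun a => Quotient.liftOn' a (fun x => (⟨x * x, sq_central hF x⟩ : Z))
    (fun x y hxy => by
      rw [QuotientGroup.leftRel_apply] at hxy
      apply Subtype.ext
      show x * x = y * y
      obtain ⟨z, hz, rfl⟩ : ∃ z ∈ Z, y = x * z := ⟨x⁻¹ * y, hxy, by group⟩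
      calc x * x = x * x * (z * z) := by rw [(mem_center_iff_sq hF).mp hz, mul_one]
        _ = x * (x * z) * z := by group
        _ = x * (z * x) * z := by rw [Subgroup.mem_center_iff.mp hz x]
        _ = _ := by group)
  have hsq : ∀ x : P, ((sq (x : P ⧸ Z)) : P) = x * x := fun x => rfl
  let B : P ⧸ Z → P ⧸ Z → Z := fun a b => sq (a * b) * (sq a * sq b)⁻¹
  have hcomm : ∀ x y : P, x * y * (x * y) = (x * x) * (y * y) * (y⁻¹ * x * y * x⁻¹) := by
    intro x y
    have hc := comm_central hF y x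
    have e : y * x = (y * x * y⁻¹ * x⁻¹) * (x * y) := by group
    have hy := sq_central hF y
    calc x * y * (x * y) = x * (y * x) * y := by group
      _ = x * ((y * x * y⁻¹ * x⁻¹) * (x * y)) * y := by rw [← e]
      _ = (y * x * y⁻¹ * x⁻¹) * (x * x) * (y * y) := by
          rw [← mul_assoc x, Subgroup.mem_center_iff.mp hc x]; group
      _ = (x * x) * (y * y) * (y * x * y⁻¹ * x⁻¹) := by
          rw [mul_assoc _ (x * x)]; exact (Subgroup.mem_center_iff.mp hc _).symm
      _ = _ := by
          congr 1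
          calc y * x * y⁻¹ * x⁻¹ = (y * y) * (y⁻¹ * x * y * x⁻¹ * ((x * (y * y)⁻¹ * x⁻¹))) := by group
            _ = (y * y) * ((y⁻¹ * x * y * x⁻¹) * (y * y)⁻¹) := by
                rw [Subgroup.mem_center_iff.mp (inv_mem hy) x, mul_inv_cancel_right]
            _ = _ := by rw [← mul_assoc, ← Subgroup.mem_center_iff.mp hy _, mul_inv_cancel_right]
  have hB : ∀ x y : P, ((B (x : P ⧸ Z) (y : P ⧸ Z)) : P) = y⁻¹ * x * y * x⁻¹ := fun x y => by
    show ((sq ((x : P ⧸ Z) * (y : P ⧸ Z)) : Z) : P) * (((sq (x : P ⧸ Z)) : P) * _)⁻¹ = _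
    rw [← QuotientGroup.mk_mul, hsq, hsq, hsq, hcomm]
    rw [← Subgroup.mem_center_iff.mp (mul_mem (sq_central hF x) (sq_central hF y))
      (y⁻¹ * x * y * x⁻¹), mul_inv_cancel_right]
  refine anisotropic_card_le (X := Additive (P ⧸ Z)) (Z := Additive Z)
    (fun x => hsqX x.toMul) (fun z => Subtype.ext ((mem_center_iff_sq hF).mp z.toMul.2))
    (fun a => Additive.ofMul (sq a.toMul)) (fun a b => Additive.ofMul (B a.toMul b.toMul))
    (fun a b => ?_) (fun a a' b => ?_) (fun a h => ?_)
  · refine congrArg Additive.ofMul ?_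
    show sq (a.toMul * b.toMul) = sq a.toMul * sq b.toMul * B a.toMul b.toMul
    simp only [B]
    rw [mul_comm (sq (a.toMul * b.toMul)), mul_inv_cancel_left]
  · refine congrArg Additive.ofMul ?_
    show B (a.toMul * a'.toMul) b.toMul = B a.toMul b.toMul * B a'.toMul b.toMul
    obtain ⟨x, hx⟩ := QuotientGroup.mk_surjective a.toMul
    obtain ⟨x', hx'⟩ := QuotientGroup.mk_surjective a'.toMul
    obtain ⟨y, hy⟩ := QuotientGroup.mk_surjective b.toMul
    rw [← hx, ← hx', ← hy, ← QuotientGroup.mk_mul]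
    apply Subtype.ext
    show ((B ((x * x' : P) : P ⧸ Z) (y : P ⧸ Z) : Z) : P)
      = (B (x : P ⧸ Z) (y : P ⧸ Z) : P) * (B (x' : P ⧸ Z) (y : P ⧸ Z) : P)
    rw [hB, hB, hB]
    have hc : y⁻¹ * x' * y * x'⁻¹ ∈ Z := by
      have := comm_central hF y⁻¹ x'
      rwa [inv_inv] at this
    calc y⁻¹ * (x * x') * y * (x * x')⁻¹
        = (y⁻¹ * x * y) * (y⁻¹ * x' * y * x'⁻¹) * x⁻¹ := by group
      _ = _ := by rw [mul_assoc _ _ x⁻¹, ← Subgroup.mem_center_iff.mp hc x⁻¹, ← mul_assoc]
  · obtain ⟨x, hx⟩ := QuotientGroup.mk_surjective a.toMul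
    have h' : sq a.toMul = 1 := h
    rw [← hx] at h'
    show a.toMul = 1
    rw [← hx]
    exact (QuotientGroup.eq_one_iff x).mpr ((mem_center_iff_sq hF).mpr (congrArg Subtype.val h'))

theorem card_eq (hF : Free P K) : Nat.card P = Nat.card (Subgroup.center P) ^ 2 ∨
    Nat.card P = Nat.card (Subgroup.center P) ^ 3 := by
  haveI : Fact (Nat.Prime 2) := ⟨Nat.prime_two⟩
  set Z := Subgroup.center P with hZ
  obtain ⟨n, hn⟩ := (hF.isPGroup.to_subgroup Z).exists_card_eq
  obtain ⟨d, hd⟩ := (hF.isPGroup.to_quotient Z).exists_card_eq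
  have hle := card_quotient_le hF
  have hdvd := card_dvd_quotient hF
  have hK := card_K hF
  rw [hd, hn, ← pow_mul] at hle
  have hdn : d ≤ n * 2 := (Nat.pow_le_pow_iff_right one_lt_two).mp hle
  have hd0 : d ≠ 0 := by
    rintro rfl
    obtain ⟨x, y, hxy⟩ := hF.nonabelian
    rw [pow_zero, Nat.card_eq_one_iff_unique] at hd
    have hx : (x : P ⧸ Z) = 1 := @Subsingleton.elim _ hd.1 _ _
    exact hxy (Subgroup.mem_center_iff.mp ((QuotientGroup.eq_one_iff x).mp hx) y).symm
  have h1 : 2 ^ n - 1 ∣ 2 ^ d - 1 := by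
    rw [hd] at hdvd
    rwa [show 2 ^ n - 1 = Nat.card K by rw [← hn, hZ]; omega]
  have h2 : Nat.gcd n d = n := by
    have h3 := Nat.pow_sub_one_gcd_pow_sub_one 2 n d
    rw [Nat.gcd_eq_left h1] at h3
    have h4 := Nat.two_pow_pos n
    have h5 := Nat.two_pow_pos (n.gcd d)
    exact Nat.pow_right_injective le_rfl (show 2 ^ n.gcd d = 2 ^ n by omega)
  obtain ⟨j, rfl⟩ := Nat.gcd_eq_left_iff_dvd.mp h2
  have hP := Subgroup.card_eq_card_quotient_mul_card_subgroup Z
  rw [hd, hn, ← pow_add] at hP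
  have hn0 : 0 < n := Nat.pos_of_ne_zero fun h => hd0 (by simp [h])
  have hj : j ≤ 2 := Nat.le_of_mul_le_mul_left hdn hn0
  rcases (show j = 0 ∨ j = 1 ∨ j = 2 by omega) with rfl | rfl | rfl
  · simp at hd0
  · left; rw [hP, hn, ← pow_mul]; ring_nf
  · right; rw [hP, hn, ← pow_mul]; ring_nf

theorem exponent_eq_four (hF : Free P K) : Monoid.exponent P = 4 := by
  haveI : Fact (Nat.Prime 2) := ⟨Nat.prime_two⟩
  have h4 : Monoid.exponent P ∣ 4 := Monoid.exponent_dvd_of_forall_pow_eq_one fun x => by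
    rw [show (4 : ℕ) = 2 * 2 from rfl, pow_mul, pow_two, pow_two]
    exact (mem_center_iff_sq hF).mp (sq_central hF x)
  obtain ⟨x, y, hxy⟩ := hF.nonabelian
  have h2 : ¬ Monoid.exponent P ∣ 2 := fun h => hxy (by
    have hx : x * x = 1 := by rw [← pow_two]; exact Monoid.exponent_dvd_iff_forall_pow_eq_one.mp h x
    exact (Subgroup.mem_center_iff.mp ((mem_center_iff_sq hF).mpr hx) y).symm)
  obtain ⟨i, hi, hie⟩ := (Nat.dvd_prime_pow Nat.prime_two).mp (show Monoid.exponent P ∣ 2 ^ 2 from h4)
  rcases (show i = 0 ∨ i = 1 ∨ i = 2 by omega) with rfl | rfl | rfl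
  · exact absurd (by simp [hie]) h2
  · exact absurd (by simp [hie]) h2
  · rw [hie]; norm_num

end H66.Hig
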