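import Cfsg.Agent.H66.HigmanSq

/-!
Higman: squares are central in a Suzuki 2-group; its order is the square or the cube of the order
of the centre.
-/

set_option autoImplicit false

namespace H66.Hig

variable {P : Type*} [Group P] [Finite P] {K : Type*} [CommGroup K] [MulDistribMulAction K P]
  [Finite K] (hF : Free P K)

include hF

theorem second_eq_top : second P = ⊤ := by
  classical
  by_contra hW
  have hCW := centralizer_le_second hF hW
  set Z := Subgroup.center P with hZ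
  letI : CommGroup Z :=
    { (inferInstance : Group Z) with
      mul_comm := fun a b => Subtype.ext (Subgroup.mem_center_iff.mp b.2 a) }
  letI : MulDistribMulAction K Z :=
    { smul := fun k z => ⟨k • z.1, center_smul z.2⟩
      one_smul := fun z => Subtype.ext (one_smul K z.1)
      mul_smul := fun k l z => Subtype.ext (mul_smul k l z.1)
      smul_mul := fun k a b => Subtype.ext (smul_mul' k a.1 b.1)
      smul_one := fun k => Subtype.ext (smul_one k) }
  obtain ⟨a₀, ha₀, -, ha₀Z⟩ := exists_central_elem hF hW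
  haveI : Nontrivial Z := ⟨⟨⟨a₀ * a₀, second_sq hF ha₀⟩, 1, fun h =>
    ha₀Z ((mem_center_iff_sq hF).mpr (congrArg Subtype.val h))⟩⟩
  obtain ⟨F, _, _, e, χ, he_bij, he_add, he_smul, -, hχsurj⟩ := exists_field_of_regular
    (E := Z) (K := K) (fun a b ha hb => by
      obtain ⟨k, hk⟩ := hF.trans a.1 b.1 (fun h => ha (Subtype.ext h))
        ((mem_center_iff_sq hF).mp a.2) (fun h => hb (Subtype.ext h))
        ((mem_center_iff_sq hF).mp b.2)
      exact ⟨k, Subtype.ext hk⟩)
    (fun k a ha h => hF.free k a.1 (fun h' => ha (Subtype.ext h'))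
      ((mem_center_iff_sq hF).mp a.2) (congrArg Subtype.val h))
  have he1 : e 1 = 0 := by
    have h := he_add 1 1
    rwa [one_mul, left_eq_add] at h
  haveI : CharP F 2 := by
    obtain ⟨z, hz⟩ := he_bij.2 1
    refine (CharP.charP_iff_prime_eq_zero Nat.prime_two).mpr ?_
    have h := he_add z z
    rw [show z * z = 1 from Subtype.ext ((mem_center_iff_sq hF).mp z.2), he1, hz] at h
    rw [Nat.cast_ofNat, ← one_add_one_eq_two]
    exact h.symm
  have add_self : ∀ x : F, x + x = 0 := CharTwo.add_self_eq_zero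
  -- the two coordinate maps
  let E : P → F := fun z => if h : z ∈ Z then e ⟨z, h⟩ else 0
  have hE : ∀ (z : P) (h : z ∈ Z), E z = e ⟨z, h⟩ := fun z h => dif_pos h
  have hEmul : ∀ a b, a ∈ Z → b ∈ Z → E (a * b) = E a + E b := fun a b ha hb => by
    rw [hE _ (mul_mem ha hb), hE _ ha, hE _ hb, ← he_add]; rfl
  have hE0 : ∀ z, z ∈ Z → (E z = 0 ↔ z = 1) := fun z hz => by
    rw [hE _ hz, ← he1, he_bij.1.eq_iff]
    exact ⟨fun h => congrArg Subtype.val h, fun h => Subtype.ext h⟩
  have hEsmul : ∀ (k : K) z, z ∈ Z → E (k • z) = χ k * E z := fun k z hz => by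
    rw [hE _ (center_smul hz), hE _ hz, ← he_smul]; rfl
  let π : P → F := fun w => E (w * w)
  have hπmul : ∀ a b, a ∈ second P → b ∈ second P → π (a * b) = π a + π b := fun a b ha hb => by
    show E (a * b * (a * b)) = E (a * a) + E (b * b)
    rw [← pow_two, (second_comm hF hW ha hb).mul_pow, pow_two, pow_two,
      hEmul _ _ (second_sq hF ha) (second_sq hF hb)]
  have hπ0 : ∀ w, w ∈ second P → (π w = 0 ↔ w ∈ Z) := fun w hw => by
    show E (w * w) = 0 ↔ _
    rw [hE0 _ (second_sq hF hw), hZ, mem_center_iff_sq hF]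
  have hπsurj : ∀ x : F, ∃ w ∈ second P, π w = x := fun x => by
    obtain ⟨z, hz⟩ := he_bij.2 x
    obtain ⟨a, ha, hasq⟩ := exists_sqrt' hF hW z.2
    exact ⟨a, ha, by show E (a * a) = x; rw [hasq, hE _ z.2]; exact hz⟩
  have hπsmul : ∀ (k : K) w, w ∈ second P → π (k • w) = χ k * π w := fun k w hw => by
    show E ((k • w) * (k • w)) = _
    rw [← smul_mul', hEsmul _ _ (second_sq hF hw)]
  choose r hrW hr using hπsurj
  -- the action of each element on `second P / Z`
  have hdlπ : ∀ p u v, u ∈ second P → v ∈ second P → π u = π v → dl p u = dl p v := by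
    intro p u v hu hv h
    have h1 : E (u * u) = E (v * v) := h
    rw [hE _ (second_sq hF hu), hE _ (second_sq hF hv), he_bij.1.eq_iff] at h1
    exact dl_congr hF hW hu hv (congrArg Subtype.val h1) p
  let D : P → F →+ F := fun p => AddMonoidHom.mk' (fun x => E (dl p (r x))) (fun x y => by
    rw [hdlπ p (r (x + y)) (r x * r y) (hrW _) (mul_mem (hrW _) (hrW _))
      (by rw [hr, hπmul _ _ (hrW _) (hrW _), hr, hr]), dl_mul_right (hrW _),
      hEmul _ _ (dl_center (hrW _) p) (dl_center (hrW _) p)])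
  have hD : ∀ p w, w ∈ second P → D p (π w) = E (dl p w) := fun p w hw => by
    show E (dl p (r (π w))) = _
    rw [hdlπ p _ _ (hrW _) hw (hr _)]
  have hDmul : ∀ p q x, D (p * q) x = D p x + D q x := fun p q x => by
    show E (dl (p * q) (r x)) = E (dl p (r x)) + E (dl q (r x))
    rw [dl_mul_left (hrW x), hEmul _ _ (dl_center (hrW _) p) (dl_center (hrW _) q)]
  have hDsmul : ∀ (k : K) p x, D (k • p) (χ k * x) = χ k * D p x := fun k p x => by
    conv_lhs => rw [← hr x, ← hπsmul k _ (hrW x)]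
    rw [hD _ _ (second_smul (hrW x)), dl_smul, hEsmul _ _ (dl_center (hrW x) p)]
    rfl
  -- coefficients
  haveI : Finite (F ≃+* F) := Finite.of_injective (fun σ : F ≃+* F => (σ : F → F))
    DFunLike.coe_injective
  letI := Fintype.ofFinite (F ≃+* F)
  choose c hc using fun p => exists_additive_comb (D p)
  have huniq : ∀ f g : (F ≃+* F) → F, (∀ x, ∑ σ, f σ * σ x = ∑ σ, g σ * σ x) → f = g := by
    intro f g h
    have h1 := Fintype.linearIndependent_iff.mp (aut_linearIndependent (F := F)) (f - g) (by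
      funext x
      simp only [Finset.sum_apply, Pi.smul_apply, smul_eq_mul, Pi.sub_apply, Pi.zero_apply,
        RingEquiv.coe_toRingHom, sub_mul, Finset.sum_sub_distrib, h, sub_self])
    funext σ
    exact sub_eq_zero.mp (h1 σ)
  have hcmul : ∀ p q σ, c (p * q) σ = c p σ + c q σ := fun p q => congrFun (huniq _
      (fun σ => c p σ + c q σ) fun x => by
    rw [← hc, hDmul, hc, hc, ← Finset.sum_add_distrib]
    simp only [add_mul])
  have hcsmul : ∀ (k : K) p σ, c (k • p) σ * σ (χ k) = χ k * c p σ := fun k p => congrFun (huniq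
      (fun σ => c (k • p) σ * σ (χ k)) (fun σ => χ k * c p σ) fun x => by
    simp only [mul_assoc, ← map_mul]
    rw [← hc, hDsmul, hc, Finset.mul_sum])
  have hcW : ∀ w, w ∈ second P → ∀ σ, c w σ = 0 := fun w hw => congrFun (huniq _ (fun _ => 0)
      fun x => by
    rw [← hc]
    simp only [zero_mul, Finset.sum_const_zero]
    show E (dl w (r x)) = 0
    rw [(hE0 _ (dl_center (hrW x) w)), dl, (second_comm hF hW hw (hrW x)).eq,
      mul_inv_cancel_right, mul_inv_cancel])
  have hc1 : ∀ σ, c 1 σ = 0 := hcW 1 (one_mem _)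
  have hcinv : ∀ p σ, c p⁻¹ σ = c p σ := fun p σ => by
    have h := hcmul p⁻¹ p σ
    rw [inv_mul_cancel, hc1] at h
    calc c p⁻¹ σ = c p⁻¹ σ + (c p σ + c p σ) := by rw [add_self, add_zero]
      _ = _ := by rw [← add_assoc, ← h, zero_add]
  have hcfaith : ∀ p, (∀ σ, c p σ = 0) → p ∈ second P := fun p h => hCW (by
    rw [Subgroup.mem_centralizer_iff]
    intro w hw
    have h1 := hD p w hw
    rw [hc] at h1
    simp only [h, zero_mul, Finset.sum_const_zero] at h1
    have h2 := (hE0 _ (dl_center hw p)).mp h1.symm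
    rw [dl, mul_inv_eq_one, mul_inv_eq_iff_eq_mul] at h2
    exact h2.symm)
  have hχ0 : ∀ k : K, χ k ≠ 0 := fun k h => by
    have := map_mul χ k k⁻¹
    rw [mul_inv_cancel, map_one, h, zero_mul] at this
    exact one_ne_zero this
  have hσχ0 : ∀ (σ : F ≃+* F) (k : K), σ (χ k) ≠ 0 := fun σ k => by
    rw [Ne, map_eq_zero]; exact hχ0 k
  -- a minimal invariant subgroup above `second P`
  obtain ⟨Y, hY⟩ := (Set.toFinite {U : Subgroup P | second P < U ∧
    ∀ k : K, ∀ x ∈ U, k • x ∈ U}).exists_minimal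
    ⟨⊤, lt_top_iff_ne_top.mpr hW, fun _ _ _ => Subgroup.mem_top _⟩
  obtain ⟨hWY, hYinv⟩ := hY.prop
  have hker : ∀ σ, (∃ y ∈ Y, c y σ ≠ 0) → ∀ y ∈ Y, c y σ = 0 → y ∈ second P := by
    rintro σ ⟨y₁, hy₁, hy₁σ⟩ y hy hyσ
    by_contra hyW
    let U : Subgroup P :=
      { carrier := {y | y ∈ Y ∧ c y σ = 0}
        one_mem' := ⟨one_mem _, hc1 σ⟩
        mul_mem' := fun {a b} ha hb => ⟨mul_mem ha.1 hb.1, by rw [hcmul, ha.2, hb.2, add_zero]⟩
        inv_mem' := fun {a} ha => ⟨inv_mem ha.1, by rw [hcinv]; exact ha.2⟩ }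
    have hU : second P < U := by
      refine lt_of_le_not_ge (fun w hw => ⟨hWY.le hw, hcW w hw σ⟩) fun h => hyW (h ⟨hy, hyσ⟩)
    have hUinv : ∀ k : K, ∀ x ∈ U, k • x ∈ U := by
      intro k x hx
      refine ⟨hYinv k x hx.1, ?_⟩
      have h := hcsmul k x σ
      rw [hx.2, mul_zero] at h
      exact (mul_eq_zero.mp h).resolve_right (hσχ0 σ k)
    exact hy₁σ (hY.le_of_le ⟨hU, hUinv⟩ (fun x hx => hx.1) hy₁).2
  have hmoved : ∀ (k : K) y σ, y ∈ Y → y ∉ second P → (∃ y ∈ Y, c y σ ≠ 0) →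
      c (k • y) σ = c y σ → k = 1 := by
    intro k y σ hy hyW hσ h
    refine coset_moved hF (H := second P) (fun k x hx => second_smul hx) ?_ hyW
    refine hker σ hσ _ (mul_mem (inv_mem hy) (hYinv k y hy)) ?_
    rw [hcmul, hcinv, h, add_self]
  obtain ⟨y₀, hy₀, hy₀W⟩ := SetLike.exists_of_lt hWY
  obtain ⟨σ, hσ0⟩ : ∃ σ, c y₀ σ ≠ 0 := by
    by_contra h
    push Not at h
    exact hy₀W (hcfaith _ h)
  have hσY : ∃ y ∈ Y, c y σ ≠ 0 := ⟨y₀, hy₀, hσ0⟩
  have hσ1 : σ ≠ RingEquiv.refl F := by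
    rintro rfl
    obtain ⟨k, hk⟩ := hF.nontrivial
    refine hk (hmoved k y₀ _ hy₀ hy₀W hσY ?_)
    have h := hcsmul k y₀ (RingEquiv.refl F)
    rw [RingEquiv.refl_apply, mul_comm (χ k)] at h
    exact mul_right_cancel₀ (hχ0 k) h
  -- only one automorphism occurs
  have hone : ∀ τ, τ ≠ σ → ∀ y ∈ Y, c y τ = 0 := by
    intro τ hτ y hy
    by_contra hne
    have hτY : ∃ y ∈ Y, c y τ ≠ 0 := ⟨y, hy, hne⟩
    have hτ0 : c y₀ τ ≠ 0 := fun h => hy₀W (hker τ hτY y₀ hy₀ h)
    -- the twisted orbit map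
    let f : F → F := fun l => l / σ l
    have hf : ∀ k, f (χ k) * c y₀ σ = c (k • y₀) σ := fun k => by
      show χ k / σ (χ k) * c y₀ σ = _
      rw [div_mul_eq_mul_div, div_eq_iff (hσχ0 σ k), hcsmul k y₀ σ]
    have hfinj : Function.Injective f := by
      intro l l' h
      have hz : ∀ l : F, l ≠ 0 → f l ≠ 0 := fun l hl =>
        div_ne_zero hl (by rwa [Ne, map_eq_zero])
      by_cases hl : l = 0
      · by_contra hl'
        exact hz l' (fun h' => hl' (hl.trans h'.symm)) (by rw [← h, hl]; simp [f])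
      by_cases hl' : l' = 0
      · exact absurd (by rw [h, hl']; simp [f]) (hz l hl)
      obtain ⟨k, rfl⟩ := hχsurj l hl
      obtain ⟨k', rfl⟩ := hχsurj l' hl'
      have h1 := hf k
      rw [h, hf k'] at h1
      have h2 : k'⁻¹ * k = 1 := hmoved (k'⁻¹ * k) y₀ σ hy₀ hy₀W hσY (by
        have a1 := hcsmul k'⁻¹ (k • y₀) σ
        have a2 := hcsmul k'⁻¹ (k' • y₀) σ
        rw [← h1, ← a2, inv_smul_smul, ← mul_smul] at a1
        exact mul_right_cancel₀ (hσχ0 σ k'⁻¹) a1)
      rw [inv_mul_eq_one.mp h2]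
    have hfsurj := Finite.surjective_of_injective hfinj
    have hex : ∀ x : F, ∃ y ∈ Y, c y σ = x * c y₀ σ := by
      intro x
      by_cases hx : x = 0
      · exact ⟨1, one_mem _, by rw [hx, zero_mul, hc1]⟩
      obtain ⟨l, rfl⟩ := hfsurj x
      obtain ⟨k, rfl⟩ := hχsurj l (fun h => hx (by simp [f, h]))
      exact ⟨k • y₀, hYinv k y₀ hy₀, (hf k).symm⟩
    choose s hsY hs using hex
    let ρ : F → F := fun x => c (s x) τ / c y₀ τ
    have hρ : ∀ x y, y ∈ Y → c y σ = x * c y₀ σ → ρ x = c y τ / c y₀ τ := by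
      intro x y hy h
      have h1 : (s x)⁻¹ * y ∈ second P :=
        hker σ hσY _ (mul_mem (inv_mem (hsY x)) hy) (by rw [hcmul, hcinv, hs, h, add_self])
      have h2 := hcW _ h1 τ
      rw [hcmul, hcinv] at h2
      show c (s x) τ / _ = _
      rw [(CharTwo.add_eq_zero).mp h2]
    have hρadd : ∀ x x', ρ (x + x') = ρ x + ρ x' := fun x x' => by
      rw [hρ (x + x') (s x * s x') (mul_mem (hsY x) (hsY x')) (by rw [hcmul, hs, hs]; ring),
        hcmul, add_div]
    have hρ0 : ρ 0 = 0 := by rw [hρ 0 1 (one_mem _) (by rw [hc1, zero_mul]), hc1, zero_div]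
    have hρ1 : ρ 1 = 1 := by rw [hρ 1 y₀ hy₀ (one_mul _).symm, div_self hτ0]
    have hρf : ∀ k, ρ (f (χ k)) = χ k / τ (χ k) := fun k => by
      rw [hρ _ (k • y₀) (hYinv k y₀ hy₀) (hf k).symm, div_eq_div_iff hτ0 (hσχ0 τ k), hcsmul]
    have hρmul : ∀ x x', ρ (x * x') = ρ x * ρ x' := by
      intro x x'
      by_cases hx : x = 0
      · rw [hx, zero_mul, hρ0, zero_mul]
      by_cases hx' : x' = 0
      · rw [hx', mul_zero, hρ0, mul_zero]
      obtain ⟨l, rfl⟩ := hfsurj x
      obtain ⟨l', rfl⟩ := hfsurj x'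
      obtain ⟨k, rfl⟩ := hχsurj l (fun h => hx (by simp [f, h]))
      obtain ⟨k', rfl⟩ := hχsurj l' (fun h => hx' (by simp [f, h]))
      have e : f (χ k) * f (χ k') = f (χ (k * k')) := by
        simp only [f, map_mul, div_mul_div_comm]
      rw [e, hρf, hρf, hρf, map_mul, map_mul, div_mul_div_comm]
    have hρne : ∀ x, x ≠ 0 → ρ x ≠ 0 := by
      intro x hx h
      obtain ⟨l, rfl⟩ := hfsurj x
      obtain ⟨k, rfl⟩ := hχsurj l (fun h => hx (by simp [f, h]))
      rw [hρf] at h
      exact div_ne_zero (hχ0 k) (hσχ0 τ k) h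
    have hprod : ∀ l, ρ l * τ l = l * ρ (σ l) := by
      intro l
      by_cases hl : l = 0
      · simp [hl, hρ0]
      obtain ⟨k, rfl⟩ := hχsurj l hl
      have e : χ k = f (χ k) * σ (χ k) := by
        simp only [f]; rw [div_mul_cancel₀ _ (hσχ0 σ k)]
      conv_lhs => rw [e, hρmul, hρf, ← e]
      field_simp [hσχ0 τ k]
    have hroots : ∀ l, (ρ l - l) * (ρ l - ρ (σ l)) = 0 := by
      intro l
      have h1 := hprod (l + 1)
      rw [map_add, map_one, map_add, map_one, hρadd, hρadd, hρ1] at h1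
      have h2 := hprod l
      linear_combination ρ l * (h1 - h2) - h2
    rcases Classical.em (∀ l, ρ l = l) with hid | hid
    · refine hτ (RingEquiv.ext fun l => ?_)
      by_cases hl : l = 0
      · simp [hl]
      have h := hprod l
      rw [hid, hid] at h
      exact mul_left_cancel₀ hl h
    · push Not at hid
      obtain ⟨a, ha⟩ := hid
      refine hσ1 (RingEquiv.ext fun l => ?_)
      have hall : ∀ b, ρ b = ρ (σ b) := by
        intro b
        by_contra hb
        have ha' : ρ a = ρ (σ a) :=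
          sub_eq_zero.mp ((mul_eq_zero.mp (hroots a)).resolve_left (sub_ne_zero.mpr ha))
        have hb' : ρ b = b :=
          sub_eq_zero.mp ((mul_eq_zero.mp (hroots b)).resolve_right (sub_ne_zero.mpr hb))
        rcases mul_eq_zero.mp (hroots (a + b)) with h | h
        · rw [sub_eq_zero, hρadd, hb'] at h
          exact ha (add_right_cancel h)
        · rw [sub_eq_zero, map_add, hρadd, hρadd, ha'] at h
          exact hb (add_left_cancel h)
      rw [RingEquiv.refl_apply]
      by_contra hne'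
      refine hρne (σ l + l) (fun h => hne' (CharTwo.add_eq_zero.mp h)) ?_
      rw [hρadd, ← hall, add_self]
  have hDY : ∀ y ∈ Y, ∀ x, D y x = c y σ * σ x := fun y hy x => by
    rw [hc]
    exact Finset.sum_eq_single σ (fun τ _ hτ => by rw [hone τ hτ y hy, zero_mul])
      (fun h => absurd (Finset.mem_univ σ) h)
  have hsq : ∀ p, p * p ∈ second P := fun p => hCW (sq_centralizes hF p)
  have hcm : ∀ p q, p * q * p⁻¹ * q⁻¹ ∈ second P := fun p q => hCW (comm_centralizes hF p q)
  have hYsq : ∀ y ∈ Y, y * y ∈ Z := by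
    intro y hy
    by_cases hyW : y ∈ second P
    · exact second_sq hF hyW
    have h := hD y (y * y) (hsq y)
    rw [hDY y hy, show dl y (y * y) = 1 by rw [dl]; group, (hE0 1 (one_mem _)).mpr rfl] at h
    rcases mul_eq_zero.mp h with h | h
    · exact absurd (hker σ hσY y hy h) hyW
    · exact (hπ0 _ (hsq y)).mp (by rwa [map_eq_zero] at h)
  -- the commutator map into `second P / Z`
  let G : P → P → F := fun y p => π (y * p * y⁻¹ * p⁻¹)
  have hG : ∀ y ∈ Y, ∀ p, c y σ * σ (G y p) = G y p := by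
    intro y hy p
    set v := y * p * y⁻¹ * p⁻¹ with hv
    have hvW : v ∈ second P := hcm y p
    rw [← hDY y hy, hD y v hvW]
    show E (dl y v) = E (v * v)
    congr 1
    have e : (y * y) * p * (y * y)⁻¹ = p := by
      rw [← Subgroup.mem_center_iff.mp (hYsq y hy) p, mul_inv_cancel_right]
    have e2 : (y * y) * p * (y * y)⁻¹ = (dl y v * (v * v)) * p := by
      calc (y * y) * p * (y * y)⁻¹ = (y * v * y⁻¹) * (y * p * y⁻¹) := by rw [hv]; group
        _ = (dl y v * v) * (v * p) := by rw [dl_spec, show y * p * y⁻¹ = v * p by rw [hv]; group]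
        _ = _ := by group
    rw [e] at e2
    rw [eq_inv_of_mul_eq_one_left (right_eq_mul.mp e2),
      inv_eq_of_mul_eq_one_right ((mem_center_iff_sq hF).mp (second_sq hF hvW))]
  have hπz : ∀ z, z ∈ Z → π z = 0 := fun z hz => by
    show E (z * z) = 0
    rw [(mem_center_iff_sq hF).mp hz]
    exact (hE0 1 (one_mem _)).mpr rfl
  have hZW : ∀ z, z ∈ Z → z ∈ second P := fun z hz => mem_second.mpr fun q => by
    rw [(Subgroup.mem_center_iff.mp hz q).symm, mul_inv_cancel_right, mul_inv_cancel]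
    exact one_mem _
  have hconj : ∀ g v, v ∈ second P → π (g * v * g⁻¹) = π v := fun g v hv => by
    rw [dl_spec, hπmul _ _ (hZW _ (dl_center hv g)) hv, hπz _ (dl_center hv g), zero_add]
  have hGl : ∀ y y' p, G (y * y') p = G y' p + G y p := fun y y' p => by
    show π _ = π _ + π _
    rw [show y * y' * p * (y * y')⁻¹ * p⁻¹ =
        (y * (y' * p * y'⁻¹ * p⁻¹) * y⁻¹) * (y * p * y⁻¹ * p⁻¹) by group,
      hπmul _ _ ((inferInstance : (second P).Normal).conj_mem _ (hcm y' p) y) (hcm y p),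
      hconj _ _ (hcm y' p)]
  have hGr : ∀ y p p', G y (p * p') = G y p + G y p' := fun y p p' => by
    show π _ = π _ + π _
    rw [show y * (p * p') * y⁻¹ * (p * p')⁻¹ =
        (y * p * y⁻¹ * p⁻¹) * (p * (y * p' * y⁻¹ * p'⁻¹) * p⁻¹) by group,
      hπmul _ _ (hcm y p) ((inferInstance : (second P).Normal).conj_mem _ (hcm y p') p),
      hconj _ _ (hcm y p')]
  have hGW : ∀ w, w ∈ second P → ∀ p, G w p = 0 := fun w hw p => hπz _ (mem_second.mp hw p)
  have hGker : ∀ p, (∃ y ∈ Y, y ∉ second P ∧ G y p = 0) → ∀ y ∈ Y, G y p = 0 := by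
    rintro p ⟨y₁, hy₁, hy₁W, h1⟩ y hy
    by_contra hne
    have h2 := hG (y * y₁) (mul_mem hy hy₁) p
    rw [hGl, h1, zero_add, hcmul, add_mul, hG y hy p, add_eq_left] at h2
    rcases mul_eq_zero.mp h2 with h | h
    · exact hy₁W (hker σ hσY y₁ hy₁ h)
    · exact hne (by rwa [map_eq_zero] at h)
  have hGuniq : ∀ y ∈ Y, y ∉ second P → ∀ p q, G y p ≠ 0 → G y q ≠ 0 → G y p = G y q := by
    intro y hy hyW p q hp hq
    obtain ⟨k, hk⟩ := hχsurj (G y q / G y p) (div_ne_zero hq hp)
    have hc0 : c y σ ≠ 0 := fun h => hyW (hker σ hσY y hy h)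
    have hfix : σ (χ k) = χ k := by
      rw [hk, map_div₀]
      have a1 := hG y hy p
      have a2 := hG y hy q
      conv_rhs => rw [← a1, ← a2]
      rw [mul_div_mul_left _ _ hc0]
    have hk1 : k = 1 := hmoved k y σ hy hyW hσY (by
      have h := hcsmul k y σ
      rw [hfix, mul_comm (χ k)] at h
      exact mul_right_cancel₀ (hχ0 k) h)
    rw [hk1, map_one, eq_div_iff hp, one_mul] at hk
    exact hk
  let N : Subgroup P :=
    { carrier := {p | ∀ y ∈ Y, G y p = 0}
      one_mem' := fun y _ => hπz _ (by rw [mul_one, mul_inv_cancel, inv_one, mul_one]; exact one_mem _)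
      mul_mem' := fun {p q} hp hq y hy => by rw [hGr, hp y hy, hq y hy, add_zero]
      inv_mem' := fun {p} hp y hy => by
        have h := hGr y p⁻¹ p
        rw [inv_mul_cancel, hp y hy, add_zero] at h
        rw [← h]
        exact hπz _ (by rw [mul_one, mul_inv_cancel, inv_one, mul_one]; exact one_mem _) }
  have hNinv : ∀ k : K, ∀ p ∈ N, k • p ∈ N := by
    intro k p hp y hy
    have h0 : π ((k⁻¹ • y) * p * (k⁻¹ • y)⁻¹ * p⁻¹) = 0 := hp _ (hYinv k⁻¹ y hy)
    show π _ = 0
    have e : y * (k • p) * y⁻¹ * (k • p)⁻¹ =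
        k • ((k⁻¹ • y) * p * (k⁻¹ • y)⁻¹ * p⁻¹) := by
      simp [smul_mul', smul_inv']
    rw [e, hπsmul _ _ (hcm _ _), h0, mul_zero]
  obtain ⟨p, hp⟩ : ∃ p, p ∉ N := by
    by_contra hcon
    push Not at hcon
    exact hy₀W (mem_second.mpr fun p => (hπ0 _ (hcm y₀ p)).mp (hcon p y₀ hy₀))
  obtain ⟨k, hk⟩ := hF.nontrivial
  refine hk (coset_moved hF hNinv (p := p) ?_ hp)
  intro y hy
  by_cases hyW : y ∈ second P
  · exact hGW y hyW _
  have hkp : k • p ∉ N := fun h => hp (by simpa using hNinv k⁻¹ _ h)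
  have h1 : G y p ≠ 0 := fun h => hp (hGker p ⟨y, hy, hyW, h⟩)
  have h2 : G y (k • p) ≠ 0 := fun h => hkp (hGker _ ⟨y, hy, hyW, h⟩)
  have h3 := hGr y p (p⁻¹ * (k • p))
  rw [mul_inv_cancel_left, ← hGuniq y hy hyW p _ h1 h2, left_eq_add] at h3
  exact h3

theorem sq_central (x : P) : x * x ∈ Subgroup.center P :=
  second_sq hF (second_eq_top hF ▸ Subgroup.mem_top x)

theorem comm_central (x y : P) : x * y * x⁻¹ * y⁻¹ ∈ Subgroup.center P :=
  mem_second.mp (second_eq_top hF ▸ Subgroup.mem_top x) y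

end H66.Hig
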