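import Cfsg.Agent.H66.OddLinearLift
import Cfsg.Agent.H12.Linear
import Mathlib.LinearAlgebra.Matrix.GeneralLinearGroup.Defs

/-!
# The eigenvectors of an element of primitive prime order over `ZMod 2`
-/

set_option autoImplicit false
set_option linter.unusedSectionVars false
set_option linter.style.haveILetI false

open Cfsg
open scoped ComplexConjugate Matrix

namespace H66.OddLift

universe u

variable {M : Ideal AlgInt} [hMp : M.IsPrime] {k : Type} [Field k] [IsAlgClosed k] [CharP k 2]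
  {π : H20.Ou M 2 →+* k}

variable {G : Type u} [Group G] [Fintype G] {n : ℕ}

/-- The representation over the larger field. -/
noncomputable def rk (ρ : G →* Matrix (Fin n) (Fin n) (ZMod 2)) :
    G →* Matrix (Fin n) (Fin n) k :=
  ((ZMod.castHom (dvd_refl 2) k).mapMatrix.toMonoidHom).comp ρ

theorem rk_inj {ρ : G →* Matrix (Fin n) (Fin n) (ZMod 2)} (hρ : Function.Injective ρ) :
    Function.Injective (rk (k := k) ρ) := fun a b h => hρ (by
  ext i j
  exact (ZMod.castHom (dvd_refl 2) k).injective (congrFun (congrFun h i) j))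

/-- Raising the coordinates to the power `2 ^ i`. -/
noncomputable def frob (i : ℕ) (v : Fin n → k) : Fin n → k := fun j => v j ^ (2 ^ i)

theorem rk_frob (ρ : G →* Matrix (Fin n) (Fin n) (ZMod 2)) (g : G) (i : ℕ) (v : Fin n → k) :
    rk ρ g *ᵥ frob i v = frob i (rk ρ g *ᵥ v) := by
  funext j
  show (rk ρ g *ᵥ frob i v) j = ((rk ρ g *ᵥ v) j) ^ (2 ^ i)
  simp only [Matrix.mulVec, dotProduct, sum_pow_char_pow, mul_pow]
  refine Finset.sum_congr rfl fun l _ => ?_
  show _ * v l ^ (2 ^ i) = _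
  congr 1
  have e : (iterateFrobenius k 2 i).comp (ZMod.castHom (dvd_refl 2) k) =
      ZMod.castHom (dvd_refl 2) k := RingHom.ext_zmod _ _
  have e2 := RingHom.congr_fun e (ρ g j l)
  rw [RingHom.comp_apply, iterateFrobenius_def] at e2
  exact e2.symm

theorem frob_smul (i : ℕ) (c : k) (v : Fin n → k) : frob i (c • v) = c ^ (2 ^ i) • frob i v := by
  funext j
  simp [frob, mul_pow]

theorem frob_ne (i : ℕ) {v : Fin n → k} (hv : v ≠ 0) : frob i v ≠ 0 := by
  obtain ⟨j, hj⟩ := Function.ne_iff.1 hv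
  exact Function.ne_iff.2 ⟨j, pow_ne_zero _ hj⟩

/-- The data: an element with an eigenvector for a primitive eigenvalue. -/
structure Sys (π : H20.Ou M 2 →+* k) (ρ : G →* Matrix (Fin n) (Fin n) (ZMod 2)) (x : G)
    (r : ℕ) where
  hM : IsPModular 2 M
  hodd : Odd (Nat.card G)
  hr : H20.Stable.IsRed π 2
  prime : r.Prime
  ord : orderOf x = r
  two : orderOf (2 : ZMod r) = n
  inj : Function.Injective ρ
  ζ : ℂ
  ζm : ζ ∈ H20.Ou M 2
  prim : IsPrimitiveRoot ζ r
  prim' : IsPrimitiveRoot (π ⟨ζ, ζm⟩) r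
  v : Fin n → k
  hv : v ≠ 0
  eig : rk ρ x *ᵥ v = π ⟨ζ, ζm⟩ • v

variable {ρ : G →* Matrix (Fin n) (Fin n) (ZMod 2)} {x : G} {r : ℕ}

theorem exists_sys (hM : IsPModular 2 M) (hr : H20.Stable.IsRed π 2) (hodd : Odd (Nat.card G))
    (hρ : Function.Injective ρ) (hp : r.Prime) (hx : orderOf x = r)
    (htwo : orderOf (2 : ZMod r) = n) : Nonempty (Sys π ρ x r) := by
  classical
  have hrodd : Odd r := Odd.of_dvd_nat hodd (hx ▸ orderOf_dvd_natCard x)
  have hr0 : (r : k) ≠ 0 :=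
    hr.natCast_ne_zero fun h => Nat.not_even_iff_odd.2 hrodd (even_iff_two_dvd.2 h)
  set X := rk (k := k) ρ x with hX
  have hXr : X ^ r = 1 := by rw [hX, ← map_pow, ← hx, pow_orderOf_eq_one, map_one]
  have hX1 : X ≠ 1 := fun h => by
    have h1 : x = 1 := rk_inj (k := k) hρ (by rw [← hX, h, map_one])
    rw [h1, orderOf_one] at hx
    exact hp.ne_one hx.symm
  let f : Module.End k (Fin n → k) := Matrix.mulVecLin X
  let U : Submodule k (Fin n → k) := LinearMap.range (f - 1)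
  have hUne : U ≠ ⊥ := by
    intro h
    rw [LinearMap.range_eq_bot, sub_eq_zero] at h
    apply hX1
    refine Matrix.ext_of_mulVec_single fun i => ?_
    rw [Matrix.one_mulVec]
    exact LinearMap.congr_fun h _
  have hUinv : ∀ u ∈ U, f u ∈ U := by
    rintro u ⟨w, rfl⟩
    refine ⟨f w, ?_⟩
    simp
  haveI : Nontrivial U := Submodule.nontrivial_iff_ne_bot.2 hUne
  obtain ⟨μ, hμ⟩ := Module.End.exists_eigenvalue (f.restrict hUinv)
  obtain ⟨⟨u, hu⟩, hu1, hu0⟩ := hμ.exists_hasEigenvector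
  rw [Module.End.mem_eigenspace_iff] at hu1
  have hu1' : X *ᵥ u = μ • u := congrArg Subtype.val hu1
  have hu0' : u ≠ 0 := fun h => hu0 (Subtype.ext h)
  have hXi : ∀ j : ℕ, (X ^ j) *ᵥ u = μ ^ j • u := by
    intro j
    induction j with
    | zero => simp
    | succ j ih => rw [pow_succ, ← Matrix.mulVec_mulVec, hu1', Matrix.mulVec_smul, ih, smul_smul,
        ← pow_succ']
  have hμr : μ ^ r = 1 := by
    have h := hXi r
    rw [hXr, Matrix.one_mulVec] at h
    by_contra hne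
    exact hu0' ((smul_eq_zero.1 (show (μ ^ r - 1) • u = 0 by
      rw [sub_smul, one_smul, ← h, sub_self])).resolve_left (sub_ne_zero.2 hne))
  have hμ1 : μ ≠ 1 := by
    rintro rfl
    obtain ⟨w, hw⟩ := hu
    rw [LinearMap.sub_apply, Module.End.one_apply] at hw
    have hw' : X *ᵥ w = w + u := by
      rw [← hw]
      show X *ᵥ w = w + (X *ᵥ w - w)
      abel
    rw [one_smul] at hu1'
    have hpow : ∀ j : ℕ, (X ^ j) *ᵥ w = w + (j : k) • u := by
      intro j
      induction j with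
      | zero => simp
      | succ j ih =>
        rw [pow_succ', ← Matrix.mulVec_mulVec, ih, Matrix.mulVec_add, Matrix.mulVec_smul, hw',
          hu1']
        push_cast
        rw [add_smul, one_smul]
        abel
    have h := hpow r
    rw [hXr, Matrix.one_mulVec, eq_comm, add_eq_left] at h
    exact hu0' ((smul_eq_zero.1 h).resolve_left hr0)
  set z := Complex.exp (2 * Real.pi * Complex.I / (r : ℂ)) with hz
  have hzp : IsPrimitiveRoot z r := Complex.isPrimitiveRoot_exp _ hp.ne_zero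
  have hzm : z ∈ H20.Ou M 2 := rt_mem hrodd hzp.pow_eq_one
  have hπz : IsPrimitiveRoot (π ⟨z, hzm⟩) r := by
    refine IsPrimitiveRoot.iff_orderOf.2 ?_
    haveI := Fact.mk hp
    refine orderOf_eq_prime ?_ ?_
    · rw [← map_pow, show (⟨z, hzm⟩ : H20.Ou M 2) ^ r = 1 from Subtype.ext hzp.pow_eq_one, map_one]
    · intro h
      have h1 : π (⟨z, hzm⟩ - 1) = 0 := by rw [map_sub, h, map_one, sub_self]
      rw [hr.eq_zero, H20.p_dvd_iff hM] at h1
      exact hzp.ne_one hp.one_lt (H20.eq_one_of_pow_eq_one hM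
        (fun h => Nat.not_even_iff_odd.2 hrodd (even_iff_two_dvd.2 h)) hzp.pow_eq_one
        (by simpa using h1))
  haveI : NeZero r := ⟨hp.ne_zero⟩
  obtain ⟨j, hjr, hj⟩ := hπz.eq_pow_of_pow_eq_one hμr
  have hjne : j ≠ 0 := fun h => hμ1 (by rw [← hj, h, pow_zero])
  have hjc : j.Coprime r := Nat.coprime_comm.1 (hp.coprime_iff_not_dvd.2 fun h =>
    absurd (Nat.le_of_dvd (Nat.pos_of_ne_zero hjne) h) (not_le.2 hjr))
  exact ⟨{ hM := hM, hodd := hodd, hr := hr, prime := hp, ord := hx, two := htwo, inj := hρ,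
           ζ := z ^ j, ζm := pow_mem hzm j, prim := hzp.pow_of_coprime j hjc
           prim' := by
            rw [show (⟨z ^ j, pow_mem hzm j⟩ : H20.Ou M 2) = ⟨z, hzm⟩ ^ j from rfl, map_pow]
            exact hπz.pow_of_coprime j hjc
           v := u, hv := hu0'
           eig := by
            rw [show (⟨z ^ j, pow_mem hzm j⟩ : H20.Ou M 2) = ⟨z, hzm⟩ ^ j from rfl, map_pow, hj]
            exact hu1' }⟩

variable (S : Sys π ρ x r)

/-- The eigenvalues. -/
noncomputable def Sys.ev (i : ℕ) : k := π ⟨S.ζ, S.ζm⟩ ^ (2 ^ i)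

/-- The eigenvectors. -/
noncomputable def Sys.vec (i : ℕ) : Fin n → k := frob i S.v

theorem Sys.eig_vec (i : ℕ) : rk ρ x *ᵥ S.vec i = S.ev i • S.vec i := by
  rw [Sys.vec, rk_frob, S.eig, frob_smul, Sys.ev]

theorem Sys.vec_succ (i : ℕ) : S.vec (i + 1) = frob 1 (S.vec i) := by
  funext j
  simp [Sys.vec, frob, pow_succ, pow_mul]

theorem Sys.two_pow_mod (S : Sys π ρ x r) {i j : ℕ} (hi : i < n) (hj : j < n)
    (h : 2 ^ i ≡ 2 ^ j [MOD r]) : i = j := by
  have h1 : (2 : ZMod r) ^ i = (2 : ZMod r) ^ j := by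
    have := (ZMod.natCast_eq_natCast_iff _ _ r).2 h
    push_cast at this
    exact this
  rw [← S.two] at hi hj
  exact pow_injOn_Iio_orderOf hi hj h1

theorem Sys.ev_inj {i j : ℕ} (hi : i < n) (hj : j < n) (h : S.ev i = S.ev j) : i = j := by
  refine S.two_pow_mod hi hj ?_
  have hu : IsUnit (π ⟨S.ζ, S.ζm⟩) := (S.prim'.isUnit S.prime.ne_zero)
  rw [Sys.ev, Sys.ev] at h
  rw [S.prim'.eq_orderOf, ← hu.unit_spec, orderOf_units]
  exact pow_eq_pow_iff_modEq.1 (Units.ext (by simpa using h))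

theorem Sys.hasEigenvector (i : Fin n) :
    Module.End.HasEigenvector (Matrix.mulVecLin (rk ρ x)) (S.ev i) (S.vec i) :=
  by
  refine ⟨?_, frob_ne _ S.hv⟩
  rw [Module.End.mem_eigenspace_iff, Matrix.mulVecLin_apply]
  exact S.eig_vec i

theorem Sys.linearIndependent : LinearIndependent k fun i : Fin n => S.vec i := by
  have h1 : ∀ i : Fin n, S.vec i ∈ Module.End.eigenspace
      (Matrix.mulVecLin (rk ρ x) : Module.End k (Fin n → k)) (S.ev i) :=
    fun i => (S.hasEigenvector i).1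
  haveI : Module.IsTorsionFree k (Fin n → k) := inferInstance
  have h2 := (Module.End.eigenspaces_iSupIndep
    (Matrix.mulVecLin (rk ρ x) : Module.End k (Fin n → k))).comp
    (f := fun i : Fin n => S.ev i) (fun i j h => Fin.ext (S.ev_inj i.2 j.2 h))
  exact h2.linearIndependent _ h1 fun i => (S.hasEigenvector i).2

theorem Sys.pos (S : Sys π ρ x r) : 0 < n := by
  obtain ⟨j, -⟩ := Function.ne_iff.1 S.hv
  exact j.pos

/-- The eigenbasis. -/
noncomputable def Sys.basis : Module.Basis (Fin n) k (Fin n → k) :=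
  haveI : Nonempty (Fin n) := ⟨⟨0, S.pos⟩⟩
  basisOfLinearIndependentOfCardEqFinrank S.linearIndependent (by simp)

theorem Sys.basis_apply (i : Fin n) : S.basis i = S.vec i := by
  simp [Sys.basis]

theorem Sys.eigen_unique {w : Fin n → k} {i : ℕ} (hi : i < n)
    (hw : rk ρ x *ᵥ w = S.ev i • w) : ∃ c : k, w = c • S.vec i := by
  classical
  refine ⟨S.basis.repr w ⟨i, hi⟩, ?_⟩
  have h0 : ∀ j : Fin n, (S.basis.repr w j) * (S.ev j - S.ev i) = 0 := by
    have h : ∑ j : Fin n, (S.basis.repr w j * (S.ev j - S.ev i)) • S.vec j = 0 := by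
      simp only [mul_sub, sub_smul, Finset.sum_sub_distrib]
      have e1 : ∑ j : Fin n, (S.basis.repr w j * S.ev j) • S.vec j = rk ρ x *ᵥ w := by
        conv_rhs => rw [← S.basis.sum_repr w, Matrix.mulVec_sum]
        exact Finset.sum_congr rfl fun j _ => by
          rw [Matrix.mulVec_smul, S.basis_apply, S.eig_vec, smul_smul]
      have e2 : ∑ j : Fin n, (S.basis.repr w j * S.ev i) • S.vec j = S.ev i • w := by
        conv_rhs => rw [← S.basis.sum_repr w, Finset.smul_sum]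
        exact Finset.sum_congr rfl fun j _ => by rw [S.basis_apply, smul_smul, mul_comm]
      rw [e1, e2, hw, sub_self]
    exact Fintype.linearIndependent_iff.1 S.linearIndependent _ h
  conv_lhs => rw [← S.basis.sum_repr w]
  rw [Finset.sum_eq_single (⟨i, hi⟩ : Fin n) ?_ (by simp), S.basis_apply]
  intro j _ hj
  have h := h0 j
  rw [(mul_eq_zero.1 h).resolve_right fun h' =>
    hj (Fin.ext (S.ev_inj j.2 hi (sub_eq_zero.1 h'))), zero_smul]

/-- The eigenvalue of an element commuting with `x`. -/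
theorem Sys.exists_scalar {g : G} (hg : Commute g x) :
    ∃ c : k, ∀ i : ℕ, rk ρ g *ᵥ S.vec i = c ^ (2 ^ i) • S.vec i := by
  obtain ⟨c, hc⟩ := S.eigen_unique (i := 0) S.pos (w := rk ρ g *ᵥ S.vec 0) (by
    rw [Matrix.mulVec_mulVec, ← map_mul, hg.eq.symm, map_mul, ← Matrix.mulVec_mulVec, S.eig_vec,
      Matrix.mulVec_smul])
  refine ⟨c, fun i => ?_⟩
  have e : S.vec 0 = S.v := by funext j; simp [Sys.vec, frob]
  rw [e] at hc
  rw [Sys.vec, rk_frob, hc, frob_smul]

theorem Sys.ext_vec (S : Sys π ρ x r) {A B : Matrix (Fin n) (Fin n) k}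
    (h : ∀ i : Fin n, A *ᵥ S.vec i = B *ᵥ S.vec i) : A = B := by
  have : Matrix.mulVecLin A = Matrix.mulVecLin B :=
    S.basis.ext fun i => by simpa [S.basis_apply] using h i
  exact Matrix.ext_of_mulVec_single fun i => LinearMap.congr_fun this _

theorem Sys.commute (S : Sys π ρ x r) {g h : G} (hg : Commute g x) (hh : Commute h x) :
    g * h = h * g := by
  obtain ⟨c, hc⟩ := S.exists_scalar hg
  obtain ⟨d, hd⟩ := S.exists_scalar hh
  apply rk_inj (k := k) S.inj
  refine S.ext_vec fun i => ?_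
  rw [map_mul, map_mul, ← Matrix.mulVec_mulVec, ← Matrix.mulVec_mulVec, hc, hd, Matrix.mulVec_smul,
    Matrix.mulVec_smul, hc, hd, smul_comm]

theorem Sys.tors (S : Sys π ρ x r) {g : G} (hg : Commute g x) (hgr : g ^ r = 1) :
    g ∈ Subgroup.zpowers x := by
  obtain ⟨c, hc⟩ := S.exists_scalar hg
  have hi : ∀ j : ℕ, rk ρ (g ^ j) *ᵥ S.vec 0 = c ^ j • S.vec 0 := by
    intro j
    induction j with
    | zero => simp
    | succ j ih =>
      rw [pow_succ, map_mul, ← Matrix.mulVec_mulVec, hc 0, pow_zero, pow_one, Matrix.mulVec_smul,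
        ih, smul_smul, ← pow_succ']
  have hcr : c ^ r = 1 := by
    have h := hi r
    rw [hgr, map_one, Matrix.one_mulVec] at h
    by_contra hne
    exact frob_ne 0 S.hv ((smul_eq_zero.1 (show (c ^ r - 1) • S.vec 0 = 0 by
      rw [sub_smul, one_smul, ← h, sub_self])).resolve_left (sub_ne_zero.2 hne))
  haveI : NeZero r := ⟨S.prime.ne_zero⟩
  obtain ⟨j, -, hj⟩ := S.prim'.eq_pow_of_pow_eq_one hcr
  refine Subgroup.mem_zpowers_iff.2 ⟨(j : ℤ), ?_⟩
  rw [zpow_natCast]
  apply rk_inj (k := k) S.inj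
  refine S.ext_vec fun i => ?_
  rw [hc i, ← hj, map_pow]
  have hx : ∀ l : ℕ, (rk ρ x) ^ l *ᵥ S.vec i = S.ev i ^ l • S.vec i := by
    intro l
    induction l with
    | zero => simp
    | succ l ih =>
      rw [pow_succ, ← Matrix.mulVec_mulVec, S.eig_vec, Matrix.mulVec_smul, ih, smul_smul,
        ← pow_succ']
  rw [hx, Sys.ev, ← pow_mul, ← pow_mul, mul_comm]

/-! ### The characters -/

/-- The action of the group algebra. -/
noncomputable def act (ρ : G →* Matrix (Fin n) (Fin n) (ZMod 2)) :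
    MonoidAlgebra k G →ₐ[k] Matrix (Fin n) (Fin n) k :=
  MonoidAlgebra.lift k (Matrix (Fin n) (Fin n) k) G (rk ρ)

theorem act_apply (a : MonoidAlgebra k G) :
    act (k := k) ρ a = ∑ g : G, a.coeff g • rk ρ g := by
  rw [act, MonoidAlgebra.lift_apply]
  exact Finsupp.sum_fintype _ _ (fun g => zero_smul k _)

/-- The idempotent of a character on the space. -/
noncomputable def Sys.E (S : Sys π ρ x r) (χ : IrrCharacter G) : Matrix (Fin n) (Fin n) k :=
  act ρ (ebar S.hM S.hodd π χ)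

theorem Sys.exists_ch (S : Sys π ρ x r) (i : ℕ) (hi : i < n) :
    ∃ χ : IrrCharacter G, S.E χ *ᵥ S.vec i = S.vec i ∧
      ∀ χ', χ' ≠ χ → S.E χ' *ᵥ S.vec i = 0 := by
  classical
  have hsum : ∑ χ : IrrCharacter G, S.E χ *ᵥ S.vec i = S.vec i := by
    rw [← Matrix.sum_mulVec]
    simp only [Sys.E, ← map_sum, sum_ebar, map_one, Matrix.one_mulVec]
  have h01 : ∀ χ, S.E χ *ᵥ S.vec i = S.vec i ∨ S.E χ *ᵥ S.vec i = 0 := by
    intro χ
    have hc : Commute (S.E χ) (rk ρ x) := by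
      have h := (ebar_commute S.hM S.hodd (π := π) χ (MonoidAlgebra.of k G x)).map (act ρ)
      rwa [act, MonoidAlgebra.lift_of] at h
    obtain ⟨c, hc'⟩ := S.eigen_unique hi (w := S.E χ *ᵥ S.vec i) (by
      rw [Matrix.mulVec_mulVec, ← hc.eq, ← Matrix.mulVec_mulVec, S.eig_vec, Matrix.mulVec_smul])
    have h2 : c * c = c := by
      have h : S.E χ *ᵥ (S.E χ *ᵥ S.vec i) = S.E χ *ᵥ S.vec i := by
        rw [Matrix.mulVec_mulVec, Sys.E, ← map_mul, ebar_mul_self]
      rw [hc', Matrix.mulVec_smul, hc', smul_smul] at h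
      exact smul_left_injective k (frob_ne i S.hv) h
    rcases mul_eq_left₀ (a := c) |> fun e => (eq_or_ne c 0).imp_right (fun h => (e h).1 h2) with h | h
    · exact Or.inr (by rw [hc', h, zero_smul])
    · exact Or.inl (by rw [hc', h, one_smul])
  obtain ⟨χ, hχ⟩ : ∃ χ, S.E χ *ᵥ S.vec i = S.vec i := by
    by_contra h
    rw [not_exists] at h
    rw [Finset.sum_eq_zero fun χ _ => (h01 χ).resolve_left (h χ)] at hsum
    exact frob_ne i S.hv hsum.symm
  refine ⟨χ, hχ, fun χ' hne => ?_⟩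
  rw [← hχ, Matrix.mulVec_mulVec, Sys.E, Sys.E, ← map_mul, ebar_mul_ne S.hM S.hodd hne, map_zero,
    Matrix.zero_mulVec]

/-- The character of an eigenvector. -/
noncomputable def Sys.ch (S : Sys π ρ x r) (i : Fin n) : IrrCharacter G :=
  (S.exists_ch i i.2).choose

theorem Sys.ch_spec (S : Sys π ρ x r) (i : Fin n) :
    S.E (S.ch i) *ᵥ S.vec i = S.vec i ∧ ∀ χ', χ' ≠ S.ch i → S.E χ' *ᵥ S.vec i = 0 :=
  (S.exists_ch i i.2).choose_spec

theorem Sys.hit (S : Sys π ρ x r) (i : Fin n) :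
    ∑ j ∈ Finset.range r, (S.ζ ^ (2 ^ (i : ℕ))) ^ j * (S.ch i : G → ℂ) (x⁻¹ ^ j) ≠ 0 := by
  classical
  have hζ : (S.ζ ^ (2 ^ (i : ℕ))) ^ r = 1 := by
    rw [← pow_mul, mul_comm, pow_mul, S.prim.pow_eq_one, one_pow]
  refine exists_mult_eigen (S.ch i) S.ord S.prime.ne_zero hζ ?_
  by_contra hno
  simp only [not_exists, not_not] at hno
  set χ := S.ch i
  set t : H20.Ou M 2 := ⟨S.ζ, S.ζm⟩ ^ (2 ^ (i : ℕ)) with ht
  have hcoef : ∀ g : G, ∑ j ∈ Finset.range r, t ^ j * coef S.hM S.hodd χ (g * x ^ j) = 0 := by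
    intro g
    apply Subtype.ext
    push_cast
    rw [ht]
    simp only [coef, SubmonoidClass.coe_pow]
    have h := hno g⁻¹
    calc ∑ j ∈ Finset.range r, (S.ζ ^ (2 ^ (i : ℕ))) ^ j *
          ((Nat.card G : ℂ)⁻¹ * ((χ : G → ℂ) 1 * (χ : G → ℂ) (g * x ^ j)⁻¹))
        = (Nat.card G : ℂ)⁻¹ * (χ : G → ℂ) 1 * ∑ j ∈ Finset.range r,
            (S.ζ ^ (2 ^ (i : ℕ))) ^ j * (χ : G → ℂ) (x⁻¹ ^ j * g⁻¹) := by
          rw [Finset.mul_sum]
          refine Finset.sum_congr rfl fun j _ => ?_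
          rw [mul_inv_rev, inv_pow]
          ring
      _ = 0 := by rw [h, mul_zero]
  have hev : ∀ j : ℕ, rk ρ (x ^ j) *ᵥ S.vec i = π t ^ j • S.vec i := by
    intro j
    induction j with
    | zero => simp
    | succ j ih =>
      rw [pow_succ, map_mul, ← Matrix.mulVec_mulVec, S.eig_vec, Matrix.mulVec_smul, ih, smul_smul,
        show S.ev i = π t by rw [ht, map_pow]; rfl, ← pow_succ']
  have key : (r : k) • (S.E χ *ᵥ S.vec i) = 0 := by
    have h1 : ∀ j : ℕ, S.E χ *ᵥ S.vec i =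
        ∑ g : G, (π t ^ j * (ebar S.hM S.hodd π χ).coeff (g * x ^ j)) • (rk ρ g *ᵥ S.vec i) := by
      intro j
      rw [Sys.E, act_apply, Matrix.sum_mulVec]
      refine (Fintype.sum_equiv (Equiv.mulRight (x ^ j)) _ _ fun g => ?_).symm
      rw [Equiv.coe_mulRight, Matrix.smul_mulVec, map_mul (rk (k := k) ρ), ← Matrix.mulVec_mulVec, hev,
        Matrix.mulVec_smul, smul_smul, mul_comm]
    calc (r : k) • (S.E χ *ᵥ S.vec i)
        = ∑ _j ∈ Finset.range r, S.E χ *ᵥ S.vec i := by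
          rw [Finset.sum_const, Finset.card_range, ← Nat.cast_smul_eq_nsmul k]
      _ = ∑ g : G, π (∑ j ∈ Finset.range r, t ^ j * coef S.hM S.hodd χ (g * x ^ j)) •
            (rk ρ g *ᵥ S.vec i) := by
          rw [Finset.sum_congr rfl fun j _ => h1 j, Finset.sum_comm]
          refine Finset.sum_congr rfl fun g _ => ?_
          rw [map_sum, Finset.sum_smul]
          refine Finset.sum_congr rfl fun j _ => ?_
          rw [map_mul π, coeff_ebar]
          congr 2
          simp [ht]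
          rw [← map_pow]
          rfl
      _ = 0 := by simp [hcoef]
  rw [(S.ch_spec i).1, smul_eq_zero] at key
  have hrodd : Odd r := Odd.of_dvd_nat S.hodd (S.ord ▸ orderOf_dvd_natCard x)
  exact key.elim (S.hr.natCast_ne_zero fun h => Nat.not_even_iff_odd.2 hrodd
    (even_iff_two_dvd.2 h)) (frob_ne _ S.hv)

theorem Sys.degree_le (S : Sys π ρ x r) [DecidableEq (IrrCharacter G)] (i : Fin n) :
    H12.degree (S.ch i : G → ℂ) ≤ (Finset.univ.filter fun j => S.ch j = S.ch i).card := by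
  classical
  set χ := S.ch i with hχ
  set F := Finset.univ.filter fun j : Fin n => S.ch j = χ with hF
  obtain ⟨d, hd⟩ : ∃ d, H12.degree (χ : G → ℂ) = d := ⟨_, rfl⟩
  have hs := exists_units S.hM S.hodd S.hr χ
  rw [hd] at hs ⊢
  obtain ⟨s, hmul, hone⟩ := hs
  let T : Matrix (Fin d) (Fin d) k → Matrix (Fin n) (Fin n) k := fun X => act ρ (s X)
  have hTmul : ∀ X Y, T (X * Y) = T X * T Y := fun X Y => by
    show act ρ (s (X * Y)) = act ρ (s X) * act ρ (s Y)
    rw [show s (X * Y) = s X * s Y from hmul X Y, map_mul]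
  have hT1 : T 1 = S.E χ := by
    show act ρ (s 1) = act ρ _
    exact congrArg (act ρ) hone
  have hTsum : ∀ (f : Fin d → Matrix (Fin d) (Fin d) k), T (∑ l, f l) = ∑ l, T (f l) := fun f => by
    simp only [T, map_sum]
  obtain ⟨l, hl⟩ : ∃ l : Fin d, T (Matrix.single l l 1) *ᵥ S.vec i ≠ 0 := by
    by_contra h
    simp only [not_exists, not_not] at h
    have h1 := (S.ch_spec i).1
    rw [← hχ, ← hT1, show (1 : Matrix (Fin d) (Fin d) k) = ∑ l, Matrix.single l l 1 from
      (Matrix.sum_single_eq_diagonal (1 : Fin d → k)).trans Matrix.diagonal_one |>.symm, hTsum,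
      Matrix.sum_mulVec, Finset.sum_eq_zero fun l _ => h l] at h1
    exact frob_ne _ S.hv h1.symm
  let u : Fin d → Fin n → k := fun p => T (Matrix.single p l 1) *ᵥ S.vec i
  have hli : LinearIndependent k u := by
    refine Fintype.linearIndependent_iff.2 fun c hc q => ?_
    have h := congrArg (fun w => T (Matrix.single l q 1) *ᵥ w) hc
    simp only [u, Matrix.mulVec_sum, Matrix.mulVec_smul, Matrix.mulVec_mulVec, ← hTmul,
      Matrix.mulVec_zero] at h
    rw [Finset.sum_eq_single q ?_ (by simp), Matrix.single_mul_single_same, mul_one] at h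
    · exact (smul_eq_zero.1 h).resolve_right hl
    · intro p _ hp
      rw [Matrix.single_mul_single_of_ne _ _ _ _ (Ne.symm hp)]
      simp [T]
  have hmem : ∀ p, u p ∈ Submodule.span k
      ((F.image fun j : Fin n => S.vec j : Finset (Fin n → k)) : Set (Fin n → k)) := by
    intro p
    have hfix : S.E χ *ᵥ u p = u p := by
      rw [Matrix.mulVec_mulVec, ← hT1, ← hTmul, one_mul]
    rw [← hfix, ← S.basis.sum_repr (u p), Matrix.mulVec_sum]
    refine Submodule.sum_mem _ fun j _ => ?_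
    rw [Matrix.mulVec_smul, S.basis_apply]
    refine Submodule.smul_mem _ _ ?_
    by_cases hj : S.ch j = χ
    · rw [← hj, (S.ch_spec j).1]
      exact Submodule.subset_span (Finset.mem_coe.2 (Finset.mem_image.2
        ⟨j, Finset.mem_filter.2 ⟨Finset.mem_univ _, hj⟩, rfl⟩))
    · rw [(S.ch_spec j).2 χ (Ne.symm hj)]
      exact zero_mem _
  have hsub : Submodule.span k (Set.range u) ≤ Submodule.span k
      ((F.image fun j : Fin n => S.vec j : Finset (Fin n → k)) : Set (Fin n → k)) :=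
    Submodule.span_le.2 (by rintro _ ⟨p, rfl⟩; exact hmem p)
  have h1 := Submodule.finrank_mono hsub
  rw [finrank_span_eq_card hli, Fintype.card_fin] at h1
  exact h1.trans ((finrank_span_finset_le_card _).trans Finset.card_image_le)

theorem Sys.ch_succ (S : Sys π ρ x r) (i j : Fin n) (hij : (j : ℕ) = (i : ℕ) + 1) :
    S.ch j = sqIrr S.hodd (S.ch i) := by
  by_contra hne
  have h := (S.ch_spec j).2 _ (Ne.symm hne)
  rw [hij, S.vec_succ, Sys.E, act_apply, Matrix.sum_mulVec] at h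
  have e : ∑ g : G, ((ebar S.hM S.hodd π (sqIrr S.hodd (S.ch i))).coeff g • rk ρ g) *ᵥ
      frob 1 (S.vec i) = frob 1 (S.E (S.ch i) *ᵥ S.vec i) := by
    funext l
    show _ = ((S.E (S.ch i) *ᵥ S.vec i) l) ^ (2 ^ 1)
    rw [Sys.E, act_apply, Matrix.sum_mulVec, Finset.sum_apply, Finset.sum_apply, sum_pow_char_pow]
    refine Finset.sum_congr rfl fun g _ => ?_
    rw [Matrix.smul_mulVec, Matrix.smul_mulVec, rk_frob, coeff_ebar, coeff_ebar,
      coef_sqIrr S.hM S.hodd S.hr]
    simp [frob, mul_pow]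
  rw [e, (S.ch_spec i).1] at h
  exact frob_ne _ (frob_ne _ S.hv) h

theorem Sys.degree_const (S : Sys π ρ x r) (i : Fin n) :
    H12.degree (S.ch i : G → ℂ) = H12.degree (S.ch ⟨0, S.pos⟩ : G → ℂ) := by
  obtain ⟨i, hi⟩ := i
  induction i with
  | zero => rfl
  | succ j ih => rw [S.ch_succ ⟨j, by omega⟩ ⟨j + 1, hi⟩ rfl, degree_sqIrr, ih (by omega)]

theorem Sys.comm_of_linear (S : Sys π ρ x r)
    (h : ∀ i, H12.degree (S.ch i : G → ℂ) = 1) (a b : G) : a * b = b * a := by
  classical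
  have key : ∀ (i : Fin n) (g : G), ∃ c : k, rk ρ g *ᵥ S.vec i = c • S.vec i := by
    intro i g
    set χ := S.ch i with hχ
    have h1 : (χ : G → ℂ) 1 = 1 := by rw [H12.irr_apply_one, hχ, h i, Nat.cast_one]
    obtain ⟨f, hf⟩ := H12.exists_monoidHom_of_apply_one_eq_one (H12.isCharacter_irr χ) h1
    refine ⟨π ⟨_, val_mem S.hodd χ g⟩, ?_⟩
    conv_lhs => rw [← (S.ch_spec i).1, ← hχ, Sys.E, act_apply, Matrix.sum_mulVec]
    conv_rhs => rw [← (S.ch_spec i).1, ← hχ, Sys.E, act_apply, Matrix.sum_mulVec]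
    rw [Matrix.mulVec_sum, Finset.smul_sum]
    refine Fintype.sum_equiv (Equiv.mulLeft g) _ _ fun l => ?_
    rw [Equiv.coe_mulLeft, Matrix.smul_mulVec, Matrix.smul_mulVec, Matrix.mulVec_smul,
      Matrix.mulVec_mulVec, ← map_mul, smul_smul, coeff_ebar, coeff_ebar, ← map_mul]
    congr 2
    apply Subtype.ext
    simp only [coef, Subring.coe_mul]
    have hm : ∀ a b : G, (χ : G → ℂ) (a * b) = (χ : G → ℂ) a * (χ : G → ℂ) b := fun a b => by
      rw [congrFun hf.symm (a * b), congrFun hf.symm a, congrFun hf.symm b, map_mul, Units.val_mul]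
    have hgg : (χ : G → ℂ) g * (χ : G → ℂ) g⁻¹ = 1 := by rw [← hm, mul_inv_cancel, h1]
    rw [mul_inv_rev, hm l⁻¹ g⁻¹]
    linear_combination -((Nat.card G : ℂ)⁻¹ * (χ : G → ℂ) 1 * (χ : G → ℂ) l⁻¹) * hgg
  apply rk_inj (k := k) S.inj
  refine S.ext_vec fun i => ?_
  obtain ⟨c, hc⟩ := key i a
  obtain ⟨d, hd⟩ := key i b
  rw [map_mul, map_mul, ← Matrix.mulVec_mulVec, ← Matrix.mulVec_mulVec, hc, hd, Matrix.mulVec_smul,
    Matrix.mulVec_smul, hc, hd, smul_comm]

end H66.OddLift
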