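import Cfsg.Agent.H66.OddLinearMain
import Cfsg.Agent.H66.OddLinearEigen
import Cfsg.Agent.H22.ValueMod

/-!
# Odd order subgroups of `GL(n, 2)` of order divisible by a primitive prime divisor of `2 ^ n - 1`

`H66.OddLinear.sylow_normal`: the Sylow subgroup for such a prime is normal.  No solvability is
assumed.
-/

set_option autoImplicit false
set_option linter.unusedSectionVars false
set_option linter.style.haveILetI false

open Cfsg

namespace H66.OddLinear

universe u

theorem sylow_normal_aux (N : ℕ) : ∀ (G : Type u) [Group G] [Finite G], Nat.card G = N →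
    Odd (Nat.card G) → ∀ (n r : ℕ) [Fact r.Prime] (ρ : G →* Matrix (Fin n) (Fin n) (ZMod 2)),
      Function.Injective ρ → orderOf (2 : ZMod r) = n → r ∣ Nat.card G →
      ∀ P : Sylow r G, (P : Subgroup G).Normal := by
  induction N using Nat.strong_induction_on with
  | _ N ih =>
  intro G _ _ hN hodd n r hrf ρ hρ hn hdvd P
  classical
  letI : Fintype G := Fintype.ofFinite G
  by_contra hPn
  have hp : r.Prime := hrf.out
  -- an element of order `r` in the centre of `P`
  have hPne : (P : Subgroup G) ≠ ⊥ := by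
    intro h
    have h1 := P.card_eq_multiplicity
    rw [h, Subgroup.card_bot] at h1
    have h2 := hp.factorization_pos_of_dvd Nat.card_pos.ne' hdvd
    rcases Nat.pow_eq_one.1 h1.symm with h3 | h3
    · exact hp.ne_one h3
    · omega
  haveI : Nontrivial (P : Subgroup G) := (Subgroup.nontrivial_iff_ne_bot _).2 hPne
  haveI := P.isPGroup'.center_nontrivial
  obtain ⟨j, hj0, hj⟩ := (P.isPGroup'.to_subgroup (Subgroup.center (P : Subgroup G))).nontrivial_iff_card.1
    inferInstance
  obtain ⟨z, hz⟩ := exists_prime_orderOf_dvd_card' (G := Subgroup.center (P : Subgroup G)) r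
    (hj ▸ dvd_pow_self r hj0.ne')
  set x : G := ((z : (P : Subgroup G)) : G) with hxdef
  have hxP : x ∈ (P : Subgroup G) := (z : (P : Subgroup G)).2
  have hx : orderOf x = r := by rw [hxdef, Subgroup.orderOf_coe, Subgroup.orderOf_coe, hz]
  have hxc : ∀ y ∈ (P : Subgroup G), y * x = x * y := fun y hy =>
    congrArg Subtype.val (Subgroup.mem_center_iff.1 z.2 ⟨y, hy⟩)
  -- the field and the eigenvectors
  obtain ⟨M, hM⟩ := H22.exists_isPModular 2 Nat.prime_two
  haveI := hM.2.1.isPrime
  haveI := H20.ou_isDVR hM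
  haveI := H20.kU_isMaximal (M := M) (p := 2) hM
  letI : Field (H20.kU M 2) := Ideal.Quotient.field _
  haveI := H20.kU_isAlgClosed hM
  let π : H20.Ou M 2 →+* H20.kU M 2 := Ideal.Quotient.mk _
  have hr : H20.Stable.IsRed π 2 :=
    ⟨Nat.prime_two, Ideal.Quotient.mk_surjective,
      fun x => Ideal.Quotient.eq_zero_iff_mem.trans Ideal.mem_span_singleton,
      fun x hx => H20.ou_isUnit hM fun hd' =>
        hx (Ideal.Quotient.eq_zero_iff_mem.2 (Ideal.mem_span_singleton.2 hd'))⟩
  haveI := hr.charP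
  obtain ⟨S⟩ := H66.OddLift.exists_sys (π := π) hM hr hodd hρ hp hx hn
  -- the centraliser
  set C : Subgroup G := Subgroup.centralizer ({x} : Set G) with hC
  have hmemC : ∀ g, g ∈ C ↔ Commute g x := fun g => Subgroup.mem_centralizer_singleton_iff
  have hcomm : ∀ a ∈ C, ∀ b ∈ C, a * b = b * a := fun a ha b hb =>
    S.commute ((hmemC a).1 ha) ((hmemC b).1 hb)
  have hPC : (P : Subgroup G) ≤ C := fun y hy => (hmemC y).2 (hxc y hy)
  have hne_top : ∃ g : G, g ∉ C := by
    by_contra h
    simp only [not_exists, not_not] at h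
    refine hPn ⟨fun y hy g => ?_⟩
    rwa [hcomm g (h g) y (hPC hy), mul_inv_cancel_right]
  have hrR : ¬ r ∣ Nat.card C / Nat.card (P : Subgroup G) := by
    intro h
    apply P.not_dvd_index
    have e := ((P : Subgroup G).subgroupOf C).card_mul_index
    rw [Nat.card_congr (Subgroup.subgroupOfEquivOfLe hPC).toEquiv] at e
    rw [← e, Nat.mul_div_cancel_left _ Nat.card_pos] at h
    exact h.trans (Subgroup.relIndex_dvd_index_of_le hPC)
  have hsylR : ∀ c ∈ C, c ^ Nat.card (P : Subgroup G) = 1 → c ∈ (P : Subgroup G) := by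
    intro c hc hcp
    let H : Subgroup G :=
      { carrier := {g | g ∈ C ∧ g ^ Nat.card (P : Subgroup G) = 1}
        one_mem' := ⟨one_mem C, one_pow _⟩
        mul_mem' := fun {a b} ha hb => ⟨mul_mem ha.1 hb.1, by
          rw [(show Commute a b from hcomm a ha.1 b hb.1).mul_pow, ha.2, hb.2, one_mul]⟩
        inv_mem' := fun {a} ha => ⟨inv_mem ha.1, by rw [inv_pow, ha.2, inv_one]⟩ }
    have hH : IsPGroup r H := by
      intro g
      obtain ⟨a, ha⟩ := P.isPGroup'.exists_card_eq
      exact ⟨a, Subtype.ext (by rw [← ha]; exact g.2.2)⟩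
    have hle : (P : Subgroup G) ≤ H := fun y hy => ⟨hPC hy, by
      have := pow_card_eq_one' (G := (P : Subgroup G)) (x := ⟨y, hy⟩)
      exact congrArg Subtype.val this⟩
    rw [← P.is_maximal' hH hle]
    exact ⟨hc, hcp⟩
  have hcent : ∀ y ∈ (P : Subgroup G), y ≠ 1 → ∀ g : G, g * y = y * g → g ∈ C := by
    intro y hy hy1 g hg
    obtain ⟨a, ha⟩ := P.isPGroup' ⟨y, hy⟩
    have hord : orderOf y ∣ r ^ a := orderOf_dvd_of_pow_eq_one (congrArg Subtype.val ha)
    obtain ⟨b, -, hb⟩ := (Nat.dvd_prime_pow hp).1 hord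
    have hb0 : b ≠ 0 := by
      rintro rfl
      exact hy1 (orderOf_eq_one_iff.1 (by rw [hb, pow_zero]))
    set w := y ^ (r ^ (b - 1)) with hw
    have hwr : orderOf w = r := by
      rw [hw, orderOf_pow' _ (pow_ne_zero _ hp.ne_zero), hb,
        Nat.gcd_eq_right (pow_dvd_pow r (by omega)), Nat.pow_div (by omega) hp.pos,
        show b - (b - 1) = 1 by omega, pow_one]
    obtain ⟨i, hi⟩ := Subgroup.mem_zpowers_iff.1 (S.tors
      ((Commute.pow_left ((hmemC y).1 (hPC hy)) _) : Commute w x)
      (orderOf_dvd_iff_pow_eq_one.1 hwr.dvd))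
    have heq : Subgroup.zpowers w = Subgroup.zpowers x :=
      Subgroup.eq_of_le_of_card_ge (Subgroup.zpowers_le.2 ⟨i, hi⟩)
        (by rw [Nat.card_zpowers, Nat.card_zpowers, hwr, hx])
    obtain ⟨l, hl⟩ := Subgroup.mem_zpowers_iff.1 (heq.symm ▸ Subgroup.mem_zpowers x :
      x ∈ Subgroup.zpowers w)
    rw [hmemC, ← hl]
    exact ((show Commute g y from hg).pow_right _).zpow_right l
  have hnorm : ∀ g : G, (∀ y ∈ (P : Subgroup G), g * y * g⁻¹ ∈ (P : Subgroup G)) →
      g ∈ Subgroup.normalizer (C : Set G) := by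
    intro g hg
    have hgn : g ∈ Subgroup.normalizer ((P : Subgroup G) : Set G) :=
      Subgroup.mem_normalizer_iff.2 fun y => ⟨hg y, fun h => by
        have hmap : (P : Subgroup G).map (MulAut.conj g).toMonoidHom = (P : Subgroup G) :=
          Subgroup.eq_of_le_of_card_ge (by rintro _ ⟨y, hy, rfl⟩; exact hg y hy)
            (Subgroup.card_map_of_injective (MulAut.conj g).injective).ge
        rw [← hmap] at h
        obtain ⟨y', hy', he⟩ := h
        have : y' = y := (MulAut.conj g).injective he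
        rwa [← this]⟩
    have key : ∀ g ∈ Subgroup.normalizer ((P : Subgroup G) : Set G), ∀ c ∈ C,
        g * c * g⁻¹ ∈ C := by
      intro g hgn c hc
      have h1 : g⁻¹ * x * g ∈ (P : Subgroup G) := by
        simpa using (Subgroup.mem_normalizer_iff.1 (inv_mem hgn) x).1 hxP
      have h2 := hcomm c hc _ (hPC h1)
      rw [hmemC]
      calc g * c * g⁻¹ * x = g * (c * (g⁻¹ * x * g)) * g⁻¹ := by group
        _ = g * ((g⁻¹ * x * g) * c) * g⁻¹ := by rw [h2]
        _ = x * (g * c * g⁻¹) := by group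
    exact Subgroup.mem_normalizer_iff.2 fun c => ⟨key g hgn c, fun h => by
      simpa [mul_assoc] using key g⁻¹ (inv_mem hgn) _ h⟩
  have hsmall : ∀ H : Subgroup G, H ≠ ⊤ → (hPH : (P : Subgroup G) ≤ H) →
      ∀ h ∈ H, ∀ y ∈ (P : Subgroup G), h * y * h⁻¹ ∈ (P : Subgroup G) := by
    intro H hH hPH h hh y hy
    have hlt : Nat.card H < N := by
      rw [← hN]
      exact lt_of_le_of_ne (Nat.le_of_dvd Nat.card_pos H.card_subgroup_dvd_card)
        fun e => hH (Subgroup.eq_top_of_card_eq H e)
    have hn' := ih _ hlt H rfl (Odd.of_dvd_nat hodd H.card_subgroup_dvd_card) n r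
      (ρ.comp H.subtype) (hρ.comp H.subtype_injective) hn
      ((by rw [← hx]; exact (orderOf_dvd_natCard (⟨x, hPH hxP⟩ : H)).trans dvd_rfl |>
        fun e => by rwa [Subgroup.orderOf_mk] at e : r ∣ Nat.card H)) (P.subtype hPH)
    have := hn'.conj_mem ⟨y, hPH hy⟩ hy ⟨h, hh⟩
    exact this
  have hti : ∀ c ∈ C, c ∉ Subgroup.center G → ∀ g : G, g * c * g⁻¹ ∈ C →
      g ∈ Subgroup.normalizer (C : Set G) := by
    intro c hc hcz g hgc
    refine hnorm g fun y hy => ?_
    set c' := g * c * g⁻¹ with hc'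
    set H : Subgroup G := Subgroup.centralizer ({c'} : Set G) with hHdef
    have hPH : (P : Subgroup G) ≤ H := fun y hy =>
      Subgroup.mem_centralizer_singleton_iff.2 (hcomm y (hPC hy) c' hgc)
    have hH : H ≠ ⊤ := by
      intro h
      apply hcz
      rw [Subgroup.mem_center_iff]
      intro a
      have h1 : g * a * g⁻¹ ∈ H := by rw [h]; exact Subgroup.mem_top _
      rw [hHdef, Subgroup.mem_centralizer_singleton_iff, hc'] at h1
      exact mul_left_cancel (a := g) (mul_right_cancel (b := g⁻¹) (by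
        calc g * (a * c) * g⁻¹ = g * a * g⁻¹ * (g * c * g⁻¹) := by group
          _ = g * c * g⁻¹ * (g * a * g⁻¹) := h1
          _ = g * (c * a) * g⁻¹ := by group))
    have hgy : g * y * g⁻¹ ∈ H := by
      rw [hHdef, Subgroup.mem_centralizer_singleton_iff, hc']
      calc g * y * g⁻¹ * (g * c * g⁻¹) = g * (y * c) * g⁻¹ := by group
        _ = g * (c * y) * g⁻¹ := by rw [hcomm y (hPC hy) c hc]
        _ = g * c * g⁻¹ * (g * y * g⁻¹) := by group
    -- an `r`-element of `H` lies in the normal Sylow subgroup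
    haveI : ((P.subtype hPH : Sylow r H) : Subgroup H).Normal := ⟨fun a ha b =>
      hsmall H hH hPH b b.2 a ha⟩
    have hpg : IsPGroup r (Subgroup.zpowers (⟨g * y * g⁻¹, hgy⟩ : H)) := by
      obtain ⟨a, ha⟩ := P.isPGroup'.exists_card_eq
      refine IsPGroup.of_card (n := (orderOf (⟨g * y * g⁻¹, hgy⟩ : H)).factorization r) ?_
      rw [Nat.card_zpowers]
      have hd : orderOf (⟨g * y * g⁻¹, hgy⟩ : H) ∣ r ^ a := by
        refine orderOf_dvd_of_pow_eq_one (Subtype.ext ?_)
        have := congrArg Subtype.val (pow_card_eq_one' (G := (P : Subgroup G)) (x := ⟨y, hy⟩))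
        rw [← ha]
        push_cast at this ⊢
        rw [conj_pow, this]
        group
      obtain ⟨b, -, hb⟩ := (Nat.dvd_prime_pow hp).1 hd
      rw [hb, hp.factorization_pow, Finsupp.single_eq_same]
    obtain ⟨Q, hQ⟩ := hpg.exists_le_sylow
    haveI := Sylow.unique_of_normal (P.subtype hPH) inferInstance
    have h1 : (⟨g * y * g⁻¹, hgy⟩ : H) ∈ ((P.subtype hPH : Sylow r H) : Subgroup H) := by
      rw [Subsingleton.elim (P.subtype hPH) Q]
      exact hQ (Subgroup.mem_zpowers _)
    exact h1
  have hH : H66.OddLin.Hyp C (P : Subgroup G) x r :=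
    { prime := hp
      odd := hodd
      comm := hcomm
      le := hPC
      mem := hxP
      ord := hx
      cardR := P.isPGroup'.exists_card_eq
      cop := hrR
      sylR := hsylR
      tors := fun c hc h => S.tors ((hmemC c).1 hc) h
      cent := hcent
      ti := hti
      normR := fun g hg y hy => by
        refine hsylR _ ((Subgroup.mem_normalizer_iff.1 hg y).1 (hPC hy)) ?_
        have := congrArg Subtype.val (pow_card_eq_one' (G := (P : Subgroup G)) (x := ⟨y, hy⟩))
        push_cast at this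
        rw [conj_pow, this]
        group
      kerR := by
        intro χ hχ
        obtain ⟨m, σ, hσ, he⟩ := χ.2
        have hker : ∀ g : G, (χ : G → ℂ) g = (χ : G → ℂ) 1 → σ g = 1 := by
          intro g hg
          rw [← he, Representation.char_one] at hg
          exact (H12.character_eq_finrank_iff σ g).1 hg
        let K : Subgroup G :=
          { carrier := {g | σ g = 1}
            one_mem' := map_one σ
            mul_mem' := fun {a b} ha hb => show σ (a * b) = 1 by rw [map_mul, ha, hb, one_mul]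
            inv_mem' := fun {a} ha => show σ a⁻¹ = 1 by
              have h : σ a * σ a⁻¹ = 1 := by rw [← map_mul, mul_inv_cancel, map_one]
              rwa [show σ a = 1 from ha, one_mul] at h }
        haveI hK : K.Normal := ⟨fun a ha g => show σ (g * a * g⁻¹) = 1 by
          rw [map_mul, map_mul, show σ a = 1 from ha, mul_one, ← map_mul, mul_inv_cancel, map_one]⟩
        have hPK : (P : Subgroup G) ≤ K := fun y hy => hker y (hχ y hy)
        have hKtop : K = ⊤ := by
          by_contra hKne
          apply hPn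
          haveI : ((P.subtype hPK : Sylow r K) : Subgroup K).Normal :=
            ⟨fun a ha b => hsmall K hKne hPK b b.2 a ha⟩
          haveI := (P.subtype hPK).characteristic_of_normal inferInstance
          have hmap : ((P.subtype hPK : Sylow r K) : Subgroup K).map K.subtype =
              (P : Subgroup G) := by
            rw [Sylow.coe_subtype, Subgroup.map_subgroupOf_eq_of_le hPK]
          rw [← hmap]
          infer_instance
        have hconst : ∀ g, (χ : G → ℂ) g = (χ : G → ℂ) 1 := by
          intro g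
          have hg : σ g = 1 := show g ∈ K by rw [hKtop]; exact Subgroup.mem_top g
          rw [← he, Representation.char_one]
          exact (H12.character_eq_finrank_iff σ g).2 hg
        by_contra hne
        have h1 := H12.classInner_irr_ne (χ := χ) (ψ := H12.oneIrr G)
          fun e => hne (by rw [e]; rfl)
        rw [H12.classInner_def] at h1
        simp only [hconst, H12.oneIrr_apply, map_one, mul_one, Finset.sum_const, Finset.card_univ,
          nsmul_eq_mul, ← Nat.card_eq_fintype_card] at h1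
        rw [← mul_assoc, inv_mul_cancel₀ H12.card_ne_zero', one_mul] at h1
        exact H12.irr_apply_one_ne_zero χ h1
      ne_top := hne_top }
  -- the eigenvalues over `ℂ`
  letI : Fintype C := Fintype.ofFinite C
  letI : Fintype (C →* ℂˣ) := Fintype.ofFinite _
  have hr1 : n ∣ r - 1 := by
    rw [← hn]
    refine orderOf_dvd_of_pow_eq_one (ZMod.pow_card_sub_one_eq_one ?_)
    intro h2
    have h3 : r ∣ 2 := (ZMod.natCast_eq_zero_iff 2 r).1 (by exact_mod_cast h2)
    have h4 := (Nat.prime_dvd_prime_iff_eq hp Nat.prime_two).1 h3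
    obtain ⟨i, hi⟩ := hH.r_odd
    omega
  have hrodd : Odd r := hH.r_odd
  have hζr : ∀ i : ℕ, (S.ζ ^ (2 ^ i)) ^ r = 1 := fun i => by
    rw [← pow_mul, mul_comm, pow_mul, S.prim.pow_eq_one, one_pow]
  have hζu : ∀ i : ℕ, IsPrimitiveRoot (S.ζ ^ (2 ^ i)) r := fun i =>
    S.prim.pow_of_coprime _ (Nat.Coprime.pow_left i (Nat.coprime_two_left.2 hrodd))
  let ev : Fin n → ℂˣ := fun i => ((hζu i).isUnit hp.ne_zero).unit
  refine H66.OddLin.EigData.false (hH := hH) (n := n)
    { pos := S.pos
      dvd := hr1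
      ch := S.ch
      ev := ev
      ev_ne := fun i h => (hζu i).ne_one hp.one_lt (congrArg Units.val h)
      ev_inj := ?_
      hit := ?_
      deg_le := fun i => S.degree_le i
      deg_eq := fun i j => (S.degree_const i).trans (S.degree_const j).symm
      lin := S.comm_of_linear }
  · intro i j h
    have h1 : S.ζ ^ (2 ^ (i : ℕ)) = S.ζ ^ (2 ^ (j : ℕ)) := congrArg Units.val h
    have hu := S.prim.isUnit hp.ne_zero
    refine Fin.ext (S.two_pow_mod i.2 j.2 ?_)
    rw [S.prim.eq_orderOf, ← hu.unit_spec, orderOf_units]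
    exact pow_eq_pow_iff_modEq.1 (Units.ext (by simpa using h1))
  · intro i
    by_contra hno
    apply S.hit i
    have hxj : ∀ j : ℕ, (S.ch i : G → ℂ) (x⁻¹ ^ j) =
        ∑ θ : C →* ℂˣ, (H66.OddLin.mult (S.ch i) θ : ℂ) *
          (((θ ⟨x, hPC hxP⟩ : ℂˣ) : ℂ)⁻¹) ^ j := by
      intro j
      have h1 := hH.res_eq (S.ch i) ((⟨x, hPC hxP⟩ : C)⁻¹ ^ j)
      rw [Subgroup.coe_pow, Subgroup.coe_inv] at h1
      refine h1.trans ?_
      refine Finset.sum_congr (by ext θ; simp) fun θ _ => ?_
      simp only [H13.TI.lf, map_pow, map_inv, Units.val_pow_eq_pow_val, Units.val_inv_eq_inv_val]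
    simp only [hxj, Finset.mul_sum]
    rw [Finset.sum_comm]
    refine Finset.sum_eq_zero fun θ _ => ?_
    by_cases hm : H66.OddLin.mult (S.ch i) θ = 0
    · simp [hm]
    set t : ℂ := S.ζ ^ (2 ^ (i : ℕ)) * (((θ ⟨x, hPC hxP⟩ : ℂˣ) : ℂ))⁻¹ with ht
    have ht1 : t ≠ 1 := by
      intro h1
      refine hno ⟨θ, Units.ext ?_, hm⟩
      have := mul_inv_eq_one₀ (Units.ne_zero (θ ⟨x, hPC hxP⟩)) |>.1 h1
      exact this.symm
    have htr : t ^ r = 1 := by
      have hθ : ((θ ⟨x, hPC hxP⟩ : ℂˣ) : ℂ) ^ r = 1 := by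
        rw [← Units.val_pow_eq_pow_val, ← map_pow,
          show (⟨x, hPC hxP⟩ : C) ^ r = 1 from Subtype.ext (by
            rw [Subgroup.coe_pow, ← hx, pow_orderOf_eq_one, Subgroup.coe_one]), map_one,
          Units.val_one]
      rw [ht, mul_pow, hζr, inv_pow, hθ, inv_one, one_mul]
    calc ∑ j ∈ Finset.range r, (S.ζ ^ (2 ^ (i : ℕ))) ^ j * ((H66.OddLin.mult (S.ch i) θ : ℂ) *
          (((θ ⟨x, hPC hxP⟩ : ℂˣ) : ℂ))⁻¹ ^ j)
        = (H66.OddLin.mult (S.ch i) θ : ℂ) * ∑ j ∈ Finset.range r, t ^ j := by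
          rw [Finset.mul_sum]
          refine Finset.sum_congr rfl fun j _ => ?_
          rw [ht, mul_pow]
          ring
      _ = 0 := by rw [geom_sum_eq ht1, htr, sub_self, zero_div, mul_zero]

/-- A Sylow subgroup of an odd order subgroup of `GL(n, 2)` for a primitive prime divisor of
`2 ^ n - 1` is normal. -/
theorem sylow_normal {G : Type u} [Group G] [Finite G] (hodd : Odd (Nat.card G)) {n r : ℕ}
    [Fact r.Prime] (ρ : G →* Matrix (Fin n) (Fin n) (ZMod 2)) (hρ : Function.Injective ρ)
    (hn : orderOf (2 : ZMod r) = n) (hdvd : r ∣ Nat.card G) (P : Sylow r G) :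
    (P : Subgroup G).Normal :=
  sylow_normal_aux _ G rfl hodd n r ρ hρ hn hdvd P

end H66.OddLinear
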