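import Cfsg.Agent.H13.TIExceptional
import Cfsg.Agent.H12.Integral
import Cfsg.Agent.H25.Galois

/-!
# Odd order groups with an abelian self-centralising Sylow subgroup and small faithful degree

The character-theoretic core of: an odd order subgroup of `GL(n, 2)` of order divisible by a
primitive prime divisor of `2 ^ n - 1` has a normal Sylow subgroup for that prime.
-/

set_option autoImplicit false
set_option linter.unusedSectionVars false

open Cfsg
open scoped ComplexConjugate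

namespace H66.OddLin

open H13.TI (tw lf ind Rel nn)

universe u

variable {G : Type u} [Group G] [Fintype G]

/-- The local situation. -/
structure Hyp (C R : Subgroup G) (x : G) (r : ℕ) : Prop where
  prime : r.Prime
  odd : Odd (Nat.card G)
  comm : ∀ a ∈ C, ∀ b ∈ C, a * b = b * a
  le : R ≤ C
  mem : x ∈ R
  ord : orderOf x = r
  cardR : ∃ a : ℕ, Nat.card R = r ^ a
  cop : ¬ r ∣ Nat.card C / Nat.card R
  sylR : ∀ c ∈ C, c ^ Nat.card R = 1 → c ∈ R
  tors : ∀ c ∈ C, c ^ r = 1 → c ∈ Subgroup.zpowers x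
  cent : ∀ y ∈ R, y ≠ 1 → ∀ g : G, g * y = y * g → g ∈ C
  ti : ∀ c ∈ C, c ∉ Subgroup.center G → ∀ g : G, g * c * g⁻¹ ∈ C →
    g ∈ Subgroup.normalizer (C : Set G)
  normR : ∀ g ∈ Subgroup.normalizer (C : Set G), ∀ y ∈ R, g * y * g⁻¹ ∈ R
  kerR : ∀ χ : IrrCharacter G, (∀ y ∈ R, (χ : G → ℂ) y = (χ : G → ℂ) 1) →
    (χ : G → ℂ) = fun _ => 1
  ne_top : ∃ g : G, g ∉ C

variable {C R : Subgroup G} {x : G} {r : ℕ}

local notation "N" => Subgroup.normalizer (C : Set G)

attribute [local instance] H13.TI.fintypeNormalizer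

noncomputable local instance : Fintype C := Fintype.ofFinite C

instance finite_dual : Finite (C →* ℂˣ) := Nat.finite_of_card_ne_zero (by
  rw [H12.card_monoidHom_units]
  exact Subgroup.index_ne_zero_of_finite)

noncomputable local instance : Fintype (C →* ℂˣ) := Fintype.ofFinite _

/-- Nontrivial on `R`. -/
def Good (R : Subgroup G) (θ : C →* ℂˣ) : Prop := ∃ c : C, (c : G) ∈ R ∧ θ c ≠ 1

/-- Equal on the centre. -/
def Same (θ φ : C →* ℂˣ) : Prop := ∀ c : C, (c : G) ∈ Subgroup.center G → θ c = φ c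

theorem Hyp.x_ne (h : Hyp C R x r) : x ≠ 1 := by
  rintro rfl
  exact h.prime.ne_one (h.ord.symm.trans orderOf_one)

theorem Hyp.center_le (h : Hyp C R x r) : Subgroup.center G ≤ C := fun z hz =>
  h.cent x h.mem h.x_ne z (Subgroup.mem_center_iff.1 hz x).symm

theorem Hyp.center_R (h : Hyp C R x r) {y : G} (hy : y ∈ R) (hz : y ∈ Subgroup.center G) :
    y = 1 := by
  by_contra h1
  obtain ⟨g, hg⟩ := h.ne_top
  exact hg (h.cent y hy h1 g (Subgroup.mem_center_iff.1 hz g))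

theorem Hyp.odd_of_dvd (h : Hyp C R x r) {k : ℕ} (hk : k ∣ Nat.card G) : Odd k :=
  Odd.of_dvd_nat h.odd hk

theorem Hyp.r_odd (h : Hyp C R x r) : Odd r :=
  h.odd_of_dvd (by rw [← h.ord]; exact orderOf_dvd_natCard x)

theorem same_refl (θ : C →* ℂˣ) : Same θ θ := fun _ _ => rfl

theorem Same.symm {θ φ : C →* ℂˣ} (h : Same θ φ) : Same φ θ := fun c hc => (h c hc).symm

theorem Same.trans {θ φ ψ : C →* ℂˣ} (h : Same θ φ) (h' : Same φ ψ) : Same θ ψ :=
  fun c hc => (h c hc).trans (h' c hc)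

theorem tw_central (g : N) (θ : C →* ℂˣ) (c : C) (hc : (c : G) ∈ Subgroup.center G) :
    tw C g θ c = θ c := by
  rw [H13.TI.tw_apply]
  congr 1
  apply Subtype.ext
  rw [H13.TI.cj_coe, Subgroup.mem_center_iff.1 hc (g : G)]
  group

theorem same_of_rel {θ φ : C →* ℂˣ} (h : Rel C θ φ) : Same θ φ := by
  obtain ⟨g, rfl⟩ := h
  exact fun c hc => (tw_central g θ c hc).symm

theorem Hyp.good_of_rel (hH : Hyp C R x r) {θ φ : C →* ℂˣ} (h : Rel C θ φ) (hg : Good R θ) :
    Good R φ := by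
  obtain ⟨g, rfl⟩ := h
  obtain ⟨c, hc, hc1⟩ := hg
  refine ⟨⟨(g : G)⁻¹ * c * (g : G), ?_⟩, ?_, ?_⟩
  · simpa using H13.TI.conj_mem C (inv_mem g.2) c.2
  · simpa using hH.normR _ (inv_mem g.2) _ hc
  · rw [H13.TI.tw_apply]
    convert hc1 using 3
    apply Subtype.ext
    rw [H13.TI.cj_coe]
    group

theorem Hyp.good_of_x (hH : Hyp C R x r) {θ : C →* ℂˣ} (hθ : θ ⟨x, hH.le hH.mem⟩ ≠ 1) :
    Good R θ := ⟨_, hH.mem, hθ⟩

/-- The stabiliser of a good character. -/
theorem Hyp.free (hH : Hyp C R x r) (g : N) {θ : C →* ℂˣ} (hθ : Good R θ)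
    (hg : tw C g θ = θ) : (g : G) ∈ C := by
  classical
  by_contra hgC
  obtain ⟨c, hc, hc1⟩ := hθ
  apply hc1
  let f : R → R := fun y => ⟨(y : G)⁻¹ * ((g : G) * y * (g : G)⁻¹),
    mul_mem (inv_mem y.2) (hH.normR _ g.2 _ y.2)⟩
  have hinj : Function.Injective f := by
    intro a b hab
    have e : (a : G)⁻¹ * ((g : G) * a * (g : G)⁻¹) = (b : G)⁻¹ * ((g : G) * b * (g : G)⁻¹) :=
      congrArg Subtype.val hab
    by_contra hne
    have hne' : (b : G) * (a : G)⁻¹ ≠ 1 := fun h => hne (Subtype.ext (mul_inv_eq_one.1 h).symm)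
    refine hgC (hH.cent _ (mul_mem b.2 (inv_mem a.2)) hne' g ?_)
    have e2 : (g : G) * a * (g : G)⁻¹ = (a : G) * ((b : G)⁻¹ * ((g : G) * b * (g : G)⁻¹)) := by
      rw [← e]; group
    have e3 : ((a : G) * (b : G)⁻¹) = (b : G)⁻¹ * (a : G) :=
      hH.comm _ (hH.le a.2) _ (inv_mem (hH.le b.2))
    have e4 : (g : G) * ((a : G) * (b : G)⁻¹) * (g : G)⁻¹ = (a : G) * (b : G)⁻¹ := by
      rw [show (g : G) * ((a : G) * (b : G)⁻¹) * (g : G)⁻¹ =
        ((g : G) * a * (g : G)⁻¹) * ((g : G) * b * (g : G)⁻¹)⁻¹ by group, e2]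
      group
    have e5 : (g : G) * ((a : G) * (b : G)⁻¹) = (a : G) * (b : G)⁻¹ * (g : G) := by
      rwa [← mul_inv_eq_iff_eq_mul]
    rw [show (b : G) * (a : G)⁻¹ = ((a : G) * (b : G)⁻¹)⁻¹ by group]
    exact (Commute.inv_right (show Commute (g : G) _ from e5)).eq
  obtain ⟨a, ha⟩ := (Finite.injective_iff_surjective.1 hinj) ⟨c, hc⟩
  have e6 : c = (⟨a, hH.le a.2⟩ : C)⁻¹ * H13.TI.cj C g ⟨a, hH.le a.2⟩ := by
    apply Subtype.ext
    simpa [H13.TI.cj_coe, f] using (congrArg Subtype.val ha).symm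
  rw [e6, map_mul, map_inv, ← H13.TI.tw_apply, hg, inv_mul_cancel]

/-- A conjugate of `x` lies in the group generated by `x`. -/
theorem Hyp.conj_x (hH : Hyp C R x r) (g : N) :
    (g : G) * x * (g : G)⁻¹ ∈ Subgroup.zpowers x := by
  refine hH.tors _ (H13.TI.conj_mem C g.2 (hH.le hH.mem)) ?_
  rw [conj_pow, ← hH.ord, pow_orderOf_eq_one]
  group

theorem Hyp.zpowers_eq_one (hH : Hyp C R x r) {θ : C →* ℂˣ}
    (hθ : θ ⟨x, hH.le hH.mem⟩ ≠ 1) {y : C} (hy : (y : G) ∈ Subgroup.zpowers x)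
    (h : θ y = 1) : y = 1 := by
  obtain ⟨k, hk⟩ := Subgroup.mem_zpowers_iff.1 hy
  have e : y = (⟨x, hH.le hH.mem⟩ : C) ^ k := Subtype.ext (by simp [hk])
  rw [e, map_zpow] at h
  have h1 : (orderOf (θ ⟨x, hH.le hH.mem⟩) : ℤ) ∣ k := orderOf_dvd_iff_zpow_eq_one.2 h
  have h2 : orderOf (θ ⟨x, hH.le hH.mem⟩) = r := by
    have h3 : orderOf (θ ⟨x, hH.le hH.mem⟩) ∣ r := by
      refine (orderOf_map_dvd θ _).trans ?_
      rw [← Subgroup.orderOf_coe]
      exact hH.ord.dvd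
    rcases (Nat.dvd_prime hH.prime).1 h3 with h4 | h4
    · exact absurd (orderOf_eq_one_iff.1 h4) hθ
    · exact h4
  rw [h2, ← hH.ord] at h1
  apply Subtype.ext
  rw [← hk]
  exact orderOf_dvd_iff_zpow_eq_one.1 h1

theorem Hyp.tw_apply_x_inj (hH : Hyp C R x r) {θ : C →* ℂˣ}
    (hθ : θ ⟨x, hH.le hH.mem⟩ ≠ 1) (g : N)
    (he : tw C g θ ⟨x, hH.le hH.mem⟩ = θ ⟨x, hH.le hH.mem⟩) : tw C g θ = θ := by
  set x' : C := ⟨x, hH.le hH.mem⟩
  have h1 : H13.TI.cj C g x' * x'⁻¹ = 1 := by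
    refine hH.zpowers_eq_one hθ ?_ ?_
    · push_cast
      exact mul_mem (hH.conj_x g) (inv_mem (Subgroup.mem_zpowers x))
    · rw [map_mul, map_inv, ← H13.TI.tw_apply, he, mul_inv_cancel]
  have h2 : (g : G) * x * (g : G)⁻¹ = x := congrArg Subtype.val (mul_inv_eq_one.1 h1)
  exact H13.TI.tw_of_mem C g (hH.cent x hH.mem hH.x_ne g (mul_inv_eq_iff_eq_mul.1 h2)) θ

theorem Hyp.tw_apply_x_not_inv (hH : Hyp C R x r) {θ : C →* ℂˣ}
    (hθ : θ ⟨x, hH.le hH.mem⟩ ≠ 1) (g : N) :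
    tw C g θ ⟨x, hH.le hH.mem⟩ * θ ⟨x, hH.le hH.mem⟩ ≠ 1 := by
  set x' : C := ⟨x, hH.le hH.mem⟩
  intro he
  have h1 : H13.TI.cj C g x' * x' = 1 := by
    refine hH.zpowers_eq_one hθ ?_ ?_
    · push_cast
      exact mul_mem (hH.conj_x g) (Subgroup.mem_zpowers x)
    · rw [map_mul, ← H13.TI.tw_apply, he]
  have h2 : (g : G) * x * (g : G)⁻¹ = x⁻¹ :=
    mul_eq_one_iff_eq_inv.1 (congrArg Subtype.val h1)
  have h3 : ((g : G) ^ 2) * x * ((g : G) ^ 2)⁻¹ = x := by
    rw [pow_two, show ((g : G) * g) * x * ((g : G) * g)⁻¹ =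
      (g : G) * ((g : G) * x * (g : G)⁻¹) * (g : G)⁻¹ by group, h2,
      show (g : G) * x⁻¹ * (g : G)⁻¹ = ((g : G) * x * (g : G)⁻¹)⁻¹ by group, h2, inv_inv]
  have h4 : Commute ((g : G) ^ 2) x := mul_inv_eq_iff_eq_mul.1 h3
  obtain ⟨k, hk⟩ := hH.odd_of_dvd (orderOf_dvd_natCard (g : G))
  have h5 : ((g : G) ^ 2) ^ (k + 1) = g := by
    rw [← pow_mul, show 2 * (k + 1) = (2 * k + 1) + 1 by ring, pow_succ, ← hk,
      pow_orderOf_eq_one, one_mul]
  have h6 : Commute (g : G) x := h5 ▸ h4.pow_left _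
  rw [h6.eq, mul_inv_cancel_right] at h2
  have h7 : orderOf x ∣ 2 :=
    orderOf_dvd_of_pow_eq_one (by rw [pow_two]; nth_rw 1 [h2]; exact inv_mul_cancel x)
  rw [hH.ord] at h7
  obtain ⟨j, hj⟩ := hH.r_odd
  have := Nat.le_of_dvd two_pos h7
  have := hH.prime.two_le
  omega

theorem Hyp.tw_sq_inj (hH : Hyp C R x r) {θ φ : C →* ℂˣ} (h : θ ^ 2 = φ ^ 2) : θ = φ := by
  refine MonoidHom.ext fun c => ?_
  obtain ⟨k, hk⟩ := hH.odd_of_dvd (orderOf_dvd_natCard (c : G))
  have hc : c = (c ^ (k + 1)) ^ 2 := by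
    rw [← pow_mul, show (k + 1) * 2 = (2 * k + 1) + 1 by ring, pow_succ]
    rw [← hk, Subgroup.orderOf_coe, pow_orderOf_eq_one, one_mul]
  have h' : θ ((c ^ (k + 1)) ^ 2) = φ ((c ^ (k + 1)) ^ 2) := by
    rw [map_pow θ, map_pow φ]
    exact DFunLike.congr_fun h (c ^ (k + 1))
  rwa [← hc] at h'

/-! ### The isometry -/

theorem Hyp.ind_sub_apply (hH : Hyp C R x r) {θ φ : C →* ℂˣ} (hs : Same θ φ) (c : C) :
    ind θ (c : G) - ind φ (c : G) =
      (Nat.card C : ℂ)⁻¹ * ∑ g : N, (lf (tw C g θ) c - lf (tw C g φ) c) := by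
  classical
  by_cases hz : (c : G) ∈ Subgroup.center G
  · have h1 : ∀ g : N, lf (tw C g θ) c = lf (tw C g φ) c := fun g => by
      show ((tw C g θ c : ℂˣ) : ℂ) = (tw C g φ c : ℂˣ)
      rw [tw_central g θ c hz, tw_central g φ c hz, hs c hz]
    have h2 : ∀ θ : C →* ℂˣ, ind θ (c : G) = (Nat.card C : ℂ)⁻¹ * ∑ _g : G, (θ c : ℂ) := by
      intro θ
      simp only [ind, H12.indFun_apply]
      congr 1
      refine Finset.sum_congr rfl fun g _ => ?_
      have e : g⁻¹ * (c : G) * g = c := by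
        rw [Subgroup.mem_center_iff.1 hz g⁻¹]
        group
      rw [e, H12.extendByZero_coe]
      rfl
    rw [h2, h2, hs c hz, sub_self]
    simp [h1]
  have key : ∀ θ : C →* ℂˣ,
      ind θ (c : G) = (Nat.card C : ℂ)⁻¹ * ∑ g : N, lf (tw C g θ) c := by
    intro θ
    simp only [ind, H12.indFun_apply]
    congr 1
    rw [← Fintype.sum_equiv (Equiv.inv G) _ _ (fun g => rfl)]
    simp only [Equiv.inv_apply, inv_inv]
    rw [← Finset.sum_subset (s₁ := (Finset.univ.filter fun g : G => g ∈ N)) (Finset.subset_univ _)]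
    · refine (Finset.sum_subtype _ (fun g => by simp) _).trans
        (Finset.sum_congr rfl fun g _ => ?_)
      rw [H12.extendByZero_mk C _ (H13.TI.conj_mem C g.2 c.2)]
      rfl
    · intro g _ hg
      apply H12.extendByZero_of_notMem
      intro hm
      exact hg (by simpa using hH.ti c c.2 hz g hm)
  rw [key θ, key φ, ← mul_sub, Finset.sum_sub_distrib]

theorem Hyp.isometry (hH : Hyp C R x r) (θ θ' : C →* ℂˣ) {φ φ' : C →* ℂˣ} (hs : Same φ φ') :
    classInner (ind θ - ind θ') (ind φ - ind φ') =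
      (nn θ φ - nn θ φ') - (nn θ' φ - nn θ' φ') := by
  classical
  have key : ∀ a : C →* ℂˣ, classInner (ind a) (ind φ - ind φ') =
      classInner (lf a) (fun c : C => (ind φ - ind φ') (c : G)) := fun a =>
    H12.classInner_indFun C _ (H12.IsClassFunction.sub (H13.TI.ind_isClassFunction φ)
      (H13.TI.ind_isClassFunction φ'))
  have hres : (fun c : C => (ind φ - ind φ') (c : G))
      = (Nat.card C : ℂ)⁻¹ • ∑ g : N, (lf (tw C g φ) - lf (tw C g φ')) := by
    funext c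
    rw [Pi.sub_apply, hH.ind_sub_apply hs, Pi.smul_apply, Finset.sum_apply, smul_eq_mul]
    rfl
  rw [H12.classInner_sub_left, key, key, hres, H12.classInner_smul_right,
    H12.classInner_smul_right, map_inv₀, Complex.conj_natCast, H12.classInner_sum_right,
    H12.classInner_sum_right]
  simp only [H12.classInner_sub_right, H13.TI.lf_inner, Finset.sum_sub_distrib, mul_sub,
    H13.TI.nn_eq, eq_comm (a := θ), eq_comm (a := θ')]

open scoped Classical in
/-- The orbit of a character. -/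
noncomputable def orb (θ : C →* ℂˣ) : Finset (C →* ℂˣ) := Finset.univ.filter fun φ => Rel C θ φ

theorem mem_orb {θ φ : C →* ℂˣ} : φ ∈ orb θ ↔ Rel C θ φ := by
  classical simp [orb]

theorem orb_eq {θ φ : C →* ℂˣ} (h : Rel C θ φ) : orb φ = orb θ := by
  ext a
  rw [mem_orb, mem_orb]
  exact ⟨H13.TI.rel_trans C h, H13.TI.rel_trans C (H13.TI.rel_symm C h)⟩

theorem self_mem_orb (θ : C →* ℂˣ) : θ ∈ orb θ := mem_orb.2 (H13.TI.rel_refl C θ)

theorem Hyp.card_stab (hH : Hyp C R x r) {φ : C →* ℂˣ} (hφ : Good R φ) {θ : C →* ℂˣ}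
    (h : Rel C φ θ) : Nat.card {g : N // tw C g φ = θ} = Nat.card C := by
  obtain ⟨y, rfl⟩ := h
  refine (Nat.card_congr (Equiv.ofBijective
    (fun c : C => (⟨(⟨c, Subgroup.le_normalizer c.2⟩ : N) * y, by
      rw [H13.TI.tw_mul, H13.TI.tw_of_mem C ⟨(c : G), Subgroup.le_normalizer c.2⟩ c.2]⟩ :
        {g : N // tw C g φ = tw C y φ})) ⟨?_, ?_⟩)).symm
  · intro a b hab
    have e := congrArg (fun z : {g : N // tw C g φ = tw C y φ} => ((z.1 : N) : G)) hab
    exact Subtype.ext (mul_right_cancel (b := (y : G)) e)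
  · rintro ⟨g, hg⟩
    have h2 : tw C (g * y⁻¹) φ = φ := by
      rw [H13.TI.tw_mul, hg, ← H13.TI.tw_mul, mul_inv_cancel, H13.TI.tw_one]
    exact ⟨⟨_, hH.free _ hφ h2⟩, Subtype.ext (Subtype.ext (by simp))⟩

theorem Hyp.nn_rel (hH : Hyp C R x r) {θ φ : C →* ℂˣ} (hφ : Good R φ) (h : Rel C φ θ) :
    nn θ φ = 1 := by
  classical
  rw [H13.TI.nn_eq, Finset.sum_boole, ← Fintype.card_subtype, ← Nat.card_eq_fintype_card,
    hH.card_stab hφ h, inv_mul_cancel₀ (Nat.cast_ne_zero.2 Nat.card_pos.ne')]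

theorem Hyp.card_orb_mul (hH : Hyp C R x r) {φ : C →* ℂˣ} (hφ : Good R φ) :
    (orb φ).card * Nat.card C = Nat.card N := by
  classical
  have h := Finset.card_eq_sum_card_fiberwise (f := fun g : N => tw C g φ)
    (s := (Finset.univ : Finset N)) (t := orb φ) (fun g _ => mem_orb.2 ⟨g, rfl⟩)
  rw [Finset.sum_congr rfl (g := fun _ => Nat.card C), Finset.sum_const, smul_eq_mul,
    Finset.card_univ, ← Nat.card_eq_fintype_card] at h
  · exact h.symm
  · intro θ hθ
    rw [← Fintype.card_subtype, ← Nat.card_eq_fintype_card]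
    exact hH.card_stab hφ (mem_orb.1 hθ)

theorem Hyp.card_orb (hH : Hyp C R x r) {φ ψ : C →* ℂˣ} (hφ : Good R φ) (hψ : Good R ψ) :
    (orb φ).card = (orb ψ).card :=
  mul_right_cancel₀ Nat.card_pos.ne' ((hH.card_orb_mul hφ).trans (hH.card_orb_mul hψ).symm)

/-! ### Multiplicities -/

theorem Hyp.exists_mult (f : G → ℂ) (hf : IsCharacter G f) (θ : C →* ℂˣ) :
    ∃ n : ℕ, classInner (fun c : C => f c) (lf θ) = n :=
  H12.IsCharacter.classInner_nat (H12.IsCharacter.res hf C) (H12.isCharacter_monoidHom θ)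

/-- The multiplicity of `θ` in the restriction of `χ`. -/
noncomputable def mult (χ : IrrCharacter G) (θ : C →* ℂˣ) : ℕ :=
  (Hyp.exists_mult (χ : G → ℂ) (H12.isCharacter_irr χ) θ).choose

theorem mult_spec (χ : IrrCharacter G) (θ : C →* ℂˣ) :
    classInner (fun c : C => (χ : G → ℂ) c) (lf θ) = (mult χ θ : ℂ) :=
  (Hyp.exists_mult (χ : G → ℂ) (H12.isCharacter_irr χ) θ).choose_spec

theorem Hyp.decomp (hH : Hyp C R x r) (f : C → ℂ) (c : C) :
    f c = ∑ θ : C →* ℂˣ, classInner f (lf θ) * lf θ c := by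
  classical
  have hcomm : ∀ a b : C, a * b = b * a := fun a b => Subtype.ext (hH.comm a a.2 b b.2)
  have hf : IsClassFunction C f := fun g h => by rw [hcomm h g, mul_inv_cancel_right]
  rw [H12.classFunction_apply_eq_sum hf c]
  refine (Fintype.sum_equiv (Equiv.ofBijective (H12.linIrr (G := C))
    ⟨H12.linIrr_injective, fun χ => ?_⟩) _ _ fun θ => rfl).symm
  obtain ⟨θ, hθ⟩ := H12.exists_monoidHom_of_apply_one_eq_one (H12.isCharacter_irr χ)
    (H12.irr_apply_one_of_comm hcomm χ)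
  exact ⟨θ, Subtype.ext (funext fun a => by rw [H12.linIrr_apply]; exact congrFun hθ a)⟩

theorem Hyp.parseval (hH : Hyp C R x r) (f f' : C → ℂ) :
    classInner f f' = ∑ θ : C →* ℂˣ, classInner f (lf θ) * conj (classInner f' (lf θ)) := by
  have hf : f = ∑ θ : C →* ℂˣ, classInner f (lf θ) • lf θ := by
    funext c
    simp only [Finset.sum_apply, Pi.smul_apply, smul_eq_mul]
    exact hH.decomp f c
  conv_lhs => rw [hf, H12.classInner_sum_left]
  simp only [H12.classInner_smul_left, H12.conj_classInner]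

theorem Hyp.res_eq (hH : Hyp C R x r) (χ : IrrCharacter G) (c : C) :
    (χ : G → ℂ) c = ∑ θ : C →* ℂˣ, (mult χ θ : ℂ) * lf θ c := by
  refine (hH.decomp (fun c : C => (χ : G → ℂ) c) c).trans (Finset.sum_congr rfl fun θ _ => ?_)
  rw [mult_spec]

theorem Hyp.degree_eq (hH : Hyp C R x r) (χ : IrrCharacter G) :
    H12.degree (χ : G → ℂ) = ∑ θ : C →* ℂˣ, mult χ θ := by
  have h := hH.res_eq χ 1
  rw [OneMemClass.coe_one, H12.irr_apply_one] at h
  simp only [H13.TI.lf_one_apply, mul_one] at h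
  exact_mod_cast h

theorem Hyp.degree_odd (hH : Hyp C R x r) (χ : IrrCharacter G) :
    Odd (H12.degree (χ : G → ℂ)) := hH.odd_of_dvd (H12.irr_degree_dvd_card χ)

theorem mult_rel (χ : IrrCharacter G) {θ φ : C →* ℂˣ} (h : Rel C θ φ) :
    mult χ φ = mult χ θ := by
  have h1 : classInner (ind φ) (χ : G → ℂ) = classInner (ind θ) (χ : G → ℂ) := by
    rw [H13.TI.ind_rel h]
  rw [ind, ind, H12.classInner_indFun C _ (H12.irr_isClassFunction χ),
    H12.classInner_indFun C _ (H12.irr_isClassFunction χ), ← H12.conj_classInner,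
    ← H12.conj_classInner (fun c : C => (χ : G → ℂ) c) (lf θ), mult_spec, mult_spec,
    Complex.conj_natCast, Complex.conj_natCast] at h1
  exact_mod_cast h1

theorem classInner_ind_irr (χ : IrrCharacter G) (θ : C →* ℂˣ) :
    classInner (ind θ) (χ : G → ℂ) = (mult χ θ : ℂ) := by
  rw [ind, H12.classInner_indFun C _ (H12.irr_isClassFunction χ), ← H12.conj_classInner,
    mult_spec, Complex.conj_natCast]

theorem central_value (χ : IrrCharacter G) {z : G} (hz : z ∈ Subgroup.center G) :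
    ∃ a : ℂ, ∀ g : G, (χ : G → ℂ) (z * g) = a * (χ : G → ℂ) g := by
  obtain ⟨n, ρ, hρ, h⟩ := χ.2
  obtain ⟨a, ha⟩ := H12.exists_scalar_of_commute ρ (ρ z) (fun g => by
    rw [← map_mul, ← map_mul, Subgroup.mem_center_iff.1 hz g])
  refine ⟨a, fun g => ?_⟩
  rw [← h]
  simp [Representation.character, map_mul, ha]

theorem Hyp.same_of_mult (hH : Hyp C R x r) (χ : IrrCharacter G) {θ φ : C →* ℂˣ}
    (hθ : mult χ θ ≠ 0) (hφ : mult χ φ ≠ 0) : Same θ φ := by
  intro c hc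
  obtain ⟨a, ha⟩ := central_value χ hc
  have key : ∀ θ : C →* ℂˣ, mult χ θ ≠ 0 → a = lf θ c := by
    intro θ hθ
    have h0 : lf θ c ≠ 0 := Units.ne_zero _
    have h1 : classInner (fun b : C => (χ : G → ℂ) (c * b : C)) (lf θ) =
        a * classInner (fun b : C => (χ : G → ℂ) b) (lf θ) := by
      rw [← H12.classInner_smul_left]
      congr 1
      funext b
      simp [ha]
    have h2 : classInner (fun b : C => (χ : G → ℂ) (c * b : C)) (lf θ) =
        lf θ c * classInner (fun b : C => (χ : G → ℂ) b) (lf θ) := by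
      have e : (fun b : C => (χ : G → ℂ) (c * b : C)) =
          fun b : C => ∑ φ : C →* ℂˣ, ((mult χ φ : ℂ) * lf φ c) * lf φ b := by
        funext b
        rw [hH.res_eq χ (c * b)]
        refine Finset.sum_congr rfl fun φ _ => ?_
        simp [lf, mul_assoc]
      rw [e, mult_spec]
      have e2 : (fun b : C => ∑ φ : C →* ℂˣ, ((mult χ φ : ℂ) * lf φ c) * lf φ b) =
          ∑ φ : C →* ℂˣ, ((mult χ φ : ℂ) * lf φ c) • lf φ := by
        funext b
        simp [Finset.sum_apply]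
      classical
      rw [e2, H12.classInner_sum_left]
      simp only [H12.classInner_smul_left, H13.TI.lf_inner, mul_ite, mul_one, mul_zero]
      rw [Finset.sum_ite_eq' Finset.univ θ, if_pos (Finset.mem_univ _), mul_comm]
    rw [mult_spec] at h1 h2
    exact mul_right_cancel₀ (Nat.cast_ne_zero.2 hθ) (h1.symm.trans h2)
  exact Units.ext ((key θ hθ).symm.trans (key φ hφ))

end H66.OddLin
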