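import Cfsg.Agent.H66.OddLinearChar

/-!
# The counting part of the odd linear group theorem
-/

set_option autoImplicit false
set_option linter.unusedSectionVars false

open Cfsg
open scoped ComplexConjugate

namespace H66.OddLin

open H13.TI (tw lf ind Rel nn)

universe u

variable {G : Type u} [Group G] [Fintype G] {C R : Subgroup G} {x : G} {r : ℕ}

local notation "N" => Subgroup.normalizer (C : Set G)

attribute [local instance] H13.TI.fintypeNormalizer

noncomputable local instance : Fintype C := Fintype.ofFinite C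

noncomputable local instance : Fintype (C →* ℂˣ) := Fintype.ofFinite _

/-! ### The class of a central character -/

open scoped Classical in
/-- The good characters that agree with `θ` on the centre. -/
noncomputable def cls (R : Subgroup G) (θ : C →* ℂˣ) : Finset (C →* ℂˣ) :=
  Finset.univ.filter fun φ => Same θ φ ∧ Good R φ

theorem mem_cls {θ φ : C →* ℂˣ} : φ ∈ cls R θ ↔ Same θ φ ∧ Good R φ := by
  classical simp [cls]

theorem Hyp.card_cls (hH : Hyp C R x r) (θ : C →* ℂˣ) :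
    ∃ q : ℕ, (cls R θ).card = q * (Nat.card R - 1) := by
  classical
  letI : CommGroup C := { (inferInstance : Group C) with
    mul_comm := fun a b => Subtype.ext (hH.comm a a.2 b b.2) }
  obtain ⟨a, ha⟩ := hH.cardR
  have hdvd : Nat.card R ∣ Nat.card C := Subgroup.card_dvd_of_le hH.le
  set qq := Nat.card C / Nat.card R
  have hcop : (Nat.card R).Coprime qq := by
    rw [ha]
    exact Nat.Coprime.pow_left a (hH.prime.coprime_iff_not_dvd.2 hH.cop)
  obtain ⟨j, hj1, hj0⟩ := Nat.chineseRemainder hcop 1 0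
  have hj0' : qq ∣ j := Nat.modEq_zero_iff_dvd.1 hj0
  have hpw : ∀ c : C, c ^ Nat.card C = 1 := fun c => pow_card_eq_one'
  have hmemR : ∀ c : C, ((c ^ j : C) : G) ∈ R := fun c => by
    refine hH.sylR _ (c ^ j).2 ?_
    obtain ⟨t, rfl⟩ := hj0'
    have e : (c ^ (qq * t)) ^ Nat.card R = 1 := by
      rw [← pow_mul, show qq * t * Nat.card R = (Nat.card R * qq) * t by ring,
        Nat.mul_div_cancel' hdvd, pow_mul, hpw, one_pow]
    exact_mod_cast congrArg Subtype.val e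
  let π : C →* R :=
    { toFun := fun c => ⟨((c ^ j : C) : G), hmemR c⟩
      map_one' := by simp
      map_mul' := fun c d => Subtype.ext (by simp [mul_pow]) }
  let ι : R →* C := Subgroup.inclusion hH.le
  have hπι : ∀ y : R, π (ι y) = y := by
    intro y
    apply Subtype.ext
    show ((y : G) ^ j) = (y : G)
    have h1 : j ≡ 1 [MOD orderOf y] := hj1.of_dvd (orderOf_dvd_natCard y)
    have h2 := pow_eq_pow_iff_modEq.2 h1
    rw [pow_one] at h2
    exact_mod_cast congrArg Subtype.val h2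
  have hπZ : ∀ c : C, (c : G) ∈ Subgroup.center G → π c = 1 := by
    intro c hc
    apply Subtype.ext
    exact hH.center_R (π c).2 (by show ((c ^ j : C) : G) ∈ _; push_cast; exact pow_mem hc j)
  set B : Finset (C →* ℂˣ) := Finset.univ.filter fun φ => Same θ φ ∧ ¬ Good R φ with hB
  haveI : Finite (R →* ℂˣ) := Nat.finite_of_card_ne_zero (by
    rw [H12.card_monoidHom_units]
    exact Subgroup.index_ne_zero_of_finite)
  haveI : Fintype (R →* ℂˣ) := Fintype.ofFinite _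
  have hcardR : Fintype.card (R →* ℂˣ) = Nat.card R := by
    rw [← Nat.card_eq_fintype_card, H12.card_monoidHom_units]
    have e : commutator R = ⊥ := by
      rw [commutator_def, Subgroup.commutator_eq_bot_iff_le_centralizer]
      intro g _
      rw [Subgroup.mem_centralizer_iff]
      intro h _
      exact Subtype.ext (hH.comm _ (hH.le h.2) _ (hH.le g.2))
    rw [e, Subgroup.index_bot]
  refine ⟨B.card, ?_⟩
  rw [← hcardR, ← Finset.card_univ (α := R →* ℂˣ),
    ← Finset.card_erase_of_mem (Finset.mem_univ (1 : R →* ℂˣ)), ← Finset.card_product]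
  refine Finset.card_bij'
    (fun φ _ => (φ * ((φ.comp ι).comp π)⁻¹, φ.comp ι)) (fun p _ => p.1 * p.2.comp π) ?_ ?_ ?_ ?_
  · intro φ hφ
    rw [mem_cls] at hφ
    rw [Finset.mem_product, Finset.mem_erase, hB, Finset.mem_filter]
    refine ⟨⟨Finset.mem_univ _, fun c hc => ?_, ?_⟩, ?_, Finset.mem_univ _⟩
    · simp [hπZ c hc, hφ.1 c hc]
    · rintro ⟨c, hc, hc1⟩
      apply hc1
      have e : ι (π c) = c := by
        have h1 : π c = ⟨(c : G), hc⟩ := hπι ⟨(c : G), hc⟩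
        rw [h1]
        rfl
      simp [e]
    · obtain ⟨c, hc, hc1⟩ := hφ.2
      exact fun h => hc1 (DFunLike.congr_fun h ⟨c, hc⟩)
  · intro p hp
    rw [Finset.mem_product, Finset.mem_erase, hB, Finset.mem_filter] at hp
    obtain ⟨⟨-, hs, hng⟩, hne, -⟩ := hp
    rw [mem_cls]
    refine ⟨fun c hc => ?_, ?_⟩
    · simp [hπZ c hc, hs c hc]
    · by_contra hg
      apply hne
      refine MonoidHom.ext fun y => ?_
      by_contra hy
      refine hg ⟨ι y, y.2, ?_⟩
      have h1 : p.1 (ι y) = 1 := by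
        by_contra h2
        exact hng ⟨ι y, y.2, h2⟩
      simpa [h1, hπι] using hy
  · intro φ _
    exact MonoidHom.ext fun c => by simp
  · intro p hp
    rw [Finset.mem_product, hB, Finset.mem_filter] at hp
    obtain ⟨⟨-, -, hng⟩, -⟩ := hp
    have hι : (p.1 * p.2.comp π).comp ι = p.2 := by
      refine MonoidHom.ext fun y => ?_
      have h1 : p.1 (ι y) = 1 := by
        by_contra h2
        exact hng ⟨ι y, y.2, h2⟩
      simp [h1, hπι]
    refine Prod.ext ?_ hι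
    show p.1 * p.2.comp π * (((p.1 * p.2.comp π).comp ι).comp π)⁻¹ = p.1
    rw [hι]
    exact MonoidHom.ext fun c => by simp

theorem Hyp.even_cls (hH : Hyp C R x r) (θ : C →* ℂˣ) : Even (cls R θ).card := by
  obtain ⟨q, hq⟩ := hH.card_cls θ
  obtain ⟨k, hk⟩ := hH.odd_of_dvd R.card_subgroup_dvd_card
  rw [hq]
  exact (Even.mul_left ⟨k, by omega⟩ q)

theorem Hyp.pred_dvd_cls (hH : Hyp C R x r) (θ : C →* ℂˣ) : r - 1 ∣ (cls R θ).card := by
  obtain ⟨q, hq⟩ := hH.card_cls θ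
  obtain ⟨a, ha⟩ := hH.cardR
  rw [hq, ha]
  refine Dvd.dvd.mul_left ?_ q
  simpa using Nat.sub_dvd_pow_sub_pow r 1 a

theorem Hyp.cls_rel (hH : Hyp C R x r) {θ φ ψ : C →* ℂˣ} (h : φ ∈ cls R θ) (hr : Rel C φ ψ) :
    ψ ∈ cls R θ := by
  rw [mem_cls] at h ⊢
  exact ⟨h.1.trans (same_of_rel hr), hH.good_of_rel hr h.2⟩

/-! ### The differences -/

theorem exists_two_support {ι : Type*} [Fintype ι] (z : ι → ℤ) (d : ι → ℕ)
    (hd : ∀ i, 0 < d i) (h2 : ∑ i, z i ^ 2 = 2) (h0 : ∑ i, z i * d i = 0) :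
    ∃ P Q, P ≠ Q ∧ z P = 1 ∧ z Q = -1 ∧ d P = d Q ∧ ∀ i, i ≠ P → i ≠ Q → z i = 0 := by
  classical
  set S := Finset.univ.filter fun i => z i ≠ 0 with hS
  have h1 : ∀ i ∈ S, z i = 1 ∨ z i = -1 := by
    intro i hi
    have h3 : z i ^ 2 ≤ 2 := h2 ▸ Finset.single_le_sum (f := fun i => z i ^ 2)
      (fun j _ => sq_nonneg (z j)) (Finset.mem_univ i)
    have h4 : z i ≠ 0 := (Finset.mem_filter.1 hi).2
    have h5 : z i < 2 := by by_contra; nlinarith
    have h6 : -2 < z i := by by_contra; nlinarith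
    omega
  have hsum2 : ∑ i, z i ^ 2 = ∑ i ∈ S, z i ^ 2 := by
    rw [hS, Finset.sum_filter_of_ne]
    intro i _ hi h
    exact hi (by simp [h])
  have hcard : S.card = 2 := by
    have : ∑ i ∈ S, z i ^ 2 = ∑ _i ∈ S, (1 : ℤ) :=
      Finset.sum_congr rfl fun i hi => by rcases h1 i hi with h | h <;> simp [h]
    rw [← hsum2, h2, Finset.sum_const, nsmul_eq_mul, mul_one] at this
    exact_mod_cast this.symm
  obtain ⟨a, b, hab, hS2⟩ := Finset.card_eq_two.1 hcard
  have hsum : z a * d a + z b * d b = 0 := by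
    rw [← h0, ← Finset.sum_pair (f := fun i => z i * (d i : ℤ)) hab, ← hS2, hS,
      Finset.sum_filter_of_ne]
    intro i _ hi h
    exact hi (by simp [h])
  have hz : ∀ i, i ≠ a → i ≠ b → z i = 0 := by
    intro i hia hib
    by_contra h
    have : i ∈ S := Finset.mem_filter.2 ⟨Finset.mem_univ i, h⟩
    rw [hS2, Finset.mem_insert, Finset.mem_singleton] at this
    tauto
  have := hd a
  have := hd b
  rcases h1 a (by rw [hS2]; simp) with ha | ha <;> rcases h1 b (by rw [hS2]; simp) with hb | hb <;>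
    rw [ha, hb] at hsum
  · omega
  · exact ⟨a, b, hab, ha, hb, by omega, hz⟩
  · exact ⟨b, a, hab.symm, hb, ha, by omega, fun i h h' => hz i h' h⟩
  · omega

/-- The multiplicity difference. -/
noncomputable def dm (χ : IrrCharacter G) (θ φ : C →* ℂˣ) : ℤ :=
  (mult χ θ : ℤ) - (mult χ φ : ℤ)

theorem Hyp.inner_dm (hH : Hyp C R x r) (θ θ' φ φ' : C →* ℂˣ) (hs : Same φ φ') :
    ((∑ χ : IrrCharacter G, dm χ θ θ' * dm χ φ φ' : ℤ) : ℂ) =
      (nn θ φ - nn θ φ') - (nn θ' φ - nn θ' φ') := by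
  rw [← hH.isometry θ θ' hs, H12.classInner_eq_sum_mul
    (H12.IsClassFunction.sub (H13.TI.ind_isClassFunction θ) (H13.TI.ind_isClassFunction θ'))
    (H12.IsClassFunction.sub (H13.TI.ind_isClassFunction φ) (H13.TI.ind_isClassFunction φ'))]
  push_cast
  refine Finset.sum_congr rfl fun χ _ => ?_
  simp [H12.classInner_sub_left, classInner_ind_irr, dm, Complex.conj_natCast]

theorem Hyp.diff (hH : Hyp C R x r) {θ φ : C →* ℂˣ} (hθ : Good R θ) (hφ : Good R φ)
    (hs : Same θ φ) (hnr : ¬ Rel C θ φ) :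
    ∃ P Q : IrrCharacter G, P ≠ Q ∧ dm P θ φ = 1 ∧ dm Q θ φ = -1 ∧
      H12.degree (P : G → ℂ) = H12.degree (Q : G → ℂ) ∧
      ∀ χ, χ ≠ P → χ ≠ Q → dm χ θ φ = 0 := by
  have hnr' : ¬ Rel C φ θ := fun h => hnr (H13.TI.rel_symm C h)
  refine exists_two_support _ _ (fun χ => H12.irr_degree_pos χ) ?_ ?_
  · have h := hH.inner_dm θ φ θ φ hs
    rw [hH.nn_rel hθ (H13.TI.rel_refl C θ), H13.TI.nn_of_not_rel hnr', H13.TI.nn_of_not_rel hnr,
      hH.nn_rel hφ (H13.TI.rel_refl C φ)] at h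
    have h' : ((∑ χ : IrrCharacter G, dm χ θ φ * dm χ θ φ : ℤ) : ℂ) = ((2 : ℤ) : ℂ) := by
      rw [h]; push_cast; ring
    simpa [pow_two] using (Int.cast_injective h')
  · have hc : IsClassFunction G (ind θ - ind φ) :=
      H12.IsClassFunction.sub (H13.TI.ind_isClassFunction θ) (H13.TI.ind_isClassFunction φ)
    have h := H12.classFunction_apply_eq_sum hc 1
    rw [Pi.sub_apply, H13.TI.ind_one_apply, H13.TI.ind_one_apply, sub_self] at h
    have h' : ((∑ χ : IrrCharacter G, dm χ θ φ * (H12.degree (χ : G → ℂ) : ℤ) : ℤ) : ℂ) =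
        ((0 : ℤ) : ℂ) := by
      push_cast
      rw [h]
      refine Finset.sum_congr rfl fun χ _ => ?_
      simp [H12.classInner_sub_left, classInner_ind_irr, dm, H12.irr_apply_one]
    exact Int.cast_injective h'

/-! ### Coherence -/

/-- The restriction of `η` is the orbit of `ψ`. -/
def IsOrbitChar (η : IrrCharacter G) (ψ : C →* ℂˣ) : Prop :=
  ∀ θ : C →* ℂˣ, (Rel C ψ θ → mult η θ = 1) ∧ (¬ Rel C ψ θ → mult η θ = 0)

theorem IsOrbitChar.degree (hH : Hyp C R x r) {η : IrrCharacter G} {ψ : C →* ℂˣ}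
    (h : IsOrbitChar η ψ) : H12.degree (η : G → ℂ) = (orb ψ).card := by
  classical
  rw [hH.degree_eq, Finset.card_eq_sum_ones, orb, Finset.sum_filter]
  refine Finset.sum_congr rfl fun θ _ => ?_
  split_ifs with hr
  · exact (h θ).1 hr
  · exact (h θ).2 hr

theorem Hyp.coherence (hH : Hyp C R x r) {η : IrrCharacter G} {ψ : C →* ℂˣ} (hψ : Good R ψ)
    (hη : IsOrbitChar η ψ) {χ : IrrCharacter G}
    (hsup : ∀ θ : C →* ℂˣ, mult χ θ ≠ 0 → θ ∈ cls R ψ) :
    ∃ φ ∈ cls R ψ, IsOrbitChar χ φ ∧ ∀ χ' : IrrCharacter G,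
      (∀ θ : C →* ℂˣ, mult χ' θ ≠ 0 → θ ∈ cls R ψ) → mult χ' φ ≠ 0 → χ' = χ := by
  classical
  have hψc : ψ ∈ cls R ψ := mem_cls.2 ⟨same_refl ψ, hψ⟩
  -- the partner
  have hX : ∀ φ ∈ cls R ψ, ¬ Rel C ψ φ → ∃ Q : IrrCharacter G, Q ≠ η ∧
      H12.degree (Q : G → ℂ) = (orb ψ).card ∧ dm Q ψ φ = -1 ∧
      ∀ χ, χ ≠ η → χ ≠ Q → dm χ ψ φ = 0 := by
    intro φ hφ hnr
    obtain ⟨P, Q, hPQ, hP, hQ, hdeg, h0⟩ := hH.diff hψ (mem_cls.1 hφ).2 (mem_cls.1 hφ).1 hnr
    have he : dm η ψ φ = 1 := by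
      rw [dm, (hη ψ).1 (H13.TI.rel_refl C ψ), (hη φ).2 hnr]; rfl
    have hηP : η = P := by
      by_contra hne
      rcases eq_or_ne η Q with rfl | hne'
      · omega
      · rw [h0 η hne hne'] at he; omega
    subst hηP
    exact ⟨Q, hPQ.symm, by rw [← hdeg, hη.degree hH], hQ, h0⟩
  choose X hXne hXdeg hX1 hX0 using hX
  -- degrees
  have hdegχ : ∀ χ : IrrCharacter G, (∀ θ : C →* ℂˣ, mult χ θ ≠ 0 → θ ∈ cls R ψ) →
      H12.degree (χ : G → ℂ) = ∑ θ ∈ cls R ψ, mult χ θ := by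
    intro χ hs
    rw [hH.degree_eq]
    refine (Finset.sum_subset (Finset.subset_univ _) fun θ _ hθ => ?_).symm
    by_contra h
    exact hθ (hs θ h)
  have hXinj : ∀ φ φ' (hφ : φ ∈ cls R ψ) (hφ' : φ' ∈ cls R ψ) (hn : ¬ Rel C ψ φ)
      (hn' : ¬ Rel C ψ φ'), X φ hφ hn = X φ' hφ' hn' → Rel C φ φ' := by
    intro φ φ' hφ hφ' hn hn' he
    by_contra hnr
    have h := hH.inner_dm ψ φ ψ φ' (mem_cls.1 hφ').1
    rw [hH.nn_rel hψ (H13.TI.rel_refl C ψ),
      H13.TI.nn_of_not_rel (fun h => hn' (H13.TI.rel_symm C h)),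
      H13.TI.nn_of_not_rel hn,
      H13.TI.nn_of_not_rel (fun h => hnr (H13.TI.rel_symm C h))] at h
    have h' : ((∑ χ : IrrCharacter G, dm χ ψ φ * dm χ ψ φ' : ℤ) : ℂ) = ((1 : ℤ) : ℂ) := by
      rw [h]; push_cast; ring
    have h'' := Int.cast_injective h'
    have hη1 : ∀ φ, ¬ Rel C ψ φ → dm η ψ φ = 1 := fun φ hn => by
      rw [dm, (hη ψ).1 (H13.TI.rel_refl C ψ), (hη φ).2 hn]; rfl
    rw [Finset.sum_eq_add η (X φ hφ hn) (hXne φ hφ hn).symm
      (fun c _ hc => by rw [hX0 φ hφ hn c hc.1 hc.2, zero_mul])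
      (fun h => absurd (Finset.mem_univ _) h) (fun h => absurd (Finset.mem_univ _) h),
      hη1 φ hn, hη1 φ' hn', hX1 φ hφ hn, he, hX1 φ' hφ' hn'] at h''
    norm_num at h''
  -- the shape of a supported character other than `η`
  have shape : ∀ χ : IrrCharacter G, χ ≠ η → (∀ θ : C →* ℂˣ, mult χ θ ≠ 0 → θ ∈ cls R ψ) →
      ∃ φ, ∃ hφ : φ ∈ cls R ψ, ∃ hn : ¬ Rel C ψ φ, χ = X φ hφ hn ∧ IsOrbitChar χ φ := by
    intro χ hne hs
    have hm : ∀ φ (hφ : φ ∈ cls R ψ) (hn : ¬ Rel C ψ φ),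
        mult χ φ = mult χ ψ + if χ = X φ hφ hn then 1 else 0 := by
      intro φ hφ hn
      split_ifs with h
      · have := hX1 φ hφ hn
        rw [← h, dm] at this
        omega
      · have := hX0 φ hφ hn χ hne h
        rw [dm] at this
        omega
    obtain ⟨φ, hφ, hn, hX'⟩ : ∃ φ, ∃ hφ : φ ∈ cls R ψ, ∃ hn : ¬ Rel C ψ φ, χ = X φ hφ hn := by
      by_contra hno
      simp only [not_exists] at hno
      have hconst : ∀ θ ∈ cls R ψ, mult χ θ = mult χ ψ := by
        intro θ hθ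
        by_cases hr : Rel C ψ θ
        · exact mult_rel χ hr
        · rw [hm θ hθ hr, if_neg (hno θ hθ hr), add_zero]
      have h1 := hdegχ χ hs
      rw [Finset.sum_congr rfl hconst, Finset.sum_const, smul_eq_mul] at h1
      have := h1 ▸ hH.degree_odd χ
      exact Nat.not_even_iff_odd.2 this ((hH.even_cls ψ).mul_right _)
    refine ⟨φ, hφ, hn, hX', ?_⟩
    have hval : ∀ θ ∈ cls R ψ, mult χ θ = mult χ ψ + if Rel C φ θ then 1 else 0 := by
      intro θ hθ
      split_ifs with hr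
      · rw [mult_rel χ hr, hm φ hφ hn, if_pos hX']
      · by_cases hr' : Rel C ψ θ
        · rw [mult_rel χ hr', add_zero]
        · rw [hm θ hθ hr', if_neg ?_]
          intro h
          exact hr (hXinj φ θ hφ hθ hn hr' (hX'.symm.trans h))
    have hcount : ∑ θ ∈ cls R ψ, (if Rel C φ θ then 1 else 0 : ℕ) = (orb φ).card := by
      rw [← Finset.sum_filter, ← Finset.card_eq_sum_ones]
      congr 1
      ext θ
      rw [Finset.mem_filter, mem_orb]
      exact ⟨fun h => h.2, fun h => ⟨hH.cls_rel hφ h, h⟩⟩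
    have hb : mult χ ψ = 0 := by
      have h1 := hdegχ χ hs
      rw [Finset.sum_congr rfl hval, Finset.sum_add_distrib, Finset.sum_const, smul_eq_mul,
        hcount, hH.card_orb (mem_cls.1 hφ).2 hψ, ← hXdeg φ hφ hn, ← hX'] at h1
      have h2 : (cls R ψ).card * mult χ ψ = 0 := by omega
      exact (Nat.mul_eq_zero.1 h2).resolve_left (Finset.card_ne_zero.2 ⟨ψ, hψc⟩)
    intro θ
    refine ⟨fun hr => ?_, fun hr => ?_⟩
    · rw [hval θ (hH.cls_rel hφ hr), if_pos hr, hb]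
    · by_contra h
      rw [hval θ (hs θ h), if_neg hr, hb] at h
      exact h rfl
  rcases eq_or_ne χ η with rfl | hne
  · refine ⟨ψ, hψc, hη, fun χ' hs' hm' => ?_⟩
    by_contra hne'
    obtain ⟨φ', hφ', hn', -, ho'⟩ := shape χ' hne' hs'
    exact hm' ((ho' ψ).2 fun h => hn' (H13.TI.rel_symm C h))
  · obtain ⟨φ, hφ, hn, hX', ho⟩ := shape χ hne hsup
    refine ⟨φ, hφ, ho, fun χ' hs' hm' => ?_⟩
    rcases eq_or_ne χ' η with rfl | hne'
    · exact absurd ((hη φ).2 hn) hm'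
    · obtain ⟨φ', hφ', hn', hX'', ho'⟩ := shape χ' hne' hs'
      have hr : Rel C φ' φ := by
        by_contra h
        exact hm' ((ho' φ).2 h)
      have h1 : dm χ' ψ φ = -1 := by
        rw [dm, (ho' φ).1 hr, (ho' ψ).2 fun h => hn' (H13.TI.rel_symm C h)]; rfl
      rw [hX']
      by_contra h2
      rw [hX0 φ hφ hn χ' hne' h2] at h1
      omega

/-! ### The square -/

theorem IsOrbitChar.res (hH : Hyp C R x r) {η : IrrCharacter G} {ψ : C →* ℂˣ}
    (hη : IsOrbitChar η ψ) (c : C) : (η : G → ℂ) c = ∑ a ∈ orb ψ, lf a c := by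
  classical
  rw [hH.res_eq, orb, Finset.sum_filter]
  refine Finset.sum_congr rfl fun θ _ => ?_
  split_ifs with hr
  · rw [(hη θ).1 hr, Nat.cast_one, one_mul]
  · rw [(hη θ).2 hr, Nat.cast_zero, zero_mul]

theorem Hyp.exists_square (hH : Hyp C R x r) {η : IrrCharacter G} {ψ : C →* ℂˣ}
    (hη : IsOrbitChar η ψ) : ∃ η₂ : IrrCharacter G, IsOrbitChar η₂ (ψ ^ 2) := by
  classical
  have hk : Nat.Coprime 2 (Nat.card G) := Nat.coprime_two_left.2 hH.odd
  refine ⟨⟨_, H25.isIrrCharacter_comp_pow η.2 hk⟩, fun θ => ?_⟩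
  have h := mult_spec (C := C) (⟨_, H25.isIrrCharacter_comp_pow η.2 hk⟩ : IrrCharacter G) θ
  have e : (fun c : C => (η : G → ℂ) ((c : G) ^ 2)) = ∑ a ∈ orb ψ, lf (a ^ 2) := by
    funext c
    rw [← Subgroup.coe_pow, hη.res hH, Finset.sum_apply]
    refine Finset.sum_congr rfl fun a _ => ?_
    simp [lf]
  simp only [] at h
  rw [e, H12.classInner_sum_left] at h
  simp only [H13.TI.lf_inner, Finset.sum_boole, Nat.cast_inj] at h
  rw [← h]
  have hrel : ∀ g : N, tw C g (ψ ^ 2) = (tw C g ψ) ^ 2 := fun g => rfl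
  constructor
  · rintro ⟨g, rfl⟩
    rw [Finset.card_eq_one]
    refine ⟨tw C g ψ, ?_⟩
    ext a
    simp only [Finset.mem_filter, Finset.mem_singleton, mem_orb]
    exact ⟨fun ha => hH.tw_sq_inj (ha.2.trans (hrel g)), by rintro rfl; exact ⟨⟨g, rfl⟩, (hrel g).symm⟩⟩
  · intro hn
    rw [Finset.card_eq_zero, Finset.filter_eq_empty_iff]
    intro a ha hsq
    obtain ⟨g, rfl⟩ := mem_orb.1 ha
    exact hn ⟨g, (hrel g).trans hsq⟩

end H66.OddLin
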