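import Cfsg.Agent.H20.CoprimeUnits
import Cfsg.Agent.H25.Galois
import Cfsg.Agent.H12.Integral

/-!
# Characters attached to a representation of an odd order group over `ZMod 2`

An element `x` of prime order `r` acts on `(ZMod 2) ^ n`, `n` the order of `2` modulo `r`, with
`n` distinct eigenvalues; the idempotents of the irreducible complex characters cut the space
into pieces of dimension at least the degree.
-/

set_option autoImplicit false
set_option linter.unusedSectionVars false
set_option linter.style.haveILetI false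

open Cfsg
open scoped ComplexConjugate Matrix

namespace H66.OddLift

universe u

variable {M : Ideal AlgInt} [hMp : M.IsPrime] {k : Type} [Field k] [IsAlgClosed k]
  {π : H20.Ou M 2 →+* k}

local notation "Ou" => H20.Ou M 2

variable {G : Type u} [Group G] [Fintype G]

theorem rt_mem {z : ℂ} {m : ℕ} (hm : Odd m) (hz : z ^ m = 1) : z ∈ H20.Ou M 2 :=
  H20.Rr_le_Ou (H20.mem_Rr_of_pow_eq_one (fun h => (Nat.not_even_iff_odd.2 hm) (even_iff_two_dvd.2 h)) hz)

theorem card_inv_mem (hM : IsPModular 2 M) (hodd : Odd (Nat.card G)) :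
    ((Nat.card G : ℂ))⁻¹ ∈ H20.Ou M 2 := by
  refine H20.inv_mem_Ou (natCast_mem _ _) fun h => ?_
  have h2 := (H20.p_dvd_iff hM (Nat.card G : H20.Ou M 2)).2 (by simpa using h)
  obtain ⟨j, hj⟩ := hodd
  rw [hj] at h2
  push_cast at h2
  exact H20.ou_p_not_isUnit hM (isUnit_of_dvd_one ((dvd_add_right (dvd_mul_right _ _)).1 h2))

theorem val_mem (hodd : Odd (Nat.card G)) (χ : IrrCharacter G) (g : G) :
    (χ : G → ℂ) g ∈ H20.Ou M 2 := by
  obtain ⟨m, ρ, -, hρ⟩ := χ.2
  obtain ⟨μ, h1, h2, -⟩ := H12.exists_char_eigenvalues ρ g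
  have hg : (χ : G → ℂ) g = ∑ i, μ i := by rw [← hρ]; simpa using h2 1
  rw [hg]
  exact Subring.sum_mem _ fun i _ => rt_mem (Odd.of_dvd_nat hodd (orderOf_dvd_natCard g)) (h1 i)

variable (hM : IsPModular 2 M) (hodd : Odd (Nat.card G))

/-- The coefficient of the idempotent of `χ`. -/
noncomputable def coef (χ : IrrCharacter G) (g : G) : H20.Ou M 2 :=
  ⟨(Nat.card G : ℂ)⁻¹ * ((χ : G → ℂ) 1 * (χ : G → ℂ) g⁻¹),
    mul_mem (card_inv_mem hM hodd) (mul_mem (val_mem hodd χ 1) (val_mem hodd χ g⁻¹))⟩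

/-- The idempotent of `χ` over the local ring. -/
noncomputable def idem (χ : IrrCharacter G) : MonoidAlgebra (H20.Ou M 2) G :=
  H20.ofFun (coef hM hodd χ)

theorem map_idem (χ : IrrCharacter G) :
    MonoidAlgebra.mapRingHom G (H20.Ou M 2).subtype (idem hM hodd χ) =
      H20.eIdem ({χ} : Set (IrrCharacter G)) := by
  classical
  ext g
  rw [H20.coeff_mapRingHom, idem, H20.coeff_ofFun, H20.eIdem, H20.coeff_ofFun,
    H20.blockCoeff_eq_sum]
  simp [coef, H12.irr_inv]

/-- The idempotent of `χ` over the residue field. -/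
noncomputable def ebar (π : H20.Ou M 2 →+* k) (χ : IrrCharacter G) : MonoidAlgebra k G :=
  MonoidAlgebra.mapRingHom G π (idem hM hodd χ)

theorem coeff_ebar (χ : IrrCharacter G) (g : G) :
    (ebar hM hodd π χ).coeff g = π (coef hM hodd χ g) := by
  rw [ebar, H20.coeff_mapRingHom, idem, H20.coeff_ofFun]

theorem mapC_injective :
    Function.Injective (MonoidAlgebra.mapRingHom G (H20.Ou M 2).subtype) := fun a b h => by
  ext g
  have := congrArg (fun z => z.coeff g) h
  simpa using this

theorem idem_isCl (χ : IrrCharacter G) : H20.IsCl (idem hM hodd χ) := fun g h => by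
  apply Subtype.ext
  have h1 := H20.isCl_eIdem ({χ} : Set (IrrCharacter G)) g h
  rw [← map_idem hM hodd χ, H20.coeff_mapRingHom, H20.coeff_mapRingHom] at h1
  exact h1

theorem idem_mul_self (χ : IrrCharacter G) : idem hM hodd χ * idem hM hodd χ = idem hM hodd χ :=
  mapC_injective (by rw [map_mul, map_idem, H20.eIdem_mul_self])

theorem ebar_mul_self (χ : IrrCharacter G) :
    ebar hM hodd π χ * ebar hM hodd π χ = ebar hM hodd π χ := by
  rw [ebar, ← map_mul, idem_mul_self]

theorem ebar_commute (χ : IrrCharacter G) (a : MonoidAlgebra k G) :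
    Commute (ebar hM hodd π χ) a :=
  ((idem_isCl hM hodd χ).map π).commute a

theorem ebar_mul_ne {χ χ' : IrrCharacter G} (h : χ ≠ χ') :
    ebar hM hodd π χ * ebar hM hodd π χ' = 0 := by
  classical
  have h0 : idem hM hodd χ * idem hM hodd χ' = 0 := by
    refine mapC_injective ?_
    rw [map_mul, map_idem, map_idem, map_zero]
    refine H20.ext_omega ((H20.isCl_eIdem _).mul (H20.isCl_eIdem _))
      (fun g h => by simp) fun θ => ?_
    rw [H20.omega_mul θ (H20.isCl_eIdem _), H20.omega_eIdem, H20.omega_eIdem, H20.omega_zero]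
    simp only [Set.mem_singleton_iff]
    split_ifs with h1 h2
    · exact absurd (h1.symm.trans h2) h
    all_goals simp
  rw [ebar, ebar, ← map_mul, h0, map_zero]

theorem sum_ebar : ∑ χ : IrrCharacter G, ebar hM hodd π χ = 1 := by
  classical
  have h0 : ∑ χ : IrrCharacter G, idem hM hodd χ = 1 := by
    ext g
    rw [MonoidAlgebra.coeff_sum, Finsupp.finsetSum_apply]
    push_cast
    simp only [idem, H20.coeff_ofFun, coef, ← Finset.mul_sum]
    rw [H12.regular_eq_sum]
    by_cases hg : g = 1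
    · subst hg
      simp [MonoidAlgebra.one_def]
    · rw [if_neg (fun h => hg (inv_eq_one.1 h))]
      simp [MonoidAlgebra.one_def, Ne.symm hg]
  simp only [ebar, ← map_sum, h0, map_one]

/-- The reduced idempotents act on matrices with enough room for the degree. -/
theorem exists_units (hr : H20.Stable.IsRed π 2) (χ : IrrCharacter G) :
    ∃ (s : Matrix (Fin (H12.degree (χ : G → ℂ))) (Fin (H12.degree (χ : G → ℂ))) k →ₗ[k]
        MonoidAlgebra k G),
      (∀ X Y, s (X * Y) = s X * s Y) ∧ s 1 = ebar hM hodd π χ := by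
  classical
  haveI := H20.ou_isDVR hM
  have hA : ¬ 2 ∣ Nat.card G := fun h => Nat.not_even_iff_odd.2 hodd (even_iff_two_dvd.2 h)
  have h := fun θ : IrrCharacter G => H20.exists_matrixUnits hr (H20.Ou M 2).subtype
    Subtype.val_injective hA θ (idem hM hodd θ) (map_idem hM hodd θ)
    (fun h => hA (h.trans (H12.irr_degree_dvd_card θ)))
  choose m s ψ hpos hle hmul hone hψs hker using h
  have hsum : Nat.card G ≤ ∑ θ, m θ * m θ := by
    let F : MonoidAlgebra k G →ₗ[k] ((θ : IrrCharacter G) → Matrix (Fin (m θ)) (Fin (m θ)) k) :=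
      LinearMap.pi fun θ => (ψ θ).toLinearMap
    have hF : Function.Injective F := by
      intro a b hab
      have e : ∀ z : MonoidAlgebra k G, z = ∑ θ, s θ (ψ θ z) := by
        intro z
        conv_lhs => rw [← mul_one z, ← sum_ebar hM hodd (π := π), Finset.mul_sum]
        exact Finset.sum_congr rfl fun θ _ => hker θ z
      rw [e a, e b]
      exact Finset.sum_congr rfl fun θ _ => congrArg (s θ) (congrFun hab θ)
    have h1 := LinearMap.finrank_le_finrank_of_injective hF
    rw [Module.finrank_pi_fintype] at h1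
    simp only [Module.finrank_matrix, Fintype.card_fin, Module.finrank_self, mul_one] at h1
    let E : (G → k) →ₗ[k] MonoidAlgebra k G :=
      { toFun := fun f => H20.ofFun f
        map_add' := fun f g => by ext a; simp
        map_smul' := fun c f => by ext a; simp }
    have hE : Function.Injective E := fun f g h => by
      funext a
      simpa [E] using congrArg (fun z => z.coeff a) h
    haveI : Module.Finite k (MonoidAlgebra k G) := Module.Finite.of_surjective E (fun z =>
      ⟨fun a => z.coeff a, by ext a; simp [E]⟩)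
    have h2 := LinearMap.finrank_le_finrank_of_injective hE
    rw [Module.finrank_fintype_fun_eq_card, ← Nat.card_eq_fintype_card] at h2
    omega
  have heq : m χ = H12.degree (χ : G → ℂ) := by
    by_contra hne
    have h1 : ∑ θ, m θ * m θ < ∑ θ : IrrCharacter G, H12.degree (θ : G → ℂ) ^ 2 := by
      refine Finset.sum_lt_sum (fun θ _ => by rw [pow_two]; exact Nat.mul_le_mul (hle θ) (hle θ))
        ⟨χ, Finset.mem_univ χ, ?_⟩
      rw [pow_two]
      have := lt_of_le_of_ne (hle χ) hne
      exact Nat.mul_lt_mul_of_lt_of_lt this this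
    rw [H12.sum_degree_sq_nat] at h1
    omega
  have aux : ∀ d, d = m χ → ∃ (s : Matrix (Fin d) (Fin d) k →ₗ[k] MonoidAlgebra k G),
      (∀ X Y, s (X * Y) = s X * s Y) ∧ s 1 = ebar hM hodd π χ := by
    rintro d rfl
    exact ⟨s χ, hmul χ, hone χ⟩
  exact aux _ heq.symm

/-- An eigenvalue of the character on a cyclic subgroup. -/
theorem exists_mult_eigen (χ : IrrCharacter G) {x : G} {r : ℕ} (hx : orderOf x = r) (hr0 : r ≠ 0)
    {ζ : ℂ} (hζ : ζ ^ r = 1)
    (h : ∃ z : G, ∑ j ∈ Finset.range r, ζ ^ j * (χ : G → ℂ) (x⁻¹ ^ j * z) ≠ 0) :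
    ∑ j ∈ Finset.range r, ζ ^ j * (χ : G → ℂ) (x⁻¹ ^ j) ≠ 0 := by
  classical
  obtain ⟨m, ρ, -, hρ⟩ := χ.2
  obtain ⟨z, hz⟩ := h
  have hT : (ρ x⁻¹) ^ r = 1 := by
    rw [← map_pow, inv_pow, ← hx, pow_orderOf_eq_one, inv_one, map_one]
  obtain ⟨b, μ, hb⟩ := H12.exists_eigenbasis hr0 hT
  set T : Module.End ℂ (Fin m → ℂ) := ∑ j ∈ Finset.range r, ζ ^ j • (ρ x⁻¹) ^ j with hTdef
  have hTb : ∀ i, T (b i) = (if μ i * ζ = 1 then (r : ℂ) else 0) • b i := by
    intro i
    have hp : ∀ j : ℕ, ((ρ x⁻¹) ^ j) (b i) = μ i ^ j • b i := by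
      intro j
      induction j with
      | zero => simp
      | succ j ih =>
        rw [pow_succ, Module.End.mul_apply, (hb i).1, map_smul, ih, smul_smul, ← pow_succ']
    simp only [hTdef, LinearMap.sum_apply, LinearMap.smul_apply, hp, smul_smul, ← Finset.sum_smul]
    congr 1
    have hq : ∀ j : ℕ, ζ ^ j * μ i ^ j = (μ i * ζ) ^ j := fun j => by rw [mul_pow]; ring
    simp only [hq]
    split_ifs with h1
    · simp [h1]
    · rw [geom_sum_eq h1, mul_pow, (hb i).2, hζ, one_mul, sub_self, zero_div]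
  have htr : ∑ j ∈ Finset.range r, ζ ^ j * (χ : G → ℂ) (x⁻¹ ^ j) = LinearMap.trace ℂ _ T := by
    simp only [hTdef, map_sum, map_smul, smul_eq_mul, ← map_pow, ← hρ]
    rfl
  rw [htr, LinearMap.trace_eq_matrix_trace ℂ b, Matrix.trace]
  have hdiag : ∀ i, (LinearMap.toMatrix b b T).diag i = if μ i * ζ = 1 then (r : ℂ) else 0 := by
    intro i
    rw [Matrix.diag_apply, LinearMap.toMatrix_apply, hTb i, map_smul, Finsupp.smul_apply,
      Module.Basis.repr_self, Finsupp.single_eq_same, smul_eq_mul, mul_one]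
  simp only [hdiag, Finset.sum_ite, Finset.sum_const, smul_zero, add_zero, nsmul_eq_mul]
  refine mul_ne_zero (Nat.cast_ne_zero.2 fun h0 => hz ?_) (Nat.cast_ne_zero.2 hr0)
  have hT0 : T = 0 := b.ext fun i => by
    rw [hTb i, if_neg, zero_smul, LinearMap.zero_apply]
    intro h1
    rw [Finset.card_eq_zero, Finset.filter_eq_empty_iff] at h0
    exact h0 (Finset.mem_univ i) h1
  have h2 : ∑ j ∈ Finset.range r, ζ ^ j * (χ : G → ℂ) (x⁻¹ ^ j * z) =
      LinearMap.trace ℂ _ (T * ρ z) := by
    simp only [hTdef, Finset.sum_mul, smul_mul_assoc, map_sum, map_smul, smul_eq_mul, ← map_pow,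
      ← map_mul, ← hρ]
    rfl
  rw [h2, hT0, zero_mul, map_zero]

/-- The residue of a character value commutes with squaring. -/
theorem pi_val_sq (hr : H20.Stable.IsRed π 2) (χ : IrrCharacter G) (g : G) :
    π ⟨_, val_mem hodd χ g⟩ ^ 2 = π ⟨_, val_mem hodd χ (g ^ 2)⟩ := by
  haveI := hr.charP
  obtain ⟨m, ρ, -, hρ⟩ := χ.2
  obtain ⟨μ, h1, h2, -⟩ := H12.exists_char_eigenvalues ρ g
  let w : Fin (Module.finrank ℂ (Fin m → ℂ)) → H20.Ou M 2 := fun i =>
    ⟨μ i, rt_mem (Odd.of_dvd_nat hodd (orderOf_dvd_natCard g)) (h1 i)⟩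
  have e1 : (⟨_, val_mem hodd χ g⟩ : H20.Ou M 2) = ∑ i, w i := by
    apply Subtype.ext
    push_cast
    rw [← hρ]
    simpa using h2 1
  have e2 : (⟨_, val_mem hodd χ (g ^ 2)⟩ : H20.Ou M 2) = ∑ i, w i ^ 2 := by
    apply Subtype.ext
    push_cast
    rw [← hρ]
    exact h2 2
  rw [e1, e2, map_sum, map_sum, CharTwo.sum_sq]
  simp only [map_pow]

/-- The Galois conjugate by squaring. -/
noncomputable def sqIrr (χ : IrrCharacter G) : IrrCharacter G :=
  ⟨_, H25.isIrrCharacter_comp_pow χ.2 (Nat.coprime_two_left.2 hodd)⟩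

theorem degree_sqIrr (χ : IrrCharacter G) :
    H12.degree (sqIrr hodd χ : G → ℂ) = H12.degree (χ : G → ℂ) := by
  simp [H12.degree, sqIrr]

theorem coef_sqIrr (hr : H20.Stable.IsRed π 2) (χ : IrrCharacter G) (g : G) :
    π (coef hM hodd (sqIrr hodd χ) g) = π (coef hM hodd χ g) ^ 2 := by
  haveI := hr.charP
  have hd : Odd (H12.degree (χ : G → ℂ)) := Odd.of_dvd_nat hodd (H12.irr_degree_dvd_card χ)
  have hone : ∀ j : ℕ, Odd j → ((j : k)) = 1 := by
    rintro j ⟨i, rfl⟩
    push_cast
    rw [show (2 : k) = 0 from CharTwo.two_eq_zero, zero_mul, zero_add]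
  have hc : ∀ (θ : IrrCharacter G), H12.degree (θ : G → ℂ) = H12.degree (χ : G → ℂ) →
      ∀ g, π (coef hM hodd θ g) = π ⟨_, val_mem hodd θ g⁻¹⟩ := by
    intro θ hθ g
    have e : coef hM hodd θ g * (Nat.card G : H20.Ou M 2) =
        (H12.degree (θ : G → ℂ) : H20.Ou M 2) * ⟨_, val_mem hodd θ g⁻¹⟩ := by
      apply Subtype.ext
      push_cast
      simp only [coef]
      rw [← H12.irr_apply_one]
      field_simp
    have e2 := congrArg π e
    rw [map_mul, map_mul, map_natCast, map_natCast, hone _ hodd, hθ, hone _ hd, mul_one,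
      one_mul] at e2
    exact e2
  rw [hc _ (degree_sqIrr hodd χ), hc _ rfl, pi_val_sq hodd hr]
  congr 1

end H66.OddLift
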