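import Cfsg.Agent.H66.OddLinearCount

/-!
# The contradiction for the odd linear group theorem
-/

set_option autoImplicit false
set_option linter.unusedSectionVars false

open Cfsg
open scoped ComplexConjugate

namespace H66.OddLin

open H13.TI (tw lf ind Rel nn)

universe u

variable {G : Type u} [Group G] [Fintype G] {C R : Subgroup G} {x : G} {r : ℕ}

local notation "N" => Subgroup.normalizer (C : Set G)

attribute [local instance] H13.TI.fintypeNormalizer

noncomputable local instance : Fintype C := Fintype.ofFinite C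

noncomputable local instance : Fintype (C →* ℂˣ) := Fintype.ofFinite _

open scoped Classical in
/-- What the reduction modulo two provides. -/
structure EigData (h : Hyp C R x r) (n : ℕ) : Type u where
  pos : 0 < n
  dvd : n ∣ r - 1
  ch : Fin n → IrrCharacter G
  ev : Fin n → ℂˣ
  ev_ne : ∀ i, ev i ≠ 1
  ev_inj : Function.Injective ev
  hit : ∀ i, ∃ θ : C →* ℂˣ, θ ⟨x, h.le h.mem⟩ = ev i ∧ mult (ch i) θ ≠ 0
  deg_le : ∀ i, H12.degree (ch i : G → ℂ) ≤ (Finset.univ.filter fun j => ch j = ch i).card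
  deg_eq : ∀ i j, H12.degree (ch i : G → ℂ) = H12.degree (ch j : G → ℂ)
  lin : (∀ i, H12.degree (ch i : G → ℂ) = 1) → ∀ a b : G, a * b = b * a

variable {hH : Hyp C R x r} {n : ℕ}

open scoped Classical in
/-- The characters occurring in the restriction. -/
noncomputable def supp (χ : IrrCharacter G) : Finset (C →* ℂˣ) :=
  Finset.univ.filter fun θ => mult χ θ ≠ 0

theorem mem_supp {χ : IrrCharacter G} {θ : C →* ℂˣ} : θ ∈ supp (C := C) χ ↔ mult χ θ ≠ 0 := by
  classical simp [supp]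

theorem EigData.shape (D : EigData hH n) (i : Fin n) :
    (∀ θ : C →* ℂˣ, mult (D.ch i) θ ≠ 0 →
      mult (D.ch i) θ = 1 ∧ θ ⟨x, hH.le hH.mem⟩ ≠ 1) ∧
    (supp (C := C) (D.ch i)).card = H12.degree (D.ch i : G → ℂ) ∧
    H12.degree (D.ch i : G → ℂ) ∣ n := by
  classical
  have key : ∀ i, (Finset.univ.filter fun j => D.ch j = D.ch i).card =
      H12.degree (D.ch i : G → ℂ) ∧
      (∀ θ : C →* ℂˣ, mult (D.ch i) θ ≠ 0 →
        mult (D.ch i) θ = 1 ∧ θ ⟨x, hH.le hH.mem⟩ ≠ 1) ∧
      (supp (C := C) (D.ch i)).card = H12.degree (D.ch i : G → ℂ) := by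
    intro i
    set F := Finset.univ.filter fun j => D.ch j = D.ch i with hF
    choose f hf1 hf2 using D.hit
    have hinj : Function.Injective f := fun a b h => D.ev_inj (by rw [← hf1 a, ← hf1 b, h])
    have hsub : F.image f ⊆ supp (C := C) (D.ch i) := by
      intro θ hθ
      obtain ⟨j, hj, rfl⟩ := Finset.mem_image.1 hθ
      rw [mem_supp, ← (Finset.mem_filter.1 hj).2]
      exact hf2 j
    have h1 : F.card = (F.image f).card := (Finset.card_image_of_injective _ hinj).symm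
    have h2 := Finset.card_le_card hsub
    have h3 : (supp (C := C) (D.ch i)).card ≤ ∑ θ ∈ supp (C := C) (D.ch i), mult (D.ch i) θ := by
      rw [Finset.card_eq_sum_ones]
      exact Finset.sum_le_sum fun θ hθ => Nat.one_le_iff_ne_zero.2 (mem_supp.1 hθ)
    have h4 : ∑ θ ∈ supp (C := C) (D.ch i), mult (D.ch i) θ = H12.degree (D.ch i : G → ℂ) := by
      rw [hH.degree_eq, supp, Finset.sum_filter_ne_zero]
    have h5 := D.deg_le i
    rw [← hF] at h5
    have heq : F.image f = supp (C := C) (D.ch i) := Finset.eq_of_subset_of_card_le hsub (by omega)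
    refine ⟨by omega, fun θ hθ => ⟨?_, ?_⟩, by omega⟩
    · by_contra hne
      have : (supp (C := C) (D.ch i)).card < ∑ θ ∈ supp (C := C) (D.ch i), mult (D.ch i) θ := by
        rw [Finset.card_eq_sum_ones]
        exact Finset.sum_lt_sum (fun θ hθ => Nat.one_le_iff_ne_zero.2 (mem_supp.1 hθ))
          ⟨θ, mem_supp.2 hθ, by omega⟩
      omega
    · obtain ⟨j, -, rfl⟩ := Finset.mem_image.1 (heq.symm ▸ mem_supp.2 hθ : θ ∈ F.image f)
      rw [hf1 j]
      exact D.ev_ne j
  refine ⟨(key i).2.1, (key i).2.2, ?_⟩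
  have h := Finset.card_eq_sum_card_image D.ch (Finset.univ : Finset (Fin n))
  rw [Finset.card_univ, Fintype.card_fin, Finset.sum_congr rfl
    (g := fun _ => H12.degree (D.ch i : G → ℂ)), Finset.sum_const, smul_eq_mul] at h
  · exact ⟨_, h.trans (mul_comm _ _)⟩
  · intro c hc
    obtain ⟨j, -, rfl⟩ := Finset.mem_image.1 hc
    rw [(key j).1]
    exact D.deg_eq j i

/-- The restriction of each character of the data is a single orbit. -/
theorem EigData.exists_orbit (D : EigData hH n) (i : Fin n) :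
    ∃ ψ : C →* ℂˣ, ψ ⟨x, hH.le hH.mem⟩ ≠ 1 ∧ IsOrbitChar (D.ch i) ψ := by
  classical
  obtain ⟨hone, hcardS, hdn⟩ := D.shape i
  set χ := D.ch i with hχ
  set x' : C := ⟨x, hH.le hH.mem⟩ with hx'
  set S := supp (C := C) χ with hS
  obtain ⟨ψ, hψ⟩ : S.Nonempty := by
    rw [← Finset.card_pos, hcardS]
    exact H12.irr_degree_pos χ
  have hgood : ∀ θ ∈ S, θ ∈ cls R ψ := fun θ hθ =>
    mem_cls.2 ⟨hH.same_of_mult χ (mem_supp.1 hψ) (mem_supp.1 hθ),
      hH.good_of_x (hone θ (mem_supp.1 hθ)).2⟩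
  have horb : orb ψ ⊆ S := fun θ hθ =>
    mem_supp.2 (by rw [mult_rel χ (mem_orb.1 hθ)]; exact mem_supp.1 hψ)
  refine ⟨ψ, (hone ψ (mem_supp.1 hψ)).2, fun θ => ⟨fun hr => ?_, fun hr => ?_⟩⟩
  · exact (hone θ (mem_supp.1 (horb (mem_orb.2 hr)))).1
  by_contra hθ0
  have hθ : θ ∈ S := mem_supp.2 hθ0
  -- a good character outside the support
  have hne : S ≠ cls R ψ := by
    intro h
    have := hH.degree_odd χ
    rw [← hcardS, h] at this
    exact Nat.not_even_iff_odd.2 this (hH.even_cls ψ)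
  obtain ⟨p, hp, hpS⟩ : ∃ p ∈ cls R ψ, p ∉ S := by
    by_contra h
    exact hne (Finset.Subset.antisymm hgood (by simpa [Finset.subset_iff] using h))
  have hporb : orb p ⊆ cls R ψ := fun a ha => hH.cls_rel hp (mem_orb.1 ha)
  have hpdisj : ∀ a ∈ orb p, a ∉ S := fun a ha haS => hpS (mem_supp.2 (by
    rw [← mult_rel χ (mem_orb.1 ha)]; exact mem_supp.1 haS))
  -- the complement of the support is one orbit
  have hcompl : cls R ψ \ S = orb p := by
    refine Finset.Subset.antisymm (fun p' hp' => ?_) fun a ha =>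
      Finset.mem_sdiff.2 ⟨hporb ha, hpdisj a ha⟩
    rw [mem_orb]
    by_contra hnp
    rw [Finset.mem_sdiff] at hp'
    have hz : ∀ q, q ∉ S → mult χ q = 0 := fun q hq => by
      by_contra h; exact hq (mem_supp.2 h)
    have hψp : ¬ Rel C ψ p := fun h => hpS (horb (mem_orb.2 h))
    have hψp' : ¬ Rel C ψ p' := fun h => hp'.2 (horb (mem_orb.2 h))
    have hθp' : ¬ Rel C θ p' := fun h => hp'.2 (mem_supp.2 (by
      rw [mult_rel χ h]; exact hθ0))
    have hθp : ¬ Rel C θ p := fun h => hpS (mem_supp.2 (by rw [mult_rel χ h]; exact hθ0))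
    have hgp' := mem_cls.1 hp'.1
    have hgp := mem_cls.1 hp
    have hgθ := mem_cls.1 (hgood θ hθ)
    have hgψ : Good R ψ := (mem_cls.1 (hgood ψ hψ)).2
    have hs1 : Same θ p' := hgθ.1.symm.trans hgp'.1
    obtain ⟨P, Q, hPQ, hP, hQ, hdeg, h0⟩ := hH.diff hgψ hgp.2 hgp.1 hψp
    obtain ⟨P', Q', hPQ', hP', hQ', hdeg', h0'⟩ := hH.diff hgθ.2 hgp'.2 hs1 hθp'
    have hPχ : χ = P := by
      by_contra h
      have h1 : dm χ ψ p = 1 := by
        rw [dm, (hone ψ (mem_supp.1 hψ)).1, hz p hpS]; rfl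
      rcases eq_or_ne χ Q with h' | h'
      · rw [h', hQ] at h1; omega
      · rw [h0 χ h h'] at h1; omega
    have hPχ' : χ = P' := by
      by_contra h
      have h1 : dm χ θ p' = 1 := by
        rw [dm, (hone θ hθ0).1, hz p' hp'.2]; rfl
      rcases eq_or_ne χ Q' with h' | h'
      · rw [h', hQ'] at h1; omega
      · rw [h0' χ h h'] at h1; omega
    have h := hH.inner_dm ψ p θ p' hs1
    rw [H13.TI.nn_of_not_rel (fun h => hr (H13.TI.rel_symm C h)),
      H13.TI.nn_of_not_rel (fun h => hψp' (H13.TI.rel_symm C h)),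
      H13.TI.nn_of_not_rel (fun h => hθp h),
      H13.TI.nn_of_not_rel (fun h => hnp (H13.TI.rel_symm C h))] at h
    have h' : ((∑ a : IrrCharacter G, dm a ψ p * dm a θ p' : ℤ) : ℂ) = ((0 : ℤ) : ℂ) := by
      rw [h]; push_cast; ring
    have h'' := Int.cast_injective h'
    rw [← hPχ] at hPQ hP h0
    rw [← hPχ'] at hPQ' hP' h0'
    rw [Finset.sum_eq_add χ Q hPQ
      (fun c _ hc => by rw [h0 c hc.1 hc.2, zero_mul])
      (fun h => absurd (Finset.mem_univ _) h) (fun h => absurd (Finset.mem_univ _) h),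
      hP, hP', hQ] at h''
    rcases eq_or_ne Q Q' with h1 | h1
    · rw [h1, hQ'] at h''; omega
    · rw [h0' Q hPQ.symm h1] at h''; omega
  -- counting
  have hgψ : Good R ψ := (mem_cls.1 (hgood ψ hψ)).2
  have hcp : (orb p).card = (orb ψ).card := hH.card_orb (mem_cls.1 hp).2 hgψ
  have hcθ : (orb θ).card = (orb ψ).card := hH.card_orb (mem_cls.1 (hgood θ hθ)).2 hgψ
  have hK : (cls R ψ).card = S.card + (orb ψ).card := by
    rw [← hcp, ← hcompl, add_comm, Finset.card_sdiff_add_card_eq_card hgood]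
  have hS2 : 2 * (orb ψ).card ≤ S.card := by
    have hd : Disjoint (orb ψ) (orb θ) := by
      rw [Finset.disjoint_left]
      intro a h1 h2
      exact hr (H13.TI.rel_trans C (mem_orb.1 h1) (H13.TI.rel_symm C (mem_orb.1 h2)))
    have := Finset.card_le_card (Finset.union_subset horb (fun a ha => mem_supp.2 (by
      rw [mult_rel χ (mem_orb.1 ha)]; exact hθ0) : orb θ ⊆ S))
    rw [Finset.card_union_of_disjoint hd, hcθ] at this
    omega
  have he : 0 < (orb ψ).card := Finset.card_pos.2 ⟨ψ, self_mem_orb ψ⟩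
  have hr1 : 0 < r - 1 := by have := hH.prime.two_le; omega
  have hnr : n ≤ r - 1 := Nat.le_of_dvd hr1 D.dvd
  have hdn' : S.card ≤ n := hcardS ▸ Nat.le_of_dvd D.pos hdn
  obtain ⟨q, hq⟩ := hH.pred_dvd_cls ψ
  have hq1 : q = 1 := by
    rcases Nat.lt_or_ge q 2 with h | h
    · interval_cases q
      · omega
      · rfl
    · have := Nat.mul_le_mul_left (r - 1) h
      omega
  rw [hq1, mul_one, hK] at hq
  have hdvd : S.card ∣ S.card + (orb ψ).card := by
    rw [hq, hcardS]
    exact hdn.trans D.dvd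
  have := Nat.le_of_dvd he ((Nat.dvd_add_right (dvd_refl _)).1 hdvd)
  omega

/-- There is no such situation. -/
theorem EigData.false (D : EigData hH n) : False := by
  classical
  obtain ⟨ψ, hψx, hη⟩ := D.exists_orbit ⟨0, D.pos⟩
  set η := D.ch ⟨0, D.pos⟩ with hηdef
  set x' : C := ⟨x, hH.le hH.mem⟩ with hx'
  have hψ : Good R ψ := hH.good_of_x hψx
  set e := (orb ψ).card with he
  have he1 : 0 < e := Finset.card_pos.2 ⟨ψ, self_mem_orb ψ⟩
  have he2 : e ≠ 1 := by
    intro h1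
    obtain ⟨g, hg⟩ := hH.ne_top
    refine hg (hH.cent x hH.mem hH.x_ne g (D.lin (fun i => ?_) g x))
    rw [D.deg_eq i ⟨0, D.pos⟩, ← hηdef, hη.degree hH, ← he, h1]
  obtain ⟨η₂, hη₂⟩ := hH.exists_square hη
  have horbx : ∀ a ∈ orb ψ, a x' ≠ 1 := by
    intro a ha
    exact ((D.shape ⟨0, D.pos⟩).1 a (by rw [← hηdef, (hη a).1 (mem_orb.1 ha)]; exact one_ne_zero)).2
  have hprodx : ∀ a ∈ orb ψ, ∀ b ∈ orb ψ, a x' * b x' ≠ 1 := by
    intro a ha b hb
    obtain ⟨g, rfl⟩ := H13.TI.rel_trans C (H13.TI.rel_symm C (mem_orb.1 ha)) (mem_orb.1 hb)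
    rw [mul_comm]
    exact hH.tw_apply_x_not_inv (horbx a ha) g
  have hψ2x : (ψ ^ 2) x' ≠ 1 := by
    have := hprodx ψ (self_mem_orb ψ) ψ (self_mem_orb ψ)
    simpa [pow_two] using this
  have hψ2 : Good R (ψ ^ 2) := hH.good_of_x hψ2x
  -- the two products
  let A : G → ℂ := fun g => (η : G → ℂ) g * (η : G → ℂ) g
  let B : G → ℂ := fun g => (η : G → ℂ) g * conj ((η : G → ℂ) g)
  have hA : IsCharacter G A := H12.IsCharacter.mul (H12.isCharacter_irr η) (H12.isCharacter_irr η)
  have hB : IsCharacter G B := H12.IsCharacter.mul (H12.isCharacter_irr η)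
    (H12.IsCharacter.star (H12.isCharacter_irr η))
  have hAB : classInner A A = classInner B B := by
    simp only [H12.classInner_def, A, B, map_mul, Complex.conj_conj]
    congr 1
    exact Finset.sum_congr rfl fun g _ => by ring
  have hAB' : classInner (fun c : C => A c) (fun c : C => A c) =
      classInner (fun c : C => B c) (fun c : C => B c) := by
    simp only [H12.classInner_def, A, B, map_mul, Complex.conj_conj]
    congr 1
    exact Finset.sum_congr rfl fun g _ => by ring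
  obtain ⟨a, haA⟩ := H12.IsCharacter.exists_mult hA
  obtain ⟨b, hbB⟩ := H12.IsCharacter.exists_mult hB
  set MA : (C →* ℂˣ) → ℕ := fun θ => ∑ χ, a χ * mult χ θ with hMA
  set MB : (C →* ℂˣ) → ℕ := fun θ => ∑ χ, b χ * mult χ θ with hMB
  have hMF : ∀ (F : G → ℂ) (m : IrrCharacter G → ℕ),
      F = ∑ χ, (m χ : ℂ) • (χ : G → ℂ) → ∀ θ : C →* ℂˣ,
      classInner (fun c : C => F c) (lf θ) = ((∑ χ, m χ * mult χ θ : ℕ) : ℂ) := by
    intro F m hF θ
    have e1 : (fun c : C => F c) = ∑ χ, (m χ : ℂ) • fun c : C => (χ : G → ℂ) c := by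
      funext c
      simp [hF, Finset.sum_apply]
    rw [e1, H12.classInner_sum_left]
    push_cast
    simp only [H12.classInner_smul_left, mult_spec]
  have hnA : classInner A A = ((∑ χ, a χ * a χ : ℕ) : ℂ) := by
    rw [haA, H12.classInner_sum_smul_sum_smul]
    push_cast
    simp [Complex.conj_natCast]
  have hnB : classInner B B = ((∑ χ, b χ * b χ : ℕ) : ℂ) := by
    rw [hbB, H12.classInner_sum_smul_sum_smul]
    push_cast
    simp [Complex.conj_natCast]
  have hrA : classInner (fun c : C => A c) (fun c : C => A c) = ((∑ θ, MA θ * MA θ : ℕ) : ℂ) := by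
    rw [hH.parseval]
    push_cast
    exact Finset.sum_congr rfl fun θ _ => by rw [hMF A a haA, Complex.conj_natCast, hMA]
  have hrB : classInner (fun c : C => B c) (fun c : C => B c) = ((∑ θ, MB θ * MB θ : ℕ) : ℂ) := by
    rw [hH.parseval]
    push_cast
    exact Finset.sum_congr rfl fun θ _ => by rw [hMF B b hbB, Complex.conj_natCast, hMB]
  have hab : ∑ χ, a χ * a χ = ∑ χ, b χ * b χ := by
    exact_mod_cast (hnA.symm.trans (hAB.trans hnB))
  have hSS : ∑ θ, MA θ * MA θ = ∑ θ, MB θ * MB θ := by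
    exact_mod_cast (hrA.symm.trans (hAB'.trans hrB))
  -- supports
  have hlfmul : ∀ p q : C →* ℂˣ, ∀ c : C, lf p c * lf q c = lf (p * q) c := fun p q c => by
    simp [lf]
  have hAval : ∀ θ : C →* ℂˣ, MA θ ≠ 0 → ∃ p ∈ orb ψ, ∃ q ∈ orb ψ, p * q = θ := by
    intro θ hθ
    by_contra hno
    apply hθ
    have h := hMF A a haA θ
    have e1 : (fun c : C => A c) = ∑ p ∈ orb ψ, ∑ q ∈ orb ψ, lf (p * q) := by
      funext c
      simp only [A, hη.res hH, Finset.sum_apply, Finset.sum_mul_sum, hlfmul]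
    rw [e1, H12.classInner_sum_left] at h
    simp only [H12.classInner_sum_left, H13.TI.lf_inner] at h
    rw [Finset.sum_eq_zero (fun p hp => Finset.sum_eq_zero fun q hq =>
      if_neg fun e => hno ⟨p, hp, q, hq, e⟩)] at h
    have := h.symm
    exact_mod_cast this
  have hBval : ∀ θ : C →* ℂˣ, MB θ ≠ 0 → ∃ p ∈ orb ψ, ∃ q ∈ orb ψ, p * q⁻¹ = θ := by
    intro θ hθ
    by_contra hno
    apply hθ
    have h := hMF B b hbB θ
    have e1 : (fun c : C => B c) = ∑ p ∈ orb ψ, ∑ q ∈ orb ψ, lf (p * q⁻¹) := by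
      funext c
      simp only [B, hη.res hH, Finset.sum_apply, map_sum, H13.TI.conj_lf, Finset.sum_mul_sum,
        hlfmul]
    rw [e1, H12.classInner_sum_left] at h
    simp only [H12.classInner_sum_left, H13.TI.lf_inner] at h
    rw [Finset.sum_eq_zero (fun p hp => Finset.sum_eq_zero fun q hq =>
      if_neg fun e => hno ⟨p, hp, q, hq, e⟩)] at h
    have := h.symm
    exact_mod_cast this
  have hMAne : ∀ χ θ, a χ ≠ 0 → mult χ θ ≠ 0 → MA θ ≠ 0 := by
    intro χ θ h1 h2 h
    have := (Finset.sum_eq_zero_iff.1 h) χ (Finset.mem_univ χ)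
    exact mul_ne_zero h1 h2 this
  have hsame : ∀ p ∈ orb ψ, Same ψ p := fun p hp => same_of_rel (mem_orb.1 hp)
  have hsupA : ∀ χ, a χ ≠ 0 → ∀ θ : C →* ℂˣ, mult χ θ ≠ 0 → θ ∈ cls R (ψ ^ 2) := by
    intro χ h1 θ h2
    obtain ⟨p, hp, q, hq, rfl⟩ := hAval θ (hMAne χ θ h1 h2)
    refine mem_cls.2 ⟨fun c hc => ?_, hH.good_of_x (hprodx p hp q hq)⟩
    rw [pow_two, MonoidHom.mul_apply, MonoidHom.mul_apply, ← hsame p hp c hc, ← hsame q hq c hc]
  have hchoice : ∀ χ : IrrCharacter G, ∃ φ : C →* ℂˣ, a χ ≠ 0 → φ ∈ cls R (ψ ^ 2) ∧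
      IsOrbitChar χ φ ∧ ∀ χ' : IrrCharacter G,
        (∀ θ : C →* ℂˣ, mult χ' θ ≠ 0 → θ ∈ cls R (ψ ^ 2)) → mult χ' φ ≠ 0 → χ' = χ := by
    intro χ
    by_cases h : a χ = 0
    · exact ⟨1, fun h' => absurd h h'⟩
    · obtain ⟨φ, h1, h2, h3⟩ := hH.coherence hψ2 hη₂ (hsupA χ h)
      exact ⟨φ, fun _ => ⟨h1, h2, h3⟩⟩
  choose ph hph using hchoice
  have hperp : ∀ χ χ', a χ ≠ 0 → a χ' ≠ 0 → χ ≠ χ' → ∀ θ : C →* ℂˣ,
      mult χ θ * mult χ' θ = 0 := by
    intro χ χ' h1 h2 hne θ
    by_contra h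
    obtain ⟨hm1, hm2⟩ := mul_ne_zero_iff.1 h
    have hr : Rel C (ph χ) θ := by
      by_contra hn
      exact hm1 (((hph χ h1).2.1 θ).2 hn)
    refine hne ((hph χ h1).2.2 χ' (hsupA χ' h2) ?_).symm
    rw [← mult_rel χ' hr]
    exact hm2
  -- the sum of squares for `A`
  have hsumA : ∑ θ, MA θ * MA θ = e * ∑ χ, a χ * a χ := by
    simp only [hMA, Finset.sum_mul_sum]
    rw [Finset.sum_comm, Finset.mul_sum]
    refine Finset.sum_congr rfl fun χ _ => ?_
    rw [Finset.sum_comm, Finset.sum_eq_single χ]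
    · by_cases h1 : a χ = 0
      · simp [h1]
      have hv : ∀ θ : C →* ℂˣ, mult χ θ * mult χ θ = if Rel C (ph χ) θ then 1 else 0 := by
        intro θ
        split_ifs with hr
        · rw [((hph χ h1).2.1 θ).1 hr]
        · rw [((hph χ h1).2.1 θ).2 hr]
      simp only [show ∀ θ : C →* ℂˣ, a χ * mult χ θ * (a χ * mult χ θ) =
        a χ * a χ * (mult χ θ * mult χ θ) from fun θ => by ring, hv, mul_ite, mul_one, mul_zero]
      rw [← Finset.sum_filter, Finset.sum_const, smul_eq_mul]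
      congr 1
      rw [he, ← hH.card_orb (mem_cls.1 (hph χ h1).1).2 hψ, orb]
    · intro χ' _ hne
      refine Finset.sum_eq_zero fun θ _ => ?_
      by_cases h1 : a χ = 0
      · simp [h1]
      by_cases h2 : a χ' = 0
      · simp [h2]
      rw [show a χ * mult χ θ * (a χ' * mult χ' θ) = a χ * a χ' * (mult χ θ * mult χ' θ) by ring,
        hperp χ χ' h1 h2 hne.symm θ, mul_zero]
    · intro h
      exact absurd (Finset.mem_univ _) h
  -- the sum of squares for `B`
  have hB1 : MB 1 = e := by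
    have h := hMF B b hbB 1
    have e1 : classInner (fun c : C => B c) (lf (1 : C →* ℂˣ)) =
        classInner (fun c : C => (η : G → ℂ) c) (fun c : C => (η : G → ℂ) c) := by
      simp [H12.classInner_def, lf, B]
    rw [e1, hH.parseval] at h
    have h' : (e : ℂ) = ((∑ χ, b χ * mult χ (1 : C →* ℂˣ) : ℕ) : ℂ) := by
      rw [← h]
      simp only [mult_spec, Complex.conj_natCast]
      rw [he, orb, Finset.card_eq_sum_ones, Finset.sum_filter]
      push_cast
      refine Finset.sum_congr rfl fun θ _ => ?_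
      split_ifs with hr
      · rw [(hη θ).1 hr]; simp
      · rw [(hη θ).2 hr]; simp
    exact_mod_cast h'.symm
  let one : IrrCharacter G := H12.oneIrr G
  have hb1 : b one = 1 := by
    have h : classInner B (one : G → ℂ) = (b one : ℂ) := by
      rw [hbB, H12.classInner_sum_smul_irr]
    have e1 : classInner B (one : G → ℂ) = classInner (η : G → ℂ) (η : G → ℂ) := by
      simp [H12.classInner_def, B, one, H12.oneIrr_apply]
    rw [e1, H12.classInner_irr_self] at h
    exact_mod_cast h.symm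
  have horbB : ∀ χ, χ ≠ one → b χ ≠ 0 →
      ∃ φ : C →* ℂˣ, φ ≠ 1 ∧ Good R φ ∧ ∀ θ ∈ orb φ, 1 ≤ mult χ θ := by
    intro χ hne hb
    by_contra hno
    apply hne
    refine Subtype.ext ?_
    show (χ : G → ℂ) = fun g => (one : G → ℂ) g
    rw [hH.kerR χ ?_]
    · funext g; simp [one, H12.oneIrr_apply]
    intro y hy
    have hy' : ∀ θ : C →* ℂˣ, mult χ θ ≠ 0 → θ ⟨y, hH.le hy⟩ = 1 := by
      intro θ hθ
      by_contra h
      refine hno ⟨θ, ?_, ⟨⟨y, hH.le hy⟩, hy, h⟩, fun φ hφ => ?_⟩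
      · rintro rfl; exact h rfl
      · rw [mult_rel χ (mem_orb.1 hφ)]; omega
    have h1 := hH.res_eq χ ⟨y, hH.le hy⟩
    have h2 := hH.res_eq χ 1
    rw [OneMemClass.coe_one] at h2
    refine h1.trans (Eq.trans ?_ h2.symm)
    refine Finset.sum_congr rfl fun θ _ => ?_
    by_cases h : mult χ θ = 0
    · simp [h]
    · simp [lf, hy' θ h]
  have hmain : e * ∑ χ ∈ Finset.univ.erase one, b χ * b χ ≤
      ∑ θ ∈ Finset.univ.erase (1 : C →* ℂˣ), MB θ * MB θ := by
    rw [Finset.mul_sum]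
    calc ∑ χ ∈ Finset.univ.erase one, e * (b χ * b χ)
        ≤ ∑ χ ∈ Finset.univ.erase one, ∑ θ ∈ Finset.univ.erase (1 : C →* ℂˣ),
            (b χ * mult χ θ) * (b χ * mult χ θ) := by
          refine Finset.sum_le_sum fun χ hχ => ?_
          by_cases hb : b χ = 0
          · simp [hb]
          obtain ⟨φ, hφ1, hφg, hφ⟩ := horbB χ (Finset.ne_of_mem_erase hχ) hb
          have hsub : orb φ ⊆ Finset.univ.erase (1 : C →* ℂˣ) := by
            intro θ hθ
            rw [Finset.mem_erase]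
            refine ⟨?_, Finset.mem_univ _⟩
            rintro rfl
            obtain ⟨c, -, hc⟩ := hH.good_of_rel (mem_orb.1 hθ) hφg
            exact hc rfl
          calc e * (b χ * b χ) = ∑ _θ ∈ orb φ, b χ * b χ := by
                rw [Finset.sum_const, smul_eq_mul, hH.card_orb hφg hψ, ← he]
            _ ≤ ∑ θ ∈ orb φ, (b χ * mult χ θ) * (b χ * mult χ θ) := Finset.sum_le_sum fun θ hθ =>
                Nat.mul_le_mul (Nat.le_mul_of_pos_right _ (hφ θ hθ))
                  (Nat.le_mul_of_pos_right _ (hφ θ hθ))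
            _ ≤ _ := Finset.sum_le_sum_of_subset hsub
      _ = ∑ θ ∈ Finset.univ.erase (1 : C →* ℂˣ), ∑ χ ∈ Finset.univ.erase one,
            (b χ * mult χ θ) * (b χ * mult χ θ) := Finset.sum_comm
      _ ≤ ∑ θ ∈ Finset.univ.erase (1 : C →* ℂˣ), MB θ * MB θ := by
          refine Finset.sum_le_sum fun θ _ => ?_
          simp only [hMB, Finset.sum_mul]
          refine le_trans (Finset.sum_le_sum fun χ _ => ?_)
            (Finset.sum_le_sum_of_subset (Finset.subset_univ _))
          exact Nat.mul_le_mul_left _ (Finset.single_le_sum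
            (f := fun χ => b χ * mult χ θ) (fun _ _ => Nat.zero_le _) (Finset.mem_univ χ))
  have hsplitB := Finset.add_sum_erase Finset.univ (fun χ => b χ * b χ) (Finset.mem_univ one)
  have hsplitM := Finset.add_sum_erase Finset.univ (fun θ => MB θ * MB θ)
    (Finset.mem_univ (1 : C →* ℂˣ))
  simp only [hb1, hB1, one_mul] at hsplitB hsplitM
  rw [hSS, hab, ← hsplitB, ← hsplitM, mul_add, mul_one] at hsumA
  have h2 : 2 ≤ e := by omega
  have h3 : 2 * e ≤ e * e := Nat.mul_le_mul_right e h2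
  omega

end H66.OddLin
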