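import Cfsg.Agent.S0729
import Cfsg.Agent.S0741
import Cfsg.Agent.H59.ZKernel
import Cfsg.Agent.H2.FPFSubgroup
import Cfsg.Agent.H29.FrattiniBasis
import Cfsg.Prelude.Def_LieExceptional

/-!
A simple group is never sharply triply transitive of even degree: the transfer into the
stabiliser of a pair of points is non-trivial.
-/

set_option autoImplicit false

namespace H66.Sharp

open MulAction

variable {G Ω : Type*} [Group G] [MulAction G Ω]

/-- stabiliser of the pair `{a, b}` -/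
def pairStab (G : Type*) {Ω : Type*} [Group G] [MulAction G Ω] (a b : Ω) : Subgroup G where
  carrier := {g | (g • a = a ∧ g • b = b) ∨ (g • a = b ∧ g • b = a)}
  one_mem' := Or.inl ⟨one_smul _ _, one_smul _ _⟩
  mul_mem' := by
    rintro g h (⟨h1, h2⟩ | ⟨h1, h2⟩) (⟨h3, h4⟩ | ⟨h3, h4⟩) <;>
      simp only [Set.mem_ofPred_eq, Set.mem_setOf_eq, mul_smul, h3, h4, h1, h2, and_self, true_or, or_true]
  inv_mem' := by
    rintro g (⟨h1, h2⟩ | ⟨h1, h2⟩)
    · exact Or.inl ⟨inv_smul_eq_iff.mpr h1.symm, inv_smul_eq_iff.mpr h2.symm⟩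
    · exact Or.inr ⟨inv_smul_eq_iff.mpr h2.symm, inv_smul_eq_iff.mpr h1.symm⟩

theorem card_le_two_of_hom [Finite G] [IsSimpleGroup G] (f : G →* ℤˣ) {y : G} (hy : f y ≠ 1) :
    Nat.card G ≤ 2 := by
  have hk : f.ker = ⊥ := (f.normal_ker.eq_bot_or_eq_top).resolve_right
    (fun h => hy (MonoidHom.mem_ker.mp (h ▸ Subgroup.mem_top y)))
  refine le_trans (Nat.card_le_card_of_injective f ((MonoidHom.ker_eq_bot_iff f).mp hk)) ?_
  rw [Nat.card_eq_fintype_card, Fintype.card_units_int]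

/-- the transfer argument -/
theorem false_of_half [Finite G] [IsSimpleGroup G] (hcard : 2 < Nat.card G)
    (h3 : ∀ g : G, ∀ x y z : Ω, x ≠ y → y ≠ z → x ≠ z → g • x = x → g • y = y → g • z = z → g = 1)
    (htr : ∀ x y z x' y' z' : Ω, x ≠ y → y ≠ z → x ≠ z → x' ≠ y' → y' ≠ z' → x' ≠ z' →
      ∃ g : G, g • x = x' ∧ g • y = y' ∧ g • z = z')
    {a b c : Ω} (hab : a ≠ b) (hac : a ≠ c) (hbc : b ≠ c) {s : G}
    (hsa : s • a = b) (hsb : s • b = a) (hsc : s • c = c)
    {H : Subgroup G} (hH : H = stabilizer G a ⊓ stabilizer G b)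
    (χ : H →* ℤˣ) {h₀ : H} (hχ : χ h₀ ≠ 1)
    (hχs : ∀ h h' : H, (h' : G) = s * h * s⁻¹ → χ h' = χ h) :
    False := by
  classical
  have hm : ∀ {g : G}, g ∈ H ↔ g ∈ stabilizer G a ∧ g ∈ stabilizer G b := fun {g} => by
    rw [hH, Subgroup.mem_inf]
  have hs2 : s * s = 1 := h3 _ a b c hab hbc hac
    (by rw [mul_smul, hsa, hsb]) (by rw [mul_smul, hsb, hsa]) (by rw [mul_smul, hsc, hsc])
  have hsi : s⁻¹ = s := inv_eq_of_mul_eq_one_right hs2
  have hconjH : ∀ h ∈ H, s * h * s⁻¹ ∈ H := fun h hh => by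
    obtain ⟨h1, h2⟩ := hm.mp hh
    refine hm.mpr ⟨mem_stabilizer_iff.mpr ?_, mem_stabilizer_iff.mpr ?_⟩
    · rw [hsi, mul_smul, mul_smul, hsa, mem_stabilizer_iff.mp h2, hsb]
    · rw [hsi, mul_smul, mul_smul, hsb, mem_stabilizer_iff.mp h1, hsa]
  set K := pairStab G a b with hK
  have hsK : s ∈ K := Or.inr ⟨hsa, hsb⟩
  have hHK : ∀ h ∈ H, h ∈ K := fun h hh => Or.inl (hm.mp hh)
  have hsplit : ∀ g ∈ K, g ∉ H → s * g ∈ H := by
    rintro g (⟨h1, h2⟩ | ⟨h1, h2⟩) hg
    · exact absurd (hm.mpr ⟨h1, h2⟩) hg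
    · exact hm.mpr ⟨mem_stabilizer_iff.mpr (by rw [mul_smul, h1, hsb]),
        mem_stabilizer_iff.mpr (by rw [mul_smul, h2, hsa])⟩
  -- extend `χ` to the stabiliser of the pair
  let Φ : G → ℤˣ := fun g => if hg : g ∈ H then χ ⟨g, hg⟩ else
    if hg' : s * g ∈ H then χ ⟨s * g, hg'⟩ else 1
  have hΦH : ∀ g (hg : g ∈ H), Φ g = χ ⟨g, hg⟩ := fun g hg => dif_pos hg
  have hsH : ∀ g ∈ H, s * g ∉ H := fun g hg h => hab (by
    have := mem_stabilizer_iff.mp (hm.mp h).1
    rwa [mul_smul, mem_stabilizer_iff.mp (hm.mp hg).1, hsa, eq_comm] at this)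
  have hΦs : ∀ g (hg : g ∈ H), Φ (s * g) = χ ⟨g, hg⟩ := fun g hg => by
    have e : s * (s * g) = g := by rw [← mul_assoc, hs2, one_mul]
    show dite _ _ _ = _
    rw [dif_neg (hsH g hg), dif_pos (by rwa [e])]
    exact congrArg χ (Subtype.ext e)
  have hform : ∀ g ∈ K, g ∈ H ∨ ∃ h ∈ H, g = s * h := fun g hg => by
    by_cases hgH : g ∈ H
    · exact Or.inl hgH
    · exact Or.inr ⟨s * g, hsplit g hg hgH, by rw [← mul_assoc, hs2, one_mul]⟩
  have hΦmul : ∀ g ∈ K, ∀ g' ∈ K, Φ (g * g') = Φ g * Φ g' := by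
    intro g hg g' hg'
    rcases hform g hg with h1 | ⟨x, hx, rfl⟩ <;> rcases hform g' hg' with h2 | ⟨x', hx', rfl⟩
    · rw [hΦH g h1, hΦH g' h2, hΦH _ (mul_mem h1 h2), ← map_mul]; rfl
    · have e : g * (s * x') = s * (s * g * s⁻¹ * x') := by
        rw [hsi]
        calc g * (s * x') = (s * s) * g * s * x' := by rw [hs2]; group
          _ = _ := by group
      rw [e, hΦs _ (mul_mem (hconjH g h1) hx'), hΦH g h1, hΦs x' hx',
        ← hχs ⟨g, h1⟩ ⟨_, hconjH g h1⟩ rfl, ← map_mul]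
      rfl
    · rw [mul_assoc, hΦs _ (mul_mem hx h2), hΦs x hx, hΦH g' h2, ← map_mul]; rfl
    · have e : s * x * (s * x') = s * x * s⁻¹ * x' := by rw [hsi]; group
      rw [e, hΦH _ (mul_mem (hconjH x hx) hx'), hΦs x hx, hΦs x' hx',
        ← hχs ⟨x, hx⟩ ⟨_, hconjH x hx⟩ rfl, ← map_mul]
      rfl
  let ϕ : K →* ℤˣ :=
    { toFun := fun g => Φ g
      map_one' := by rw [Subgroup.coe_one, hΦH 1 (one_mem _)]; exact map_one χ
      map_mul' := fun g g' => hΦmul g g.2 g' g'.2 }
  -- involutions exchanging `a` and `b` with a further fixed point are in the kernel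
  have hinv : ∀ w ∈ K, w • a = b → w • b = a → ∀ p : Ω, p ≠ a → p ≠ b → w • p = p → Φ w = 1 := by
    intro w hw hwa hwb p hpa hpb hwp
    obtain ⟨k, hk1, hk2, hk3⟩ := htr a b c a b p hab hbc hac hab (Ne.symm hpb) (Ne.symm hpa)
    have hk : k ∈ H := hm.mpr ⟨hk1, hk2⟩
    have hk' : ∀ q : Ω, k • q = q → k⁻¹ • q = q := fun q hq => inv_smul_eq_iff.mpr hq.symm
    have e : w = k * s * k⁻¹ := by
      refine (inv_mul_eq_one.mp (h3 ((k * s * k⁻¹)⁻¹ * w) a b p hab (Ne.symm hpb) (Ne.symm hpa)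
        ?_ ?_ ?_)).symm
      · rw [mul_smul, hwa, inv_smul_eq_iff, mul_smul, mul_smul, hk' a hk1, hsa, hk2]
      · rw [mul_smul, hwb, inv_smul_eq_iff, mul_smul, mul_smul, hk' b hk2, hsb, hk1]
      · rw [mul_smul, hwp, inv_smul_eq_iff, ← hk3, mul_smul, mul_smul, inv_smul_smul, hsc]
    rw [e, hΦmul _ (mul_mem (hHK k hk) hsK) _ (inv_mem (hHK k hk)), hΦmul _ (hHK k hk) _ hsK,
      mul_comm (Φ k), mul_assoc, ← hΦmul _ (hHK k hk) _ (inv_mem (hHK k hk)), mul_inv_cancel,
      hΦH 1 (one_mem _), ← mul_one s, hΦs 1 (one_mem _)]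
    show χ 1 * χ 1 = 1
    rw [map_one, one_mul]
  -- evaluate the transfer
  haveI : K.FiniteIndex := inferInstance
  letI := Fintype.ofFinite (Quotient (orbitRel (Subgroup.zpowers (h₀ : G)) (G ⧸ K)))
  set y : G := (h₀ : G) with hy
  have hy1 : y ≠ 1 := fun h => hχ (by rw [show h₀ = 1 from Subtype.ext h, map_one])
  obtain ⟨hya, hyb⟩ := hm.mp h₀.2
  have hfix : ∀ z : G, z ≠ 1 → z • a = a → z • b = b → ∀ p : Ω, z • p = p → p = a ∨ p = b := by
    intro z hz h1 h2 p hp
    by_contra hne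
    push Not at hne
    exact hz (h3 z a b p hab (Ne.symm hne.2) (Ne.symm hne.1) h1 h2 hp)
  have hval : ∀ (g : G) (k : ℕ), g⁻¹ * y ^ k * g ∈ K → g ∉ K → Φ (g⁻¹ * y ^ k * g) = 1 := by
    intro g k hm hg
    by_cases hk : y ^ k = 1
    · rw [hk, mul_one, inv_mul_cancel, hΦH 1 (one_mem _)]; exact map_one χ
    have hka : (y ^ k) • a = a := pow_mem (show y ∈ stabilizer G a from hya) k
    have hkb : (y ^ k) • b = b := pow_mem (show y ∈ stabilizer G b from hyb) k
    have hgab : g • a ≠ g • b := fun h => hab (MulAction.injective g h)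
    rcases hm with ⟨h1, h2⟩ | ⟨h1, h2⟩
    · exfalso
      rw [mul_smul, mul_smul, inv_smul_eq_iff] at h1 h2
      rcases hfix _ hk hka hkb _ h1 with e1 | e1 <;> rcases hfix _ hk hka hkb _ h2 with e2 | e2
      · exact hgab (e1.trans e2.symm)
      · exact hg (Or.inl ⟨e1, e2⟩)
      · exact hg (Or.inr ⟨e1, e2⟩)
      · exact hgab (e1.trans e2.symm)
    · have hw : (g⁻¹ * y ^ k * g) • (g⁻¹ • a) = g⁻¹ • a := by
        rw [← mul_smul, mul_inv_cancel_right, mul_smul, hka]
      refine hinv _ (Or.inr ⟨h1, h2⟩) h1 h2 (g⁻¹ • a) ?_ ?_ hw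
      · intro e; rw [e, h1] at hw; exact hab hw.symm
      · intro e; rw [e, h2] at hw; exact hab hw
  set q₀ : Quotient (orbitRel (Subgroup.zpowers y) (G ⧸ K)) :=
    Quotient.mk'' ((1 : G) : G ⧸ K) with hq₀
  have horb : ∀ q, q ≠ q₀ → (Quotient.out q).out ∉ K := by
    intro q hq hm
    refine hq ?_
    rw [hq₀, ← Quotient.out_eq' q]
    refine congrArg _ ?_
    rw [← QuotientGroup.out_eq' (Quotient.out q), QuotientGroup.eq, mul_one]
    exact inv_mem hm
  have hmem0 : (Quotient.out q₀).out ∈ K ∧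
      Function.minimalPeriod (y • ·) (Quotient.out q₀) = 1 := by
    have hfixK : y • ((1 : G) : G ⧸ K) = ((1 : G) : G ⧸ K) := by
      show ((y * 1 : G) : G ⧸ K) = _
      rw [mul_one, QuotientGroup.eq, mul_one]
      exact inv_mem (hHK y h₀.2)
    have h1 := Quotient.exact' (Quotient.out_eq' q₀)
    obtain ⟨⟨z, hz⟩, hz'⟩ := h1
    have hz0 : Quotient.out q₀ = ((1 : G) : G ⧸ K) := by
      rw [← hz']
      obtain ⟨i, rfl⟩ := Subgroup.mem_zpowers_iff.mp hz
      exact (zpow_mem (show y ∈ stabilizer G ((1 : G) : G ⧸ K) from hfixK) i)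
    constructor
    · have := QuotientGroup.out_eq' (Quotient.out q₀)
      rw [hz0, QuotientGroup.eq, mul_one] at this
      have := inv_mem this
      rwa [inv_inv, ← hz0] at this
    · rw [hz0]
      exact Function.minimalPeriod_eq_one_iff_isFixedPt.mpr hfixK
  have hT : MonoidHom.transfer ϕ y ≠ 1 := by
    rw [MonoidHom.transfer_eq_prod_quotient_orbitRel_zpowers_quot,
      Finset.prod_eq_single q₀ (fun q _ hq => ?_) (fun h => absurd (Finset.mem_univ _) h)]
    · show Φ ((Quotient.out q₀).out⁻¹ * y ^ _ * (Quotient.out q₀).out) ≠ 1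
      rw [hmem0.2, pow_one]
      have hg := hmem0.1
      rw [hΦmul _ (mul_mem (inv_mem hg) (hHK y h₀.2)) _ hg, hΦmul _ (inv_mem hg) _ (hHK y h₀.2),
        mul_comm (Φ _) (Φ y), mul_assoc, ← hΦmul _ (inv_mem hg) _ hg, inv_mul_cancel,
        hΦH 1 (one_mem _), hΦH y h₀.2]
      show χ h₀ * χ 1 ≠ 1
      rw [map_one, mul_one]
      exact hχ
    · exact hval _ _ (QuotientGroup.out_conj_pow_minimalPeriod_mem K y (Quotient.out q)) (horb q hq)
  have := card_le_two_of_hom _ hT
  omega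

/-- a simple Zassenhaus group with even two-point stabiliser is not sharply triply transitive -/
theorem two_mul_le {G Ω : Type*} [Group G] [Finite G] [MulAction G Ω] [Fintype Ω]
    (hZ : Cfsg.IsZassenhausGroup G Ω) [IsSimpleGroup G] {a b : Ω} (hab : a ≠ b)
    (heven : Even (Nat.card ↥(stabilizer G a ⊓ stabilizer G b))) :
    2 * Nat.card ↥(stabilizer G a ⊓ stabilizer G b) ≤ Fintype.card Ω - 2 := by
  classical
  obtain ⟨hfaith, h2t, h3, -, -⟩ := id hZ
  haveI := hfaith
  set H := stabilizer G a ⊓ stabilizer G b with hH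
  letI : MulAction H {p : Ω // p ≠ a ∧ p ≠ b} :=
    { smul := fun h p => ⟨(h : G) • p.1,
        fun e => p.2.1 (MulAction.injective (h : G) (e.trans (Subgroup.mem_inf.mp h.2).1.symm)),
        fun e => p.2.2 (MulAction.injective (h : G) (e.trans (Subgroup.mem_inf.mp h.2).2.symm))⟩
      one_smul := fun p => Subtype.ext (one_smul G p.1)
      mul_smul := fun g h p => Subtype.ext (mul_smul (g : G) (h : G) p.1) }
  have hfree : ∀ (h : H) (p : {p : Ω // p ≠ a ∧ p ≠ b}), h • p = p → h = 1 := fun h p e =>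
    Subtype.ext (h3 (h : G) a b p.1 hab p.2.2.symm p.2.1.symm (Subgroup.mem_inf.mp h.2).1
      (Subgroup.mem_inf.mp h.2).2 (congrArg Subtype.val e))
  have hcard2 : Fintype.card {p : Ω // p ≠ a ∧ p ≠ b} = Fintype.card Ω - 2 := by
    rw [Fintype.card_subtype, show (Finset.univ.filter fun p : Ω => p ≠ a ∧ p ≠ b) =
      ({a, b} : Finset Ω)ᶜ by ext p; simp, Finset.card_compl, Finset.card_pair hab]
  have hdvd := Cfsg.Agent.H29.card_dvd_of_free_action hfree
  rw [Nat.card_eq_fintype_card (α := {p : Ω // p ≠ a ∧ p ≠ b}), hcard2] at hdvd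
  by_contra hlt
  rw [not_le] at hlt
  have hdeq : Nat.card H = Fintype.card Ω - 2 := by
    obtain ⟨k, hk⟩ := hdvd
    rcases k with _ | _ | k
    · have := Cfsg.Agent.S0741.result hZ hab heven
      have h0 : 0 < Nat.card H := Nat.card_pos
      obtain ⟨c, hc⟩ : ∃ c : Ω, c ≠ a ∧ c ≠ b := by
        by_contra hcon
        push Not at hcon
        obtain ⟨-, -, -, ⟨g, hg1, x, y, hxy, hgx, hgy⟩, -⟩ := hZ
        refine hg1 (eq_of_smul_eq_smul (α := Ω) fun p => ?_)
        rw [one_smul]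
        have hall : ∀ p, p = x ∨ p = y := fun p => by
          rcases eq_or_ne x a with rfl | hxa
          · rcases eq_or_ne p x with h | h
            · exact Or.inl h
            · exact Or.inr ((hcon p h).trans (hcon y (Ne.symm hxy)).symm)
          · have hxb := hcon x hxa
            rcases eq_or_ne y a with rfl | hya
            · rcases eq_or_ne p y with h | h
              · exact Or.inr h
              · exact Or.inl ((hcon p h).trans hxb.symm)
            · exact absurd (hxb.trans (hcon y hya).symm) hxy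
        rcases hall p with rfl | rfl
        · exact hgx
        · exact hgy
      have : 0 < Fintype.card {p : Ω // p ≠ a ∧ p ≠ b} := Fintype.card_pos_iff.mpr ⟨⟨c, hc⟩⟩
      omega
    · omega
    · have : Nat.card H * 2 ≤ Nat.card H * (k + 1 + 1) := Nat.mul_le_mul_left _ (by omega)
      omega
  have hH0 : 0 < Nat.card H := Nat.card_pos
  haveI : Nonempty {p : Ω // p ≠ a ∧ p ≠ b} := Fintype.card_pos_iff.mp (by omega)
  obtain ⟨⟨c, hca, hcb⟩⟩ := (inferInstance : Nonempty {p : Ω // p ≠ a ∧ p ≠ b})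
  -- sharply triply transitive
  have hHtr : ∀ p, p ≠ a → p ≠ b → ∀ q, q ≠ a → q ≠ b → ∃ h : G, h • a = a ∧ h • b = b ∧ h • p = q := by
    intro p hp1 hp2 q hq1 hq2
    let P : {p : Ω // p ≠ a ∧ p ≠ b} := ⟨p, hp1, hp2⟩
    have hinj : Function.Injective fun h : H => h • P := fun h h' e => by
      have := hfree (h'⁻¹ * h) P (by rw [mul_smul]; exact inv_smul_eq_iff.mpr e)
      exact (inv_mul_eq_one.mp this).symm
    obtain ⟨h, hh⟩ := (hinj.bijective_of_nat_card_le (by
      rw [Nat.card_eq_fintype_card (α := {p : Ω // p ≠ a ∧ p ≠ b}), hcard2, hdeq])).2 ⟨q, hq1, hq2⟩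
    exact ⟨h, (Subgroup.mem_inf.mp h.2).1, (Subgroup.mem_inf.mp h.2).2, congrArg Subtype.val hh⟩
  have htr : ∀ x y z x' y' z' : Ω, x ≠ y → y ≠ z → x ≠ z → x' ≠ y' → y' ≠ z' → x' ≠ z' →
      ∃ g : G, g • x = x' ∧ g • y = y' ∧ g • z = z' := by
    have hto : ∀ x y z : Ω, x ≠ y → y ≠ z → x ≠ z → ∃ g : G, g • x = a ∧ g • y = b ∧ g • z = c := by
      intro x y z hxy hyz hxz
      obtain ⟨g, g1, g2⟩ := (MulAction.is_two_pretransitive_iff.1 h2t) hxy hab
      obtain ⟨h, h1, h2, h3'⟩ := hHtr (g • z)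
        (fun e => hxz (MulAction.injective g (g1.trans e.symm)))
        (fun e => hyz (MulAction.injective g (g2.trans e.symm))) c hca hcb
      exact ⟨h * g, by rw [mul_smul, g1, h1], by rw [mul_smul, g2, h2], by rw [mul_smul, h3']⟩
    intro x y z x' y' z' h1 h2 h3 h4 h5 h6
    obtain ⟨g, g1, g2, g3⟩ := hto x y z h1 h2 h3
    obtain ⟨k, k1, k2, k3⟩ := hto x' y' z' h4 h5 h6
    refine ⟨k⁻¹ * g, ?_, ?_, ?_⟩
    · rw [mul_smul, g1, inv_smul_eq_iff, k1]
    · rw [mul_smul, g2, inv_smul_eq_iff, k2]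
    · rw [mul_smul, g3, inv_smul_eq_iff, k3]
  obtain ⟨s, hsa, hsb, hsc⟩ := htr a b c b a c hab hcb.symm hca.symm hab.symm hca.symm hcb.symm
  have hG2 : 2 < Nat.card G := by
    obtain ⟨h, h1, h2⟩ : ∃ h : G, h ∈ H ∧ h ≠ 1 := by
      have : 1 < Nat.card H := by
        obtain ⟨m, hm⟩ := heven; omega
      haveI : Nontrivial H := Finite.one_lt_card_iff_nontrivial.mp this
      obtain ⟨⟨h, hh⟩, hne⟩ := exists_ne (1 : H)
      exact ⟨h, hh, fun e => hne (Subtype.ext e)⟩
    have hs1 : s ≠ 1 := fun e => hab (by rw [← hsa, e, one_smul])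
    have hne : h ≠ s := fun e => hab (by rw [← hsa, ← e, (Subgroup.mem_inf.mp h1).1])
    letI := Fintype.ofFinite G
    rw [Nat.card_eq_fintype_card]
    exact Fintype.two_lt_card_iff.mpr ⟨1, h, s, h2.symm, hs1.symm, hne⟩
  -- an invariant character of order two of the two-point stabiliser
  obtain ⟨χ, h₀, hχ, hχs⟩ : ∃ (χ : H →* ℤˣ) (h₀ : H), χ h₀ ≠ 1 ∧
      ∀ h h' : H, (h' : G) = s * h * s⁻¹ → χ h' = χ h := by
    have hs2 : s * s = 1 := h3 _ a b c hab hcb.symm hca.symm
      (by rw [mul_smul, hsa, hsb]) (by rw [mul_smul, hsb, hsa]) (by rw [mul_smul, hsc, hsc])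
    have hkey : ∃ A : Subgroup H, A.index = 2 ∧
        ∀ h h' : H, (h' : G) = s * h * s⁻¹ → (h' ∈ A ↔ h ∈ A) := by
      by_cases h6 : 6 ≤ Fintype.card Ω
      · let f : G →* Equiv.Perm Ω := MulAction.toPermHom G Ω
        have hf : Function.Injective f := MulAction.toPerm_injective
        let e := MonoidHom.ofInjective hf
        have hsm : ∀ (g : G) (p : Ω), (e g) • p = g • p := fun g p => rfl
        have heven' : Even (Fintype.card Ω) := by
          obtain ⟨m, hm⟩ := heven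
          exact ⟨m + 1, by omega⟩
        obtain ⟨N, hNle, -, hN2, hNs⟩ := Cfsg.Agent.S0729.result heven' h6 f.range
          ⟨fun x y => by
            obtain ⟨g, g1, g2, g3⟩ := htr (x 0) (x 1) (x 2) (y 0) (y 1) (y 2)
              (x.injective.ne (by decide)) (x.injective.ne (by decide)) (x.injective.ne (by decide))
              (y.injective.ne (by decide)) (y.injective.ne (by decide)) (y.injective.ne (by decide))
            refine ⟨e g, ?_⟩
            ext i
            show e g • x i = y i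
            rw [hsm]
            fin_cases i
            · exact g1
            · exact g2
            · exact g3⟩
          (fun x => by
            rw [eq_bot_iff]
            rintro ⟨_, g, rfl⟩ hg
            have hx : ∀ i, g • x i = x i := fun i =>
              congrArg (fun v : Fin 3 ↪ Ω => v i) (mem_stabilizer_iff.mp hg)
            have hg1 : g = 1 := h3 g (x 0) (x 1) (x 2) (x.injective.ne (by decide))
              (x.injective.ne (by decide)) (x.injective.ne (by decide)) (hx 0) (hx 1) (hx 2)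
            subst hg1
            exact Subgroup.mem_bot.mpr (Subtype.ext (map_one f)))
          hab hca.symm hcb.symm (e s) hsa hsb hsc
        let ψ : H →* ↥(stabilizer f.range a ⊓ stabilizer f.range b) :=
          { toFun := fun h => ⟨e h, Subgroup.mem_inf.mpr
              ⟨(Subgroup.mem_inf.mp h.2).1, (Subgroup.mem_inf.mp h.2).2⟩⟩
            map_one' := Subtype.ext (map_one e)
            map_mul' := fun g h => Subtype.ext (map_mul e (g : G) (h : G)) }
        have hψ : Function.Surjective ψ := fun ⟨x, hx⟩ => by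
          obtain ⟨g, rfl⟩ := e.surjective x
          exact ⟨⟨g, Subgroup.mem_inf.mpr ⟨(Subgroup.mem_inf.mp hx).1, (Subgroup.mem_inf.mp hx).2⟩⟩,
            rfl⟩
        refine ⟨(N.subgroupOf _).comap ψ, by rw [Subgroup.index_comap_of_surjective _ hψ]; exact hN2,
          fun h h' hh => ?_⟩
        show e (h' : G) ∈ N ↔ e (h : G) ∈ N
        rw [hh, map_mul, map_mul, map_inv]
        refine ⟨fun h1 => ?_, hNs _⟩
        have h2 := hNs _ h1
        have es : e s * e s = 1 := by rw [← map_mul, hs2, map_one]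
        have esi : (e s)⁻¹ = e s := inv_eq_of_mul_eq_one_right es
        rw [esi] at h2
        have h4 : e (h : G) = e s * (e s * e (h : G) * e s) * e s := by
          calc e (h : G) = (e s * e s) * e (h : G) * (e s * e s) := by rw [es]; group
            _ = _ := by group
        rw [h4]
        exact h2
      · refine ⟨⊥, ?_, fun h h' hh => ?_⟩
        · rw [Subgroup.index_bot]
          obtain ⟨m, hm⟩ := heven
          omega
        · simp only [Subgroup.mem_bot, Subtype.ext_iff, Subgroup.coe_one, hh]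
          simp
    obtain ⟨A, hA, hAs⟩ := hkey
    obtain ⟨h₀, hh₀⟩ : ∃ h₀ : H, h₀ ∉ A := by
      by_contra hall
      push Not at hall
      rw [(Subgroup.eq_top_iff' A).mpr hall, Subgroup.index_top] at hA
      omega
    refine ⟨{ toFun := fun h => if h ∈ A then 1 else -1,
              map_one' := if_pos (one_mem A),
              map_mul' := fun g h => ?_ }, h₀, ?_, fun h h' hh => ?_⟩
    · by_cases hg : g ∈ A <;> by_cases hh : h ∈ A <;>
        simp [Subgroup.mul_mem_iff_of_index_two hA, hg, hh]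
    · show (if h₀ ∈ A then (1 : ℤˣ) else -1) ≠ 1
      rw [if_neg hh₀]; decide
    · show (if h' ∈ A then (1 : ℤˣ) else -1) = _
      simp [hAs h h' hh]
  exact false_of_half hG2 h3 htr hab hca.symm hcb.symm hsa hsb hsc hH χ hχ hχs

end H66.Sharp
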