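import Mathlib

/-!
Central extensions of elementary abelian 2-groups with the same squaring map are isomorphic.
-/

set_option autoImplicit false

namespace H66

variable {P A : Type*} [Group P] [Group A] [Finite P] [Finite A] {F : Type*} [AddCommGroup F]

theorem nonempty_mulEquiv_of_squares (π : P → F) (ρ : A → F)
    (hπ : ∀ x y, π (x * y) = π x + π y) (hρ : ∀ x y, ρ (x * y) = ρ x + ρ y)
    (hπs : Function.Surjective π) (hρs : Function.Surjective ρ)
    {Z : Type*} [AddCommGroup Z] (e : P → Z) (f : A → Z)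
    (he : ∀ x y, π x = 0 → π y = 0 → e (x * y) = e x + e y)
    (hf : ∀ x y, ρ x = 0 → ρ y = 0 → f (x * y) = f x + f y)
    (hei : ∀ x y, π x = 0 → π y = 0 → e x = e y → x = y)
    (hfi : ∀ x y, ρ x = 0 → ρ y = 0 → f x = f y → x = y)
    (hes : ∀ z, ∃ x, π x = 0 ∧ e x = z) (hfs : ∀ z, ∃ x, ρ x = 0 ∧ f x = z)
    (hcp : ∀ x, π x = 0 → ∀ y, x * y = y * x) (hca : ∀ x, ρ x = 0 → ∀ y, x * y = y * x)
    (hsqP : ∀ x, π (x * x) = 0) (hsqA : ∀ x, ρ (x * x) = 0)
    (hsq : ∀ x y, π x = ρ y → e (x * x) = f (y * y)) : Nonempty (P ≃* A) := by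
  have hπ1 : π 1 = 0 := by have h := hπ 1 1; rw [mul_one] at h; exact left_eq_add.mp h
  have hρ1 : ρ 1 = 0 := by have h := hρ 1 1; rw [mul_one] at h; exact left_eq_add.mp h
  have he1 : e 1 = 0 := by
    have h := he 1 1 hπ1 hπ1; rw [mul_one] at h; exact left_eq_add.mp h
  have hf1 : f 1 = 0 := by
    have h := hf 1 1 hρ1 hρ1; rw [mul_one] at h; exact left_eq_add.mp h
  have hπi : ∀ x, π x⁻¹ = -π x := fun x =>
    (neg_eq_of_add_eq_zero_left (by rw [← hπ, inv_mul_cancel, hπ1])).symm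
  have hρi : ∀ x, ρ x⁻¹ = -ρ x := fun x =>
    (neg_eq_of_add_eq_zero_left (by rw [← hρ, inv_mul_cancel, hρ1])).symm
  let H : Subgroup (P × A) :=
    { carrier := {x | π x.1 = ρ x.2}
      one_mem' := by show π 1 = ρ 1; rw [hπ1, hρ1]
      mul_mem' := fun {x y} hx hy => by
        show π (x.1 * y.1) = ρ (x.2 * y.2)
        rw [hπ, hρ, hx, hy]
      inv_mem' := fun {x} hx => by
        show π x.1⁻¹ = ρ x.2⁻¹
        rw [hπi, hρi, hx] }
  let N : Subgroup (P × A) :=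
    { carrier := {x | π x.1 = 0 ∧ ρ x.2 = 0 ∧ e x.1 = f x.2}
      one_mem' := ⟨hπ1, hρ1, by show e 1 = f 1; rw [he1, hf1]⟩
      mul_mem' := fun {x y} hx hy => ⟨by rw [Prod.fst_mul, hπ, hx.1, hy.1, add_zero],
        by rw [Prod.snd_mul, hρ, hx.2.1, hy.2.1, add_zero],
        by rw [Prod.fst_mul, Prod.snd_mul, he _ _ hx.1 hy.1, hf _ _ hx.2.1 hy.2.1, hx.2.2, hy.2.2]⟩
      inv_mem' := fun {x} hx => by
        have h1 : π x.1⁻¹ = 0 := by rw [hπi, hx.1, neg_zero]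
        have h2 : ρ x.2⁻¹ = 0 := by rw [hρi, hx.2.1, neg_zero]
        refine ⟨h1, h2, ?_⟩
        show e x.1⁻¹ = f x.2⁻¹
        have a1 := he _ _ h1 hx.1
        have a2 := hf _ _ h2 hx.2.1
        rw [inv_mul_cancel, he1] at a1
        rw [inv_mul_cancel, hf1] at a2
        rw [← neg_eq_of_add_eq_zero_left a1.symm, ← neg_eq_of_add_eq_zero_left a2.symm, hx.2.2] }
  have hsqN : ∀ x ∈ H, x * x ∈ N := fun x hx => ⟨hsqP _, hsqA _, hsq _ _ hx⟩
  have hcN : ∀ x ∈ H, ∀ y ∈ H, x * y * x⁻¹ * y⁻¹ ∈ N := by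
    intro x hx y hy
    have hcen : ∀ n ∈ N, ∀ w : P × A, n * w = w * n := fun n hn w =>
      Prod.ext (hcp _ hn.1 w.1) (hca _ hn.2.1 w.2)
    have e1 : x * y * x⁻¹ * y⁻¹ =
        ((x * y) * (x * y)) * (y⁻¹ * (x * x)⁻¹ * y) * (y * y)⁻¹ := by group
    rw [e1]
    refine mul_mem (mul_mem (hsqN _ (mul_mem hx hy)) ?_) (inv_mem (hsqN y hy))
    rw [mul_assoc, hcen _ (inv_mem (hsqN x hx)) y, inv_mul_cancel_left]
    exact inv_mem (hsqN x hx)
  have hNH : N ≤ H := fun x hx => hx.1.trans hx.2.1.symm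
  obtain ⟨T, ⟨hNT, hTH, hTK⟩, hmax⟩ := (Set.toFinite
    {T : Subgroup (P × A) | N ≤ T ∧ T ≤ H ∧ ∀ x ∈ T, π x.1 = 0 → x ∈ N}).exists_maximal
    ⟨N, le_rfl, hNH, fun x hx _ => hx⟩
  have hsurj : ∀ c : F, ∃ x ∈ T, π x.1 = c := by
    intro c
    by_contra hcon
    push Not at hcon
    obtain ⟨p, hp⟩ := hπs c
    obtain ⟨a, ha⟩ := hρs c
    set x : P × A := (p, a) with hx
    have hxH : x ∈ H := hp.trans ha.symm
    have hconj : ∀ y ∈ T, x⁻¹ * y * x ∈ T := fun y hy => by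
      have e1 : x⁻¹ * y * x = y * (y⁻¹ * x⁻¹ * y⁻¹⁻¹ * x⁻¹⁻¹) := by group
      rw [e1]
      exact mul_mem hy (hNT (hcN _ (inv_mem (hTH hy)) _ (inv_mem hxH)))
    have hxx : x * x ∈ T := hNT (hsqN x hxH)
    let T' : Subgroup (P × A) :=
      { carrier := {y | y ∈ T ∨ x⁻¹ * y ∈ T}
        one_mem' := Or.inl (one_mem _)
        mul_mem' := fun {y z} hy hz => by
          rcases hy with hy | hy <;> rcases hz with hz | hz
          · exact Or.inl (mul_mem hy hz)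
          · right
            have e1 : x⁻¹ * (y * z) = (x⁻¹ * y * x) * (x⁻¹ * z) := by group
            rw [e1]; exact mul_mem (hconj y hy) hz
          · right
            rw [← mul_assoc]; exact mul_mem hy hz
          · left
            have e1 : y * z = (x * x) * (x⁻¹ * (x⁻¹ * y) * x) * (x⁻¹ * z) := by group
            rw [e1]; exact mul_mem (mul_mem hxx (hconj _ hy)) hz
        inv_mem' := fun {y} hy => by
          rcases hy with hy | hy
          · exact Or.inl (inv_mem hy)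
          · right
            have e1 : x⁻¹ * y⁻¹ = (x * x)⁻¹ * (x * (x⁻¹ * y)⁻¹ * x⁻¹) := by group
            rw [e1]
            refine mul_mem (inv_mem hxx) ?_
            have e2 : x * (x⁻¹ * y)⁻¹ * x⁻¹ =
                (x * x) * (x⁻¹ * (x⁻¹ * y)⁻¹ * x) * (x * x)⁻¹ := by group
            rw [e2]
            exact mul_mem (mul_mem hxx (hconj _ (inv_mem hy))) (inv_mem hxx) }
    have hle : T ≤ T' := fun y hy => Or.inl hy
    have hT' : T' ≤ T := by
      refine hmax ⟨hNT.trans hle, ?_, ?_⟩ hle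
      · rintro y (hy | hy)
        · exact hTH hy
        · have := mul_mem hxH (hTH hy)
          rwa [mul_inv_cancel_left] at this
      · rintro y (hy | hy) hy0
        · exact hTK y hy hy0
        · exfalso
          refine hcon _ (inv_mem hy) ?_
          rw [Prod.fst_inv, hπi, Prod.fst_mul, hπ, Prod.fst_inv, hπi, hy0, add_zero, neg_neg]
          exact hp
    exact hcon x (hT' (Or.inr (by rw [inv_mul_cancel]; exact one_mem _))) hp
  have key1 : ∀ p : P, ∃ a : A, (p, a) ∈ T := by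
    intro p
    obtain ⟨y, hy, hyp⟩ := hsurj (π p)
    have h0 : π (y.1⁻¹ * p) = 0 := by rw [hπ, hπi, hyp, neg_add_cancel]
    obtain ⟨a', ha', hae⟩ := hfs (e (y.1⁻¹ * p))
    refine ⟨y.2 * a', ?_⟩
    have hm : ((y.1⁻¹ * p, a') : P × A) ∈ T := hNT ⟨h0, ha', hae.symm⟩
    have := mul_mem hy hm
    rwa [← Prod.mk.eta (p := y), Prod.mk_mul_mk, mul_inv_cancel_left] at this
  have key2 : ∀ a : A, ∃ p : P, (p, a) ∈ T := by
    intro a
    obtain ⟨y, hy, hyp⟩ := hsurj (ρ a)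
    have h0 : ρ (y.2⁻¹ * a) = 0 := by
      rw [hρ, hρi, ← (hTH hy : π y.1 = ρ y.2), hyp, neg_add_cancel]
    obtain ⟨p', hp', hpe⟩ := hes (f (y.2⁻¹ * a))
    refine ⟨y.1 * p', ?_⟩
    have hm : ((p', y.2⁻¹ * a) : P × A) ∈ T := hNT ⟨hp', h0, hpe⟩
    have := mul_mem hy hm
    rwa [← Prod.mk.eta (p := y), Prod.mk_mul_mk, mul_inv_cancel_left] at this
  have uniq1 : ∀ y ∈ T, y.1 = 1 → y.2 = 1 := fun y hy h => by
    obtain ⟨h1, h2, h3⟩ := hTK y hy (by rw [h, hπ1])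
    exact hfi _ _ h2 hρ1 (by rw [← h3, h, he1, hf1])
  have uniq2 : ∀ y ∈ T, y.2 = 1 → y.1 = 1 := fun y hy h => by
    have h0 : π y.1 = 0 := by rw [(hTH hy : π y.1 = ρ y.2), h, hρ1]
    obtain ⟨h1, h2, h3⟩ := hTK y hy h0
    exact hei _ _ h1 hπ1 (by rw [h3, h, hf1, he1])
  let φ : T →* P := (MonoidHom.fst P A).comp T.subtype
  let ψ : T →* A := (MonoidHom.snd P A).comp T.subtype
  have hφ : Function.Bijective φ := by
    refine ⟨(injective_iff_map_eq_one φ).mpr fun y hy => Subtype.ext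
      (Prod.ext hy (uniq1 y.1 y.2 hy)), fun p => ?_⟩
    obtain ⟨a, ha⟩ := key1 p
    exact ⟨⟨_, ha⟩, rfl⟩
  have hψ : Function.Bijective ψ := by
    refine ⟨(injective_iff_map_eq_one ψ).mpr fun y hy => Subtype.ext
      (Prod.ext (uniq2 y.1 y.2 hy) hy), fun a => ?_⟩
    obtain ⟨p, hp⟩ := key2 a
    exact ⟨⟨_, hp⟩, rfl⟩
  exact ⟨(MulEquiv.ofBijective φ hφ).symm.trans (MulEquiv.ofBijective ψ hψ)⟩

end H66
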