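import Cfsg.Prelude
import Cfsg.Agent.H1.Cores
import Cfsg.Agent.H10.PSolvable
import Cfsg.Agent.H31.InvariantMax
import Cfsg.Agent.H68.Quadratic

/-! In an odd order group, a Sylow `p`-subgroup with cyclic commutator subgroup over a self-centralising
elementary abelian normal `p`-subgroup is normal. -/

set_option autoImplicit false

namespace H66.SD

open scoped commutatorElement

variable {G : Type*} [Group G]

/-- The elements centralising `M` and sending each element of `V` into its coset modulo `M`. -/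
def stab (V M : Subgroup G) [V.Normal] : Subgroup G where
  carrier := {g | (∀ m ∈ M, g * m * g⁻¹ = m) ∧ ∀ v ∈ V, g * v * g⁻¹ * v⁻¹ ∈ M}
  one_mem' := by constructor <;> intros <;> simp [M.one_mem]
  mul_mem' := by
    intro a b ha hb
    refine ⟨fun m hm => ?_, fun v hv => ?_⟩
    · calc (a * b) * m * (a * b)⁻¹ = a * (b * m * b⁻¹) * a⁻¹ := by group
        _ = m := by rw [hb.1 m hm, ha.1 m hm]
    · have h1 := hb.2 v hv
      have h2 := ha.2 v hv
      have h3 := ha.1 _ h1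
      have : (a * b) * v * (a * b)⁻¹ * v⁻¹
          = (a * (b * v * b⁻¹ * v⁻¹) * a⁻¹) * (a * v * a⁻¹ * v⁻¹) := by group
      rw [this, h3]
      exact M.mul_mem h1 h2
  inv_mem' := by
    intro a ha
    refine ⟨fun m hm => ?_, fun v hv => ?_⟩
    · calc a⁻¹ * m * a⁻¹⁻¹ = a⁻¹ * (a * m * a⁻¹) * a := by rw [ha.1 m hm]; group
        _ = m := by group
    · have hw : a⁻¹ * v * a⁻¹⁻¹ ∈ V := Subgroup.Normal.conj_mem inferInstance v hv a⁻¹
      have h1 := ha.2 _ hw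
      have : a⁻¹ * v * a⁻¹⁻¹ * v⁻¹ = (a * (a⁻¹ * v * a⁻¹⁻¹) * a⁻¹ * (a⁻¹ * v * a⁻¹⁻¹)⁻¹)⁻¹ := by group
      rw [this]
      exact M.inv_mem h1

variable {p : ℕ} {V : Subgroup G} [V.Normal]

theorem stab_isPGroup (hVp : ∀ v ∈ V, v ^ p = 1) (hC : Subgroup.centralizer (V : Set G) ≤ V)
    {M : Subgroup G} (hMV : M ≤ V) : IsPGroup p (stab V M) := by
  intro g
  refine ⟨2, Subtype.ext ?_⟩
  obtain ⟨hfix, hmov⟩ := g.2
  have hp : (g : G) ^ p ∈ Subgroup.centralizer (V : Set G) := by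
    refine Subgroup.mem_centralizer_iff.mpr fun v hv => ?_
    set m := (g : G) * v * (g : G)⁻¹ * v⁻¹ with hm
    have key : ∀ k : ℕ, (g : G) ^ k * v * ((g : G) ^ k)⁻¹ = m ^ k * v := by
      intro k
      induction k with
      | zero => simp
      | succ k ih =>
        have h1 : (g : G) ^ (k + 1) * v * ((g : G) ^ (k + 1))⁻¹
            = (g : G) * ((g : G) ^ k * v * ((g : G) ^ k)⁻¹) * (g : G)⁻¹ := by
          rw [pow_succ']; group
        have h2 := hfix (m ^ k) (M.pow_mem (hmov v hv) k)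
        rw [h1, ih, pow_succ]
        calc (g : G) * (m ^ k * v) * (g : G)⁻¹
            = ((g : G) * m ^ k * (g : G)⁻¹) * ((g : G) * v * (g : G)⁻¹ * v⁻¹) * v := by group
          _ = _ := by rw [h2]
    have := key p
    rw [hVp m (hMV (hmov v hv)), one_mul] at this
    calc v * (g : G) ^ p = ((g : G) ^ p * v * ((g : G) ^ p)⁻¹) * (g : G) ^ p := by rw [this]
      _ = _ := by group
  rw [Subgroup.coe_pow, Subgroup.coe_one, pow_two, pow_mul]
  exact hVp _ (hC hp)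

theorem stab_le_normalizer {M : Subgroup G} {h : G} (hh : ∀ m ∈ M, h * m * h⁻¹ = m) :
    h ∈ Subgroup.normalizer (stab V M : Set G) := by
  have aux : ∀ h : G, (∀ m ∈ M, h * m * h⁻¹ = m) → ∀ u ∈ stab V M, h * u * h⁻¹ ∈ stab V M := by
    intro h hh u hu
    refine ⟨fun m hm => ?_, fun v hv => ?_⟩
    · have h1 : h⁻¹ * m * h = m := by
        calc h⁻¹ * m * h = h⁻¹ * (h * m * h⁻¹) * h := by rw [hh m hm]
          _ = m := by group
      calc h * u * h⁻¹ * m * (h * u * h⁻¹)⁻¹ = h * (u * (h⁻¹ * m * h) * u⁻¹) * h⁻¹ := by group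
        _ = m := by rw [h1, hu.1 m hm, hh m hm]
    · have hw : h⁻¹ * v * h⁻¹⁻¹ ∈ V := Subgroup.Normal.conj_mem inferInstance v hv h⁻¹
      have h1 := hu.2 _ hw
      have : h * u * h⁻¹ * v * (h * u * h⁻¹)⁻¹ * v⁻¹
          = h * (u * (h⁻¹ * v * h⁻¹⁻¹) * u⁻¹ * (h⁻¹ * v * h⁻¹⁻¹)⁻¹) * h⁻¹ := by group
      rw [this, hh _ h1]
      exact h1
  rw [Subgroup.mem_set_normalizer_iff]
  intro u
  refine ⟨aux h hh u, fun hu => ?_⟩
  have hh' : ∀ m ∈ M, h⁻¹ * m * h⁻¹⁻¹ = m := fun m hm => by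
    calc h⁻¹ * m * h⁻¹⁻¹ = h⁻¹ * (h * m * h⁻¹) * h := by rw [hh m hm]; group
      _ = m := by group
  have := aux h⁻¹ hh' _ hu
  simpa [mul_assoc] using this

variable [Finite G] [Fact p.Prime]

/-- A Sylow subgroup normalised by another one equals it. -/
theorem sylow_eq_of_le_normalizer (T₁ T₂ : Sylow p G)
    (h : (T₁ : Subgroup G) ≤ Subgroup.normalizer ((T₂ : Subgroup G) : Set G)) : T₁ = T₂ := by
  have hp := IsPGroup.to_sup_of_normal_right' T₁.isPGroup' T₂.isPGroup' h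
  have e1 := T₁.is_maximal' hp le_sup_left
  have e2 := T₂.is_maximal' hp le_sup_right
  exact Sylow.ext (e1.symm.trans e2)

theorem normal_of_cyclic_commutator (hodd : Odd (Nat.card G)) (hVc : ∀ u ∈ V, ∀ v ∈ V, u * v = v * u)
    (hVp : ∀ v ∈ V, v ^ p = 1) (hC : Subgroup.centralizer (V : Set G) ≤ V) (T : Sylow p G)
    (hVT : V ≤ (T : Subgroup G)) (hcyc : IsCyclic (commutator ↥(T : Subgroup G))) :
    (T : Subgroup G).Normal := by
  classical
  set L : Subgroup G := (commutator ↥(T : Subgroup G)).map (T : Subgroup G).subtype ⊓ V with hLdef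
  have hTL : ∀ t ∈ (T : Subgroup G), ∀ v ∈ V, t * v * t⁻¹ * v⁻¹ ∈ L := by
    intro t ht v hv
    refine Subgroup.mem_inf.mpr ⟨⟨⁅(⟨t, ht⟩ : (T : Subgroup G)), ⟨v, hVT hv⟩⁆,
      Subgroup.commutator_mem_commutator (Subgroup.mem_top _) (Subgroup.mem_top _), ?_⟩, ?_⟩
    · simp [commutatorElement_def]
    · exact V.mul_mem (Subgroup.Normal.conj_mem inferInstance v hv t) (V.inv_mem hv)
  have hLcyc : IsCyclic ↥L := by
    haveI : IsCyclic ↥((commutator ↥(T : Subgroup G)).map (T : Subgroup G).subtype) :=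
      isCyclic_of_surjective (Subgroup.equivMapOfInjective _ _ (Subgroup.subtype_injective _))
        (Subgroup.equivMapOfInjective _ _ (Subgroup.subtype_injective _)).surjective
    exact isCyclic_of_injective (Subgroup.inclusion (inf_le_left : L ≤ _))
      (Subgroup.inclusion_injective _)
  obtain ⟨l, hl⟩ := hLcyc.exists_generator
  have hLgen : ∀ x ∈ L, x ∈ Subgroup.zpowers (l : G) := by
    intro x hx
    obtain ⟨n, hn⟩ := Subgroup.mem_zpowers_iff.mp (hl ⟨x, hx⟩)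
    exact Subgroup.mem_zpowers_iff.mpr ⟨n, by simpa using congrArg Subtype.val hn⟩
  by_cases hl1 : (l : G) = 1
  · -- the action on `V` is trivial
    have hTV : (T : Subgroup G) ≤ V := by
      intro t ht
      refine hC (Subgroup.mem_centralizer_iff.mpr fun v hv => ?_)
      have := hLgen _ (hTL t ht v hv)
      rw [hl1, Subgroup.zpowers_one_eq_bot, Subgroup.mem_bot] at this
      calc v * t = (t * v * t⁻¹ * v⁻¹) * v * t := by rw [this, one_mul]
        _ = t * v := by group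
    rw [le_antisymm hTV hVT]
    infer_instance
  have hlV : (l : G) ∈ V := (Subgroup.mem_inf.mp l.2).2
  have hlord : orderOf (l : G) = p := orderOf_eq_prime (hVp _ hlV) hl1
  have hLz : L = Subgroup.zpowers (l : G) := le_antisymm hLgen (Subgroup.zpowers_le.mpr l.2)
  -- elements of order `p` generate `L`
  have hgenL : ∀ a ∈ L, a ≠ 1 → Subgroup.zpowers a = L := by
    intro a ha ha1
    have haV : a ∈ V := (Subgroup.mem_inf.mp ha).2
    refine Subgroup.eq_of_le_of_card_ge (Subgroup.zpowers_le.mpr ha) ?_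
    rw [hLz, Nat.card_zpowers, Nat.card_zpowers, hlord, orderOf_eq_prime (hVp _ haV) ha1]
  -- `T` centralises `L`
  have hfixl : ∀ t ∈ (T : Subgroup G), t * (l : G) * t⁻¹ = l := by
    intro t ht
    have hmem : t * (l : G) * t⁻¹ ∈ L := by
      have := L.mul_mem (hTL t ht l hlV) l.2
      simpa using this
    obtain ⟨j, hj⟩ := Subgroup.mem_zpowers_iff.mp (hLgen _ hmem)
    have key : ∀ k : ℕ, t ^ k * (l : G) * (t ^ k)⁻¹ = (l : G) ^ (j ^ k) := by
      intro k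
      induction k with
      | zero => simp
      | succ k ih =>
        have h1 : t ^ (k + 1) * (l : G) * (t ^ (k + 1))⁻¹ = t * (t ^ k * (l : G) * (t ^ k)⁻¹) * t⁻¹ := by
          rw [pow_succ']; group
        rw [h1, ih, ← conj_zpow, ← hj, ← zpow_mul, pow_succ']
    obtain ⟨k, hk⟩ := T.isPGroup' ⟨t, ht⟩
    have hk' : t ^ p ^ k = 1 := by simpa using congrArg Subtype.val hk
    have h2 : (l : G) ^ (j ^ p ^ k) = (l : G) ^ (1 : ℤ) := by
      rw [← key, hk']; simp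
    rw [zpow_eq_zpow_iff_modEq, hlord, ← ZMod.intCast_eq_intCast_iff, Int.cast_pow,
      ZMod.pow_card_pow, Int.cast_one] at h2
    rw [← hj]
    conv_rhs => rw [← zpow_one (l : G)]
    rw [zpow_eq_zpow_iff_modEq, hlord, ← ZMod.intCast_eq_intCast_iff, Int.cast_one]
    exact h2
  have hTfix : ∀ t ∈ (T : Subgroup G), ∀ m ∈ L, t * m * t⁻¹ = m := by
    intro t ht m hm
    obtain ⟨n, rfl⟩ := Subgroup.mem_zpowers_iff.mp (hLgen m hm)
    rw [← conj_zpow, hfixl t ht]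
  have hTU : stab V L = (T : Subgroup G) :=
    T.is_maximal' (stab_isPGroup hVp hC inf_le_right) fun t ht => ⟨hTfix t ht, hTL t ht⟩
  -- conjugates
  rw [← Subgroup.normalizer_eq_top_iff, eq_top_iff]
  intro g _
  set T' : Sylow p G := g • T with hT'
  suffices h : T' = T by
    have := Sylow.smul_eq_iff_mem_normalizer.mp h
    exact this
  set M : Subgroup G := L.map (MulAut.conj g).toMonoidHom with hMdef
  have hMmem : ∀ m, m ∈ M ↔ ∃ x ∈ L, g * x * g⁻¹ = m := fun m => by simp [hMdef, Subgroup.mem_map]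
  have hMV : M ≤ V := by
    intro m hm
    obtain ⟨x, hx, rfl⟩ := (hMmem m).mp hm
    exact Subgroup.Normal.conj_mem inferInstance x (Subgroup.mem_inf.mp hx).2 g
  have hT'mem : ∀ y, y ∈ (T' : Subgroup G) → ∃ t ∈ (T : Subgroup G), g * t * g⁻¹ = y := by
    intro y hy
    rw [hT', Sylow.coe_subgroup_smul] at hy
    exact ⟨g⁻¹ * y * g, by simpa [Subgroup.mem_pointwise_smul_iff_inv_smul_mem, MulAut.smul_def] using hy,
      by group⟩
  have hT'U : stab V M = (T' : Subgroup G) := by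
    refine T'.is_maximal' (stab_isPGroup hVp hC hMV) fun y hy => ?_
    obtain ⟨t, ht, rfl⟩ := hT'mem y hy
    refine ⟨fun m hm => ?_, fun v hv => ?_⟩
    · obtain ⟨x, hx, rfl⟩ := (hMmem m).mp hm
      calc g * t * g⁻¹ * (g * x * g⁻¹) * (g * t * g⁻¹)⁻¹ = g * (t * x * t⁻¹) * g⁻¹ := by group
        _ = _ := by rw [hTfix t ht x hx]
    · have hw : g⁻¹ * v * g⁻¹⁻¹ ∈ V := Subgroup.Normal.conj_mem inferInstance v hv g⁻¹
      refine (hMmem _).mpr ⟨_, hTL t ht _ hw, ?_⟩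
      group
  have fixed : ∀ (T₁ T₂ : Sylow p G) (K : Subgroup G), stab V K = (T₂ : Subgroup G) →
      (∀ x ∈ (T₁ : Subgroup G), ∀ m ∈ K, x * m * x⁻¹ = m) → T₁ = T₂ := fun T₁ T₂ K hK hx =>
    sylow_eq_of_le_normalizer T₁ T₂ (hK ▸ fun x hx' => stab_le_normalizer (hx x hx'))
  by_cases hA : ∀ x ∈ (T : Subgroup G), ∀ m ∈ M, x * m * x⁻¹ = m
  · exact (fixed T T' M hT'U hA).symm
  by_cases hB : ∀ y ∈ (T' : Subgroup G), ∀ m ∈ L, y * m * y⁻¹ = m
  · exact fixed T' T L hTU hB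
  exfalso
  push Not at hA hB
  obtain ⟨x, hx, b, hb, hxb⟩ := hA
  obtain ⟨y, hy, a₀, ha₀, hya₀⟩ := hB
  have hxU : x ∈ stab V L := hTU.symm ▸ hx
  have hyU : y ∈ stab V M := hT'U.symm ▸ hy
  set a : G := x * b * x⁻¹ * b⁻¹ with hadef
  have haL : a ∈ L := hxU.2 b (hMV hb)
  have ha1 : a ≠ 1 := fun h => hxb (mul_inv_eq_one.mp h)
  have haV : a ∈ V := (Subgroup.mem_inf.mp haL).2
  set c : G := y * a * y⁻¹ * a⁻¹ with hcdef
  have hc1 : c ≠ 1 := by
    intro h
    refine hya₀ ?_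
    obtain ⟨n, rfl⟩ := Subgroup.mem_zpowers_iff.mp ((hgenL a haL ha1).symm ▸ ha₀)
    rw [← conj_zpow, mul_inv_eq_one.mp h]
  have hcM : c ∈ M := hyU.2 a haV
  -- `b⁻¹` is a power of `c`
  obtain ⟨n, hn⟩ : ∃ n : ℕ, c ^ n = b⁻¹ := by
    obtain ⟨x₀, hx₀, hgx₀⟩ := (hMmem c).mp hcM
    obtain ⟨x₁, hx₁, hgx₁⟩ := (hMmem b⁻¹).mp (M.inv_mem hb)
    have hx₀1 : x₀ ≠ 1 := fun h => hc1 (by rw [← hgx₀, h]; group)
    obtain ⟨n, rfl⟩ : ∃ n : ℕ, x₀ ^ n = x₁ :=
      Submonoid.mem_powers_iff _ _ |>.mp (mem_powers_iff_mem_zpowers.mpr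
        ((hgenL x₀ hx₀ hx₀1).symm ▸ hx₁))
    exact ⟨n, by rw [← hgx₀, conj_pow, hgx₁]⟩
  set z : G := y ^ n with hzdef
  have hzb : z * b * z⁻¹ = b := ((stab V M).pow_mem hyU n).1 b hb
  have hza : z * a * z⁻¹ = b⁻¹ * a := by
    rw [← hn, hzdef]
    clear hn hzdef hzb z
    induction n with
    | zero => simp
    | succ k ih =>
      have h2 : y * c ^ k * y⁻¹ = c ^ k := hyU.1 _ (M.pow_mem hcM k)
      calc y ^ (k + 1) * a * (y ^ (k + 1))⁻¹ = y * (y ^ k * a * (y ^ k)⁻¹) * y⁻¹ := by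
            rw [pow_succ']; group
        _ = y * (c ^ k * a) * y⁻¹ := by rw [ih]
        _ = (y * c ^ k * y⁻¹) * (y * a * y⁻¹ * a⁻¹) * a := by group
        _ = c ^ (k + 1) * a := by rw [h2, pow_succ]
  have hxa : x * a * x⁻¹ = a := hxU.1 a haL
  have hxb' : x * b * x⁻¹ = a * b := by rw [hadef]; group
  have hcomm : a * b = b * a := hVc a haV b (hMV hb)
  set w : G := x * z * x with hwdef
  have hwa : w * a * w⁻¹ = b⁻¹ := by
    calc w * a * w⁻¹ = x * (z * (x * a * x⁻¹) * z⁻¹) * x⁻¹ := by rw [hwdef]; group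
      _ = x * (b⁻¹ * a) * x⁻¹ := by rw [hxa, hza]
      _ = (x * b * x⁻¹)⁻¹ * (x * a * x⁻¹) := by group
      _ = (b * a)⁻¹ * a := by rw [hxa, hxb', hcomm]
      _ = a⁻¹ * b⁻¹ * a := by rw [mul_inv_rev]
      _ = a⁻¹ * (a * b)⁻¹ * a * a := by group
      _ = a⁻¹ * (b * a)⁻¹ * a * a := by rw [hcomm]
      _ = a⁻¹ * a⁻¹ * (b⁻¹ * a) * a := by group
      _ = a⁻¹ * a⁻¹ * (a * b⁻¹) * a := by
        rw [hVc b⁻¹ (V.inv_mem (hMV hb)) a haV]
      _ = a⁻¹ * (b⁻¹ * a) := by group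
      _ = a⁻¹ * (a * b⁻¹) := by rw [hVc b⁻¹ (V.inv_mem (hMV hb)) a haV]
      _ = b⁻¹ := by group
  have hwb : w * b * w⁻¹ = a := by
    calc w * b * w⁻¹ = x * (z * (x * b * x⁻¹) * z⁻¹) * x⁻¹ := by rw [hwdef]; group
      _ = x * ((z * a * z⁻¹) * (z * b * z⁻¹)) * x⁻¹ := by rw [hxb']; group
      _ = x * (b⁻¹ * (a * b)) * x⁻¹ := by rw [hza, hzb]; group
      _ = x * (b⁻¹ * (b * a)) * x⁻¹ := by rw [hcomm]
      _ = a := by rw [inv_mul_cancel_left, hxa]
  set u : G := w * w with hudef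
  have hua : u * a * u⁻¹ = a⁻¹ := by
    calc u * a * u⁻¹ = w * (w * a * w⁻¹) * w⁻¹ := by rw [hudef]; group
      _ = (w * b * w⁻¹)⁻¹ := by rw [hwa]; group
      _ = _ := by rw [hwb]
  have hpow : ∀ k : ℕ, u ^ (2 * k + 1) * a * (u ^ (2 * k + 1))⁻¹ = a⁻¹ := by
    intro k
    induction k with
    | zero => simpa using hua
    | succ k ih =>
      have h1 : u ^ (2 * (k + 1) + 1) * a * (u ^ (2 * (k + 1) + 1))⁻¹
          = u * (u * (u ^ (2 * k + 1) * a * (u ^ (2 * k + 1))⁻¹) * u⁻¹) * u⁻¹ := by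
        rw [show 2 * (k + 1) + 1 = (2 * k + 1) + 1 + 1 by ring, pow_succ', pow_succ']; group
      rw [h1, ih, ← conj_inv, hua, inv_inv, hua]
  obtain ⟨k, hk⟩ := hodd
  have h2 := hpow k
  rw [← hk, pow_card_eq_one'] at h2
  have ha2 : a * a = 1 := by
    simp only [one_mul, inv_one, mul_one] at h2
    exact mul_eq_one_iff_eq_inv.mpr h2
  have hdvd : orderOf a ∣ 2 := orderOf_dvd_of_pow_eq_one (by rw [pow_two]; exact ha2)
  have hao : Odd (orderOf a) := Odd.of_dvd_nat ⟨k, hk⟩ (orderOf_dvd_natCard a)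
  rcases (Nat.dvd_prime Nat.prime_two).mp hdvd with h | h
  · exact ha1 (orderOf_eq_one_iff.mp h)
  · rw [h] at hao
    exact absurd hao (by decide)

end H66.SD
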