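import Cfsg.Agent.H66.OddLinear
import Cfsg.Agent.H76.Zsigmondy
import Cfsg.Agent.H2.RegularSemilinear
import Cfsg.Agent.S3360
import Cfsg.Agent.S0144

/-!
# Odd order groups transitive on the non-zero vectors of a vector space

`H66.TransLinOdd.exists_core`: such a group `D` has a cyclic normal self-centralising subgroup
`A`, fixed-point-free, containing every normal nilpotent subgroup and the derived subgroup, and
every subgroup meeting `A` trivially is cyclic.
-/

set_option autoImplicit false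
set_option linter.unusedSectionVars false
set_option linter.style.haveILetI false

open Cfsg
open scoped commutatorElement

namespace H66.TransLinOdd

/-- Automorphisms of a finite field of characteristic two are powers of the Frobenius map. -/
theorem ringAut_eq_pow {F : Type*} [Field F] [Finite F] [Algebra (ZMod 2) F] (σ : F ≃+* F) :
    ∃ i : ℕ, ∀ x : F, σ x = x ^ (2 ^ i) := by
  let σ' : F ≃ₐ[ZMod 2] F :=
    { σ with commutes' := fun r => RingHom.congr_fun (Subsingleton.elim
        ((σ : F →+* F).comp (algebraMap (ZMod 2) F)) (algebraMap (ZMod 2) F)) r }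
  obtain ⟨i, hi⟩ := (FiniteField.bijective_frobeniusAlgEquivOfAlgebraic_pow (ZMod 2) F).2 σ'
  refine ⟨i.1, fun x => ?_⟩
  have h := congrArg (fun f : F ≃ₐ[ZMod 2] F => f x) hi
  simp only [FiniteField.coe_frobeniusAlgEquivOfAlgebraic_iterate] at h
  rw [show σ x = σ' x from rfl, ← h]
  simp [AlgEquiv.coe_pow, FiniteField.coe_frobeniusAlgEquivOfAlgebraic_iterate, ZMod.card]

/-- Two automorphisms of a finite field of characteristic two commute. -/
theorem ringAut_comm {F : Type*} [Field F] [Finite F] [Algebra (ZMod 2) F] (σ τ : F ≃+* F) :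
    σ * τ = τ * σ := by
  obtain ⟨i, hi⟩ := ringAut_eq_pow σ
  obtain ⟨j, hj⟩ := ringAut_eq_pow τ
  refine RingEquiv.ext fun x => ?_
  rw [RingAut.mul_apply, RingAut.mul_apply, hi, hj, hi, hj, ← pow_mul, ← pow_mul, mul_comm]

theorem ringAut_isCyclic {F : Type*} [Field F] [Finite F] [Algebra (ZMod 2) F] :
    IsCyclic (F ≃+* F) := by
  haveI : Fact (Nat.Prime 2) := ⟨Nat.prime_two⟩
  let f : (F ≃ₐ[ZMod 2] F) →* (F ≃+* F) :=
    { toFun := fun e => e.toRingEquiv, map_one' := rfl, map_mul' := fun _ _ => rfl }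
  refine isCyclic_of_surjective f fun σ => ?_
  exact ⟨{ σ with commutes' := fun r => RingHom.congr_fun (Subsingleton.elim
        ((σ : F →+* F).comp (algebraMap (ZMod 2) F)) (algebraMap (ZMod 2) F)) r }, rfl⟩

/-- A group of order dividing `3 ^ 4 * 7 ^ 2 * 31` is solvable. -/
theorem solvable_aux {K : Type*} [Group K] [Finite K] (h : Nat.card K ∣ 81 * 49 * 31) :
    Group.IsSolvable K := by
  haveI : Fact (Nat.Prime 7) := ⟨by norm_num⟩
  let P : Sylow 7 K := default
  obtain ⟨k, hk⟩ := P.isPGroup'.exists_card_eq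
  have hidx : (P : Subgroup K).index ∣ 81 * 31 := by
    have h1 : (P : Subgroup K).index ∣ 49 * (81 * 31) := by
      refine ((Subgroup.index_dvd_card _).trans h).trans ?_
      norm_num
    have h2 := ((Nat.Prime.coprime_iff_not_dvd (by norm_num : Nat.Prime 7)).2
      P.not_dvd_index).symm.pow_right 2
    exact h2.dvd_of_dvd_mul_left (by simpa using h1)
  have hn : Nat.card (Sylow 7 K) = 1 := by
    have h1 : Nat.card (Sylow 7 K) ∣ 81 * 31 := P.card_dvd_index.trans hidx
    have h2 : Nat.card (Sylow 7 K) % 7 = 1 := card_sylow_modEq_one 7 K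
    have hd : ∀ x ∈ Nat.divisors (81 * 31), x % 7 = 1 → x = 1 := by decide +kernel
    exact hd _ (Nat.mem_divisors.2 ⟨h1, by norm_num⟩) h2
  haveI : Subsingleton (Sylow 7 K) := (Nat.card_eq_one_iff_unique.1 hn).1
  haveI hPn : (P : Subgroup K).Normal := P.normal_of_subsingleton
  obtain ⟨y, z, hy, hz, hyz⟩ := exists_dvd_and_dvd_of_dvd_mul hidx
  obtain ⟨c, -, rfl⟩ := (Nat.dvd_prime_pow (by norm_num : Nat.Prime 3)).1
    (show y ∣ 3 ^ 4 by simpa using hy)
  obtain ⟨d, -, rfl⟩ := (Nat.dvd_prime_pow (by norm_num : Nat.Prime 31)).1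
    (show z ∣ 31 ^ 1 by simpa using hz)
  have hq : Group.IsSolvable (K ⧸ (P : Subgroup K)) :=
    Cfsg.Agent.S0144.result 3 31 c d (by norm_num) (by norm_num)
      (by rw [← Subgroup.index_eq_card]; exact hyz)
  have hp : Group.IsSolvable (P : Subgroup K) :=
    Cfsg.Agent.S0144.result 7 31 k 0 (by norm_num) (by norm_num) (by simpa using hk)
  exact Group.isSolvable_of_ker_le_range (Subgroup.subtype (P : Subgroup K))
    (QuotientGroup.mk' (P : Subgroup K)) (by simp)

/-- An odd order group of `6 × 6` matrices over the field with two elements is solvable. -/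
theorem solvable_six {D : Type*} [Group D] [Finite D] (hodd : Odd (Nat.card D))
    (f : D →* GL (Fin 6) (ZMod 2)) (hf : Function.Injective f) : Group.IsSolvable D := by
  haveI : Fact (Nat.Prime 2) := ⟨Nat.prime_two⟩
  haveI : Fact (Nat.Prime 5) := ⟨by norm_num⟩
  have hcard : Nat.card D ∣ 81 * 5 * 49 * 31 := by
    have h1 := Subgroup.card_dvd_of_injective f hf
    rw [Matrix.card_GL_field] at h1
    have h2 : (∏ i : Fin 6, (2 ^ 6 - 2 ^ (i : ℕ))) = 2 ^ 15 * (81 * 5 * 49 * 31) := by decide
    rw [ZMod.card, h2] at h1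
    exact ((Nat.coprime_two_right.2 hodd).pow_right 15).dvd_of_dvd_mul_left h1
  let P : Sylow 5 D := default
  obtain ⟨k, hk⟩ := P.isPGroup'.exists_card_eq
  have hk1 : k ≤ 1 := by
    by_contra h
    have h1 : 5 ^ 2 ∣ 81 * 5 * 49 * 31 :=
      ((pow_dvd_pow 5 (show 2 ≤ k by omega)).trans (hk ▸ (P : Subgroup D).card_subgroup_dvd_card)).trans
        hcard
    norm_num at h1
  haveI hPc : IsCyclic (P : Subgroup D) := by
    rcases Nat.le_one_iff_eq_zero_or_eq_one.1 hk1 with rfl | rfl
    · haveI : Subsingleton (P : Subgroup D) :=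
        (Nat.card_eq_one_iff_unique.1 (by simpa using hk)).1
      exact isCyclic_of_subsingleton
    · exact isCyclic_of_prime_card (p := 5) (by simpa using hk)
  have hP : Subgroup.normalizer ((P : Subgroup D) : Set D) ≤
      Subgroup.centralizer ((P : Subgroup D) : Set D) := by
    intro g hg
    let φ := Subgroup.normalizerMonoidHom (P : Subgroup D)
    have h1 : Nat.card φ.range ∣ 4 := by
      refine φ.range.card_subgroup_dvd_card.trans ?_
      rw [IsCyclic.card_mulAut, hk]
      rcases Nat.le_one_iff_eq_zero_or_eq_one.1 hk1 with rfl | rfl <;>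
        norm_num [Nat.totient_prime (show Nat.Prime 5 by norm_num)]
    have h2 : Odd (Nat.card φ.range) :=
      Odd.of_dvd_nat hodd (φ.range.card_subgroup_dvd_card.trans dvd_rfl |> fun _ =>
        (Subgroup.card_range_dvd φ).trans (Subgroup.card_subgroup_dvd_card _))
    have h3 : Nat.card φ.range = 1 :=
      Nat.dvd_one.1 (((Nat.coprime_two_right.2 h2).pow_right 2).dvd_of_dvd_mul_left
        (show Nat.card φ.range ∣ 2 ^ 2 * 1 by simpa using h1))
    have h4 : φ ⟨g, hg⟩ = 1 :=
      Subgroup.mem_bot.1 ((Subgroup.eq_bot_of_card_eq _ h3) ▸ ⟨⟨g, hg⟩, rfl⟩)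
    rw [← MonoidHom.mem_ker, Subgroup.normalizerMonoidHom_ker, Subgroup.mem_subgroupOf] at h4
    exact h4
  have hc := MonoidHom.ker_transferSylow_isComplement' P hP
  set K := (MonoidHom.transferSylow P hP).ker with hK
  have hsK : Group.IsSolvable K := by
    refine solvable_aux ?_
    have h1 : Nat.card K ∣ 5 * (81 * 49 * 31) :=
      (K.card_subgroup_dvd_card.trans hcard).trans (by norm_num)
    rcases Nat.eq_zero_or_pos k with rfl | hk0
    · have h5 : ¬ 5 ∣ Nat.card D := by
        intro h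
        have := P.card_eq_multiplicity
        rw [hk, pow_zero] at this
        have h' := (Nat.Prime.factorization_pos_of_dvd (by norm_num : Nat.Prime 5) Nat.card_pos.ne' h)
        rcases Nat.pow_eq_one.1 this.symm with h3 | h3
        · norm_num at h3
        · omega
      exact ((Nat.Prime.coprime_iff_not_dvd (by norm_num : Nat.Prime 5)).2
        fun h => h5 (h.trans K.card_subgroup_dvd_card)).symm.dvd_of_dvd_mul_left h1
    · have hmul := hc.card_mul
      rw [hk, show k = 1 by omega, pow_one] at hmul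
      refine Nat.dvd_of_mul_dvd_mul_right (show 0 < 5 by norm_num) ?_
      rw [hmul]
      exact hcard.trans (by norm_num)
  have hp : Group.IsSolvable (P : Subgroup D) :=
    Cfsg.Agent.S0144.result 5 31 k 0 (by norm_num) (by norm_num) (by simpa using hk)
  exact Group.isSolvable_of_ker_le_range K.subtype (MonoidHom.transferSylow P hP) (by simp [hK])

section
variable {D E : Type*} [Group D] [Finite D] [AddCommGroup E] [Finite E] [Nontrivial E]
  [DistribMulAction D E] [FaithfulSMul D E]

/-- The semilinear description, with a prime `ℓ` to recognise the multiplications. -/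
theorem exists_semilinear (hodd : Odd (Nat.card D)) {q : ℕ} (hq : q.Prime)
    (hE : ∀ e : E, q • e = 0) (htrans : ∀ a b : E, a ≠ 0 → b ≠ 0 → ∃ d : D, d • a = b) :
    ∃ (F : Type) (_ : Field F) (_ : Fintype F) (_ : Algebra (ZMod 2) F) (e : E ≃+ F) (n : ℕ),
      Nat.card F = 2 ^ n ∧
      (∀ g : D, ∃ (a : F) (σ : F ≃+* F), ∀ v : E, e (g • v) = a * σ (e v)) ∧
      (n = 1 ∨ ∃ ℓ m : ℕ, ℓ.Prime ∧ ℓ ∣ Nat.card D ∧ orderOf (2 : ZMod ℓ) = m ∧
        (n = m ∨ n = 2 * m) ∧ 2 ≤ m) := by
  classical
  haveI := Fintype.ofFinite E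
  obtain ⟨e₀, he₀⟩ := exists_ne (0 : E)
  have hdvd : Nat.card E - 1 ∣ Nat.card D := by
    have h1 : MulAction.orbit D e₀ = {x : E | x ≠ 0} := by
      ext x
      refine ⟨?_, fun hx => htrans e₀ x he₀ hx⟩
      rintro ⟨d, rfl⟩
      exact (smul_ne_zero_iff_ne d).2 he₀
    have h2 := Subgroup.index_dvd_card (MulAction.stabilizer D e₀)
    rw [MulAction.index_stabilizer, h1] at h2
    have h3 : ({x : E | x ≠ 0} : Set E).ncard = Nat.card E - 1 := by
      rw [show {x : E | x ≠ 0} = ({0} : Set E)ᶜ from rfl,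
        Set.ncard_compl, Set.ncard_singleton]
    rwa [h3] at h2
  have hEeven : 2 ∣ Nat.card E := by
    by_contra h
    have h1 : Odd (Nat.card E) := Nat.not_even_iff_odd.1 fun h' => h (even_iff_two_dvd.1 h')
    exact Nat.not_even_iff_odd.2 (Odd.of_dvd_nat hodd hdvd) (Nat.Odd.sub_odd h1 odd_one)
  haveI : Fact (Nat.Prime 2) := ⟨Nat.prime_two⟩
  have hq2 : q = 2 := by
    obtain ⟨v, hv⟩ := exists_prime_addOrderOf_dvd_card' 2 hEeven
    exact ((Nat.prime_dvd_prime_iff_eq Nat.prime_two hq).1
      (hv ▸ addOrderOf_dvd_of_nsmul_eq_zero (hE v))).symm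
  subst hq2
  letI : Module (ZMod 2) E := AddCommGroup.zmodModule hE
  set n := Module.finrank (ZMod 2) E with hn
  have hcardE : Nat.card E = 2 ^ n := by
    rw [Module.natCard_eq_pow_finrank (K := ZMod 2) (V := E), Nat.card_zmod]
  have hn0 : 0 < n := Module.finrank_pos
  let ρ : D →* (E ≃ₗ[ZMod 2] E) :=
    { toFun := fun g =>
        { (DistribMulAction.toAddEquiv E g) with
          map_smul' := fun c x => ZMod.map_smul ((DistribMulAction.toAddEquiv E g).toAddMonoidHom) c x }
      map_one' := LinearEquiv.ext fun v => one_smul D v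
      map_mul' := fun g h => LinearEquiv.ext fun v => mul_smul g h v }
  have hρv : ∀ (g : D) (v : E), ρ g v = g • v := fun g v => rfl
  have hρ : Function.Injective ρ := fun g h hgh =>
    eq_of_smul_eq_smul fun v : E => by rw [← hρv, ← hρv, hgh]
  have hρtr : ∀ v w : E, v ≠ 0 → w ≠ 0 → ∃ g : D, ρ g v = w := htrans
  have fin : ∀ (F : Type) (_ : Field F) (_ : Fintype F) (e : E ≃+ F)
      (_ : ∀ g : D, ∃ (a : F) (σ : F ≃+* F), ∀ v : E, e (ρ g v) = a * σ (e v))
      (_ : n = 1 ∨ ∃ ℓ m : ℕ, ℓ.Prime ∧ ℓ ∣ Nat.card D ∧ orderOf (2 : ZMod ℓ) = m ∧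
        (n = m ∨ n = 2 * m) ∧ 2 ≤ m),
      ∃ (F : Type) (_ : Field F) (_ : Fintype F) (_ : Algebra (ZMod 2) F) (e : E ≃+ F) (n : ℕ),
      Nat.card F = 2 ^ n ∧
      (∀ g : D, ∃ (a : F) (σ : F ≃+* F), ∀ v : E, e (g • v) = a * σ (e v)) ∧
      (n = 1 ∨ ∃ ℓ m : ℕ, ℓ.Prime ∧ ℓ ∣ Nat.card D ∧ orderOf (2 : ZMod ℓ) = m ∧
        (n = m ∨ n = 2 * m) ∧ 2 ≤ m) := by
    intro F iF jF e he hl
    have hFcard : Nat.card F = 2 ^ n := by rw [← Nat.card_congr e.toEquiv, hcardE]
    haveI : CharP F 2 := by
      refine CharTwo.of_one_ne_zero_of_two_eq_zero one_ne_zero ?_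
      have h := congrArg e (hE (e.symm 1))
      rw [map_nsmul, e.apply_symm_apply, map_zero, two_nsmul] at h
      rw [← one_add_one_eq_two, h]
    exact ⟨F, iF, jF, ZMod.algebra F 2, e, n, hFcard, he, hl⟩
  -- the sufficient condition by solvability
  have viaSol : Group.IsSolvable D →
      ∃ (F : Type) (_ : Field F) (_ : Fintype F) (e : E ≃+ F),
        ∀ g : D, ∃ (a : F) (σ : F ≃+* F), ∀ v : E, e (ρ g v) = a * σ (e v) := by
    intro hsol
    rcases Cfsg.Agent.S3360.result 2 hsol ρ hρ hρtr with h | h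
    · exact h
    · exfalso
      simp only [Set.mem_insert_iff, Set.mem_singleton_iff, hcardE] at h
      have h2 : 2 ∣ 2 ^ n := dvd_pow_self 2 hn0.ne'
      omega
  by_cases hn1 : n = 1
  · have hD : Subsingleton D := by
      refine ⟨fun g h => eq_of_smul_eq_smul fun v : E => ?_⟩
      by_cases hv : v = 0
      · simp [hv]
      · have h2 : Nat.card E = 2 := by rw [hcardE, hn1, pow_one]
        have hu : ∀ x : E, x ≠ 0 → x = v := by
          intro x hx
          obtain ⟨y, z, -, hyz⟩ := (Nat.card_eq_two_iff).1 h2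
          have := Set.eq_univ_iff_forall.1 hyz
          have e0 := this 0; have e1 := this v; have e2 := this x
          simp only [Set.mem_insert_iff, Set.mem_singleton_iff] at e0 e1 e2
          grind
        rw [hu _ ((smul_ne_zero_iff_ne g).2 hv), hu _ ((smul_ne_zero_iff_ne h).2 hv)]
    obtain ⟨F, i, j, e, he⟩ := viaSol inferInstance
    exact fin F i j e he (Or.inl hn1)
  have hpow : (2 : ℕ) ^ n - 1 ∣ Nat.card D := hcardE ▸ hdvd
  let B : Module.Basis (Fin n) (ZMod 2) E := Module.finBasis (ZMod 2) E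
  let τ : D →* Matrix (Fin n) (Fin n) (ZMod 2) :=
    { toFun := fun g => LinearMap.toMatrix B B (ρ g).toLinearMap
      map_one' := by rw [map_one]; exact LinearMap.toMatrix_one B
      map_mul' := fun g h => by rw [map_mul]; exact LinearMap.toMatrix_mul B _ _ }
  have hτ : Function.Injective τ := fun g h hgh => hρ (LinearEquiv.toLinearMap_injective
    ((LinearMap.toMatrix B B).injective hgh))
  by_cases h6 : n = 6
  · have hsol : Group.IsSolvable D := by
      let τ' : D →* GL (Fin 6) (ZMod 2) :=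
        (Units.map (Matrix.reindexAlgEquiv (ZMod 2) (ZMod 2) (finCongr h6)).toMonoidHom).comp
          τ.toHomUnits
      refine solvable_six hodd τ' ?_
      intro g h hgh
      apply hτ
      have := congrArg Units.val hgh
      exact (Matrix.reindexAlgEquiv (ZMod 2) (ZMod 2) (finCongr h6)).injective this
    obtain ⟨F, i, j, e, he⟩ := viaSol hsol
    refine fin F i j e he (Or.inr ⟨7, 3, by norm_num, ?_, ?_, Or.inr h6, by norm_num⟩)
    · exact (show 7 ∣ 2 ^ n - 1 by rw [h6]; norm_num).trans hpow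
    · haveI : Fact (Nat.Prime 3) := ⟨by norm_num⟩
      exact orderOf_eq_prime (by decide) (by decide)
  obtain ⟨r, hr, hrd, hord⟩ : ∃ r : ℕ, r.Prime ∧ r ∣ 2 ^ n - 1 ∧ orderOf (2 : ZMod r) = n := by
    by_cases h2 : n = 2
    · refine ⟨3, by norm_num, by rw [h2]; norm_num, ?_⟩
      rw [h2]
      haveI : Fact (Nat.Prime 2) := ⟨Nat.prime_two⟩
      exact orderOf_eq_prime (by decide) (by decide)
    · exact H76.exists_primitive_two (by omega) h6
  haveI : Fact r.Prime := ⟨hr⟩
  have hrD : r ∣ Nat.card D := hrd.trans hpow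
  let R : Sylow r D := default
  haveI hRn : (R : Subgroup D).Normal := H66.OddLinear.sylow_normal hodd τ hτ hord hrD R
  let A : Subgroup D := (Subgroup.center (R : Subgroup D)).map (R : Subgroup D).subtype
  have hAc : ∀ a ∈ A, ∀ b ∈ A, a * b = b * a := by
    rintro _ ⟨a, ha, rfl⟩ _ ⟨b, hb, rfl⟩
    exact congrArg Subtype.val ((Subgroup.mem_center_iff.1 ha b).symm)
  haveI hAn : A.Normal := inferInstance
  have hRne : (R : Subgroup D) ≠ ⊥ := by
    intro h
    have h1 := R.card_eq_multiplicity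
    rw [h, Subgroup.card_bot] at h1
    have h2 := hr.factorization_pos_of_dvd Nat.card_pos.ne' hrD
    rcases Nat.pow_eq_one.1 h1.symm with h3 | h3
    · exact hr.ne_one h3
    · omega
  haveI : Nontrivial (R : Subgroup D) := (Subgroup.nontrivial_iff_ne_bot _).2 hRne
  haveI := R.isPGroup'.center_nontrivial
  obtain ⟨j, hj0, hj⟩ := (R.isPGroup'.to_subgroup (Subgroup.center (R : Subgroup D))).nontrivial_iff_card.1
    inferInstance
  obtain ⟨z, hz⟩ := exists_prime_orderOf_dvd_card' (G := Subgroup.center (R : Subgroup D)) r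
    (hj ▸ dvd_pow_self r hj0.ne')
  let x : D := ((z : (R : Subgroup D)) : D)
  have hxA : x ∈ A := ⟨z.1, z.2, rfl⟩
  have hx : orderOf x = r := by
    simp only [x, Subgroup.orderOf_coe, hz]
  have hirr : ∀ W : Submodule (ZMod 2) E, (∀ a ∈ A, ∀ w ∈ W, ρ a w ∈ W) → W = ⊥ ∨ W = ⊤ := by
    -- an invariant subspace consists of fixed points of `x`, or is everything
    have key : ∀ W : Submodule (ZMod 2) E, (∀ k : ℕ, ∀ w ∈ W, (x ^ k) • w ∈ W) →
        (W = ⊤ ∧ ∀ w ∈ W, x • w = w → w = 0) ∨ ∀ w ∈ W, x • w = w := by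
      intro W hW
      let Fx : Submodule (ZMod 2) E := W ⊓ LinearMap.ker ((ρ x).toLinearMap - 1)
      have hFx : ∀ w, w ∈ Fx ↔ w ∈ W ∧ x • w = w := fun w => by
        simp [Fx, LinearMap.mem_ker, sub_eq_zero, hρv]
      have hpg : IsPGroup r (Subgroup.zpowers x) := by
        refine IsPGroup.of_card (n := 1) ?_
        rw [Nat.card_zpowers, hx, pow_one]
      have hWz : ∀ g ∈ Subgroup.zpowers x, ∀ w ∈ W, g • w ∈ W := by
        intro g hg w hw
        obtain ⟨k, -, rfl⟩ := Finset.mem_image.1 (mem_zpowers_iff_mem_range_orderOf.1 hg)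
        exact hW k w hw
      letI act : MulAction (Subgroup.zpowers x) W :=
        { smul := fun g w => ⟨(g : D) • (w : E), hWz g g.2 w w.2⟩
          one_smul := fun w => Subtype.ext (one_smul D (w : E))
          mul_smul := fun g h w => Subtype.ext (mul_smul (g : D) h (w : E)) }
      have h1 := hpg.card_modEq_card_fixedPoints W
      have h2 : Nat.card (MulAction.fixedPoints (Subgroup.zpowers x) W) = Nat.card Fx := by
        refine Nat.card_congr
          { toFun := fun w => ⟨(w.1 : E), (hFx _).2 ⟨w.1.2,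
              congrArg Subtype.val (w.2 ⟨x, Subgroup.mem_zpowers x⟩)⟩⟩
            invFun := fun w => ⟨⟨(w : E), ((hFx _).1 w.2).1⟩, fun g => Subtype.ext ?_⟩
            left_inv := fun w => rfl
            right_inv := fun w => rfl }
        show (g : D) • (w : E) = w
        have h3 : x ∈ MulAction.stabilizer D (w : E) := ((hFx _).1 w.2).2
        exact (Subgroup.zpowers_le.2 h3) g.2
      rw [h2, Module.natCard_eq_pow_finrank (K := ZMod 2) (V := W),
        Module.natCard_eq_pow_finrank (K := ZMod 2) (V := Fx), Nat.card_zmod] at h1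
      have hle : Fx ≤ W := inf_le_left
      have hfle := Submodule.finrank_mono hle
      have hWn : Module.finrank (ZMod 2) W ≤ n := Submodule.finrank_le W
      have hcast : (2 : ZMod r) ^ Module.finrank (ZMod 2) W = 2 ^ Module.finrank (ZMod 2) Fx := by
        have h4 := (ZMod.natCast_eq_natCast_iff _ _ r).2 h1
        simpa using h4
      have h20 : (2 : ZMod r) ≠ 0 := by
        intro h
        rw [h, orderOf_eq_zero_iff'.2] at hord
        · omega
        · intro k hk; rw [zero_pow hk.ne']; exact zero_ne_one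
      obtain ⟨d, hd⟩ := Nat.exists_eq_add_of_le hfle
      have hd1 : (2 : ZMod r) ^ d = 1 := by
        rw [hd, pow_add] at hcast
        exact mul_left_cancel₀ (pow_ne_zero _ h20) (hcast.trans (mul_one _).symm)
      have hnd : n ∣ d := hord ▸ orderOf_dvd_of_pow_eq_one hd1
      rcases Nat.eq_zero_or_pos d with h0 | h0
      · right
        intro w hw
        have : Fx = W := Submodule.eq_of_le_of_finrank_eq hle (by omega)
        exact ((hFx w).1 (this.symm ▸ hw)).2
      · left
        have := Nat.le_of_dvd h0 hnd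
        refine ⟨Submodule.eq_top_of_finrank_eq (by omega), fun w hw hxw => ?_⟩
        have hFbot : Fx = ⊥ := Submodule.finrank_eq_zero.1 (by omega)
        have : w ∈ Fx := (hFx w).2 ⟨hw, hxw⟩
        rwa [hFbot, Submodule.mem_bot] at this
    have hfree : ∀ w : E, x • w = w → w = 0 := by
      rcases key ⊤ (fun _ _ _ => trivial) with h | h
      · exact fun w hxw => h.2 w trivial hxw
      · exfalso
        have hx1 : x = 1 := eq_of_smul_eq_smul fun v : E => by
          rw [one_smul]; exact h v trivial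
        rw [hx1, orderOf_one] at hx
        exact hr.ne_one hx.symm
    intro W hW
    rcases key W (fun k w hw => by simpa only [hρv] using hW _ (pow_mem hxA k) w hw) with h | h
    · exact Or.inr h.1
    · exact Or.inl ((Submodule.eq_bot_iff _).2 fun w hw => hfree w (h w hw))
  obtain ⟨F, i, jj, e, he⟩ := H2.semilinear_of_irred ρ A hAc hirr
  refine fin F i jj e he (Or.inr ⟨r, n, hr, hrD, hord, Or.inl rfl, by omega⟩)

/-- The structure of an odd order group transitive on the non-zero vectors. -/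
theorem exists_core (hodd : Odd (Nat.card D)) {q : ℕ} (hq : q.Prime)
    (hE : ∀ e : E, q • e = 0) (htrans : ∀ a b : E, a ≠ 0 → b ≠ 0 → ∃ d : D, d • a = b) :
    ∃ A : Subgroup D, A.Normal ∧ IsCyclic A ∧
      (∀ g ∈ A, g ≠ 1 → ∀ a : E, g • a = a → a = 0) ∧
      commutator D ≤ A ∧
      (∀ g : D, (∀ a ∈ A, g * a = a * g) → g ∈ A) ∧
      (∀ N : Subgroup D, N.Normal → Group.IsNilpotent N → N ≤ A) ∧
      (∀ V : Subgroup D, V ⊓ A = ⊥ → IsCyclic V) := by
  classical
  obtain ⟨F, iF, jF, alg, e, n, hFcard, hsemi, hℓ⟩ := exists_semilinear hodd hq hE htrans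
  haveI : Fact (Nat.Prime 2) := ⟨Nat.prime_two⟩
  choose α σ hασ using hsemi
  have hα : ∀ g, α g = e (g • e.symm 1) := fun g => by
    rw [hασ g, e.apply_symm_apply, map_one, mul_one]
  have hα0 : ∀ g, α g ≠ 0 := fun g h => by
    have h1 : g • e.symm 1 = 0 := e.injective (by rw [← hα, h, map_zero])
    rw [smul_eq_zero_iff_eq, map_eq_zero_iff e.symm e.symm.injective] at h1
    exact one_ne_zero h1
  have huniq : ∀ (g : D) (a : F) (s : F ≃+* F), (∀ v : E, e (g • v) = a * s (e v)) → s = σ g := by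
    intro g a s h
    have ha : a = α g := by rw [hα, h, e.apply_symm_apply, map_one, mul_one]
    refine RingEquiv.ext fun x => mul_left_cancel₀ (hα0 g) ?_
    have h1 := h (e.symm x)
    rw [hασ g, e.apply_symm_apply, ha] at h1
    exact h1.symm
  let ψ : D →* (F ≃+* F) :=
    { toFun := σ
      map_one' := (huniq 1 1 1 fun v => by simp [RingAut.one_apply]).symm
      map_mul' := fun g h => (huniq (g * h) (α g * σ g (α h)) (σ g * σ h) fun v => by
        rw [mul_smul, hασ, hασ, map_mul, RingAut.mul_apply, mul_assoc]).symm }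
  set A : Subgroup D := ψ.ker with hA
  have hmemA : ∀ g, g ∈ A ↔ σ g = 1 := fun g => Iff.rfl
  have hAsm : ∀ g ∈ A, ∀ v : E, e (g • v) = α g * e v := fun g hg v => by
    rw [hασ, (hmemA g).1 hg, RingAut.one_apply]
  have hAeq : ∀ g ∈ A, α g = 1 → g = 1 := fun g hg h => eq_of_smul_eq_smul fun v : E =>
    e.injective (by rw [hAsm g hg, h, one_mul, one_smul])
  let χ : A →* F :=
    { toFun := fun g => α g
      map_one' := by
        show α ((1 : A) : D) = 1
        rw [OneMemClass.coe_one, hα, one_smul, e.apply_symm_apply]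
      map_mul' := fun g h => by
        show α ((g * h : A) : D) = α g * α h
        rw [Subgroup.coe_mul, hα, mul_smul, hAsm g g.2, ← hα] }
  have hχ : Function.Injective χ := fun g h hgh => by
    refine Subtype.ext (eq_of_smul_eq_smul fun v : E => e.injective ?_)
    rw [hAsm g g.2, hAsm h h.2]
    exact congrArg (· * e v) hgh
  have hAcyc : IsCyclic A := isCyclic_of_subgroup_isDomain χ hχ
  have hfpf : ∀ g ∈ A, g ≠ 1 → ∀ a : E, g • a = a → a = 0 := by
    intro g hg hg1 a ha
    by_contra ha0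
    refine hg1 (hAeq g hg (mul_right_cancel₀ (b := e a) ?_ ?_))
    · exact fun h => ha0 (e.injective (h.trans (map_zero e).symm))
    · rw [one_mul, ← hAsm g hg, ha]
  have hcomm : commutator D ≤ A := by
    rw [commutator_def, Subgroup.commutator_le]
    intro g _ h _
    rw [hA, MonoidHom.mem_ker, map_commutatorElement, commutatorElement_eq_one_iff_commute]
    exact ringAut_comm _ _
  have hVcyc : ∀ V : Subgroup D, V ⊓ A = ⊥ → IsCyclic V := by
    intro V hV
    haveI := ringAut_isCyclic (F := F)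
    refine isCyclic_of_injective (ψ.comp V.subtype) ((injective_iff_map_eq_one _).2 fun v hv => ?_)
    have h : (v : D) ∈ V ⊓ A := ⟨v.2, hv⟩
    rw [hV, Subgroup.mem_bot] at h
    exact Subtype.ext h
  -- the prime recognising the kernel
  have main : ∃ a ∈ A, (∀ g : D, g * a = a * g → g ∈ A) ∧
      ((a = 1 ∧ ∀ g : D, g ∈ A) ∨ (orderOf a).Prime ∧
        ∀ g : D, (∃ k, g ^ ((orderOf a) ^ k) = 1) → g ∈ A) := by
    rcases hℓ with h1 | ⟨ℓ, m, hℓp, hℓd, hm, hnm, hm2⟩
    · have hall : ∀ g : D, g ∈ A := fun g => by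
        rw [hmemA]
        refine RingEquiv.ext fun x => ?_
        have h2 : Nat.card F = 2 := by rw [hFcard, h1, pow_one]
        rcases eq_or_ne x 0 with rfl | hx
        · simp [RingAut.one_apply]
        obtain ⟨y, z, -, hyz⟩ := (Nat.card_eq_two_iff).1 h2
        have hu := Set.eq_univ_iff_forall.1 hyz
        have e0 := hu 0; have e1 := hu x; have e2 := hu (σ g x); have e3 := hu (1 : F)
        have hσx : σ g x ≠ 0 := (map_ne_zero_iff _ (σ g).injective).2 hx
        simp only [Set.mem_insert_iff, Set.mem_singleton_iff] at e0 e1 e2 e3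
        rw [RingAut.one_apply]
        grind
      exact ⟨1, one_mem _, fun g _ => hall g, Or.inl ⟨rfl, hall⟩⟩
    haveI : Fact ℓ.Prime := ⟨hℓp⟩
    have hℓodd : Odd ℓ := Odd.of_dvd_nat hodd hℓd
    have hml : m < ℓ := by
      have h2 : (2 : ZMod ℓ) ≠ 0 := by
        intro h
        rw [h] at hm
        have : orderOf (0 : ZMod ℓ) = 0 := orderOf_eq_zero_iff'.2 fun k hk => by
          rw [zero_pow hk.ne']; exact zero_ne_one
        omega
      have := hm ▸ ZMod.orderOf_dvd_card_sub_one h2
      have := Nat.le_of_dvd (by have := hℓp.two_le; omega) this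
      omega
    have hn0 : n ≠ 0 := by omega
    have hℓn : ¬ ℓ ∣ n := by
      rcases hnm with h | h
      · exact fun hd => absurd (Nat.le_of_dvd (by omega) hd) (by omega)
      · intro hd
        rw [h] at hd
        rcases hℓp.dvd_mul.1 hd with h' | h'
        · have := Nat.le_of_dvd two_pos h'
          omega
        · exact absurd (Nat.le_of_dvd (by omega) h') (by omega)
    -- the powers of the automorphisms
    have hpow : ∀ (s : F ≃+* F) (i : ℕ), (∀ x, s x = x ^ (2 ^ i)) →
        ∀ (k : ℕ) (x : F), (s ^ k) x = x ^ (2 ^ (i * k)) := by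
      intro s i hs k
      induction k with
      | zero => intro x; simp [RingAut.one_apply]
      | succ k ih =>
        intro x
        rw [pow_succ, RingAut.mul_apply, ih, hs, ← pow_mul, ← pow_add]
        ring_nf
    have hfrob : ∀ (x : F) (k : ℕ), x ^ (2 ^ (n * k)) = x := by
      intro x k
      induction k with
      | zero => simp
      | succ k ih =>
        haveI := Fintype.ofFinite F
        rw [Nat.mul_succ, pow_add, pow_mul, ih, ← hFcard, Nat.card_eq_fintype_card,
          FiniteField.pow_card]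
    have hσn : ∀ s : F ≃+* F, s ^ n = 1 := by
      intro s
      obtain ⟨i, hi⟩ := ringAut_eq_pow s
      exact RingEquiv.ext fun x => by rw [hpow s i hi, RingAut.one_apply, mul_comm i n, hfrob]
    have hℓA : ∀ g : D, (∃ k, g ^ (ℓ ^ k) = 1) → g ∈ A := by
      rintro g ⟨k, hk⟩
      have h1 : (ψ g) ^ (ℓ ^ k) = 1 := by rw [← map_pow, hk, map_one]
      have h2 : (ψ g) ^ n = 1 := hσn _
      have h3 := pow_gcd_eq_one.2 ⟨h1, h2⟩
      rwa [Nat.Coprime.pow_left k ((hℓp.coprime_iff_not_dvd).2 hℓn), pow_one] at h3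
    obtain ⟨a, ha⟩ := exists_prime_orderOf_dvd_card' ℓ hℓd
    have haA : a ∈ A := hℓA a ⟨1, by rw [pow_one, ← ha, pow_orderOf_eq_one]⟩
    refine ⟨a, haA, fun g hg => ?_, Or.inr ⟨ha ▸ hℓp, fun g h => hℓA g (ha ▸ h)⟩⟩
    -- the multiplier of `a` is fixed
    have h1 : σ g (α a) = α a := by
      have h1 := congrArg (fun y : D => e (y • e.symm 1)) hg
      simp only [mul_smul] at h1
      rw [hασ g, ← hα, hAsm a haA, ← hα] at h1
      exact mul_left_cancel₀ (hα0 g) (h1.trans (mul_comm _ _))
    have hαord : orderOf (α a) = ℓ := by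
      rw [← ha, ← Subgroup.orderOf_mk a haA, ← orderOf_injective χ hχ]
      rfl
    obtain ⟨i, hi⟩ := ringAut_eq_pow (σ g)
    have h2 : (α a) ^ (2 ^ i - 1) = 1 := by
      refine mul_left_cancel₀ (hα0 a) ?_
      rw [mul_one, ← pow_succ', Nat.sub_add_cancel Nat.one_le_two_pow, ← hi, h1]
    have h3 : m ∣ i := by
      rw [← hm]
      apply orderOf_dvd_of_pow_eq_one
      have h4 : ℓ ∣ 2 ^ i - 1 := hαord ▸ orderOf_dvd_of_pow_eq_one h2
      have h5 : ((2 ^ i - 1 : ℕ) : ZMod ℓ) = 0 := (ZMod.natCast_eq_zero_iff _ _).2 h4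
      rw [Nat.cast_sub Nat.one_le_two_pow, sub_eq_zero] at h5
      simpa using h5
    have h6 : (ψ g) ^ 2 = 1 := by
      refine RingEquiv.ext fun x => ?_
      show ((σ g) ^ 2) x = x
      rw [hpow _ i hi]
      obtain ⟨c, rfl⟩ := h3
      rcases hnm with h | h
      · rw [show m * c * 2 = n * (c * 2) by rw [h]; ring, hfrob]
      · rw [show m * c * 2 = n * c by rw [h]; ring, hfrob]
    have h7 : Odd (orderOf (ψ g)) := Odd.of_dvd_nat hodd
      ((orderOf_map_dvd ψ g).trans (orderOf_dvd_natCard g))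
    have h8 : orderOf (ψ g) = 1 := Nat.dvd_one.1
      ((Nat.coprime_two_right.2 h7).dvd_of_dvd_mul_left
        (show orderOf (ψ g) ∣ 2 * 1 from orderOf_dvd_of_pow_eq_one h6))
    exact orderOf_eq_one_iff.1 h8
  obtain ⟨a, haA, hcent, htype⟩ := main
  refine ⟨A, inferInstance, hAcyc, hfpf, hcomm, fun g hg => hcent g (hg a haA), ?_, hVcyc⟩
  intro N hN hNnil g hg
  rcases htype with ⟨-, hall⟩ | ⟨hp, hℓA⟩
  · exact hall g
  set ℓ := orderOf a with hℓdef
  -- the subgroup generated by `a` is normal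
  have hconj : ∀ x : D, x * a * x⁻¹ ∈ Subgroup.zpowers a := by
    intro x
    have hx : x * a * x⁻¹ ∈ A := (inferInstance : A.Normal).conj_mem a haA x
    haveI : NeZero (orderOf (χ ⟨a, haA⟩)) := ⟨by
      rw [orderOf_injective χ hχ, Subgroup.orderOf_mk]; exact hp.ne_zero⟩
    have h1 : χ ⟨x * a * x⁻¹, hx⟩ ^ orderOf (χ ⟨a, haA⟩) = 1 := by
      rw [orderOf_injective χ hχ, Subgroup.orderOf_mk, ← map_pow, ← map_one χ]
      congr 1
      refine Subtype.ext ?_
      simp [conj_pow, pow_orderOf_eq_one]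
    obtain ⟨j, -, hj⟩ := (IsPrimitiveRoot.orderOf (χ ⟨a, haA⟩)).eq_pow_of_pow_eq_one h1
    rw [← map_pow] at hj
    exact Subgroup.mem_zpowers_iff.2 ⟨j, by simpa using congrArg Subtype.val (hχ hj)⟩
  by_cases haN : a ∈ N
  · -- `a` is central in `N`
    apply hcent
    by_contra hne
    obtain ⟨c, hc⟩ := Subgroup.nilpotent_iff_lowerCentralSeries.1 hNnil
    have hgen : ∀ y ∈ Subgroup.zpowers a, y ≠ 1 → a ∈ Subgroup.zpowers y := by
      intro y hy hy1
      haveI : Fact ℓ.Prime := ⟨hp⟩
      obtain ⟨j, hj⟩ := Subgroup.mem_zpowers_iff.1 (mem_zpowers_of_prime_card (p := ℓ)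
        (g := (⟨y, hy⟩ : Subgroup.zpowers a)) (g' := ⟨a, Subgroup.mem_zpowers a⟩)
        (Nat.card_zpowers a) fun h => hy1 (congrArg Subtype.val h))
      exact Subgroup.mem_zpowers_iff.2 ⟨j, by simpa using congrArg Subtype.val hj⟩
    have hmem : ∀ k, (⟨a, haN⟩ : N) ∈ Subgroup.lowerCentralSeries (⊤ : Subgroup ↥N) k := by
      intro k
      induction k with
      | zero => simp
      | succ k ih =>
        have h1 := Subgroup.commutator_mem_commutator ih (Subgroup.mem_top (⟨g, hg⟩ : N))
        have h2 : (⁅(⟨a, haN⟩ : N), (⟨g, hg⟩ : N)⁆ : N) ∈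
            Subgroup.lowerCentralSeries (⊤ : Subgroup ↥N) (k + 1) := h1
        have h3 : (a * g * a⁻¹ * g⁻¹) ∈ Subgroup.zpowers a := by
          have := Subgroup.mul_mem _ (Subgroup.mem_zpowers a)
            (hconj g |> fun h => Subgroup.inv_mem _ h)
          simpa [mul_assoc] using this
        have h4 : a * g * a⁻¹ * g⁻¹ ≠ 1 := fun h => hne (by
          calc g * a = 1 * (g * a) := (one_mul _).symm
            _ = a * g * a⁻¹ * g⁻¹ * (g * a) := by rw [h]
            _ = a * g := by group)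
        obtain ⟨j, hj⟩ := Subgroup.mem_zpowers_iff.1 (hgen _ h3 h4)
        have h5 := Subgroup.zpow_mem _ h2 j
        convert h5 using 1
        exact Subtype.ext (by simp [commutatorElement_def, hj])
    have := hmem c
    rw [hc, Subgroup.mem_bot] at this
    have ha1 : a = 1 := congrArg Subtype.val this
    rw [hℓdef, ha1, orderOf_one] at hp
    exact Nat.not_prime_one hp
  · -- disjoint normal subgroups commute
    apply hcent
    by_contra hne
    have h1 : g * a * g⁻¹ * a⁻¹ ∈ N := by
      have : a * g⁻¹ * a⁻¹ ∈ N := hN.conj_mem _ (N.inv_mem hg) a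
      simpa [mul_assoc] using N.mul_mem hg this
    have h2 : g * a * g⁻¹ * a⁻¹ ∈ Subgroup.zpowers a :=
      Subgroup.mul_mem _ (hconj g) (Subgroup.inv_mem _ (Subgroup.mem_zpowers a))
    have h3 : g * a * g⁻¹ * a⁻¹ ≠ 1 := fun h => hne (by
      calc g * a = g * a * g⁻¹ * a⁻¹ * (a * g) := by group
        _ = a * g := by rw [h, one_mul])
    have hcard : Nat.card (Subgroup.zpowers a) = ℓ := Nat.card_zpowers a
    haveI : Fact ℓ.Prime := ⟨hp⟩
    haveI : Fact (Nat.card (Subgroup.zpowers a)).Prime := ⟨by rw [hcard]; exact hp⟩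
    rcases (N.subgroupOf (Subgroup.zpowers a)).eq_bot_or_eq_top_of_prime_card with h | h
    · exact h3 (Subgroup.disjoint_def.1 (Subgroup.subgroupOf_eq_bot.1 h) h1 h2)
    · exact haN (Subgroup.subgroupOf_eq_top.1 h (Subgroup.mem_zpowers a))

end

end H66.TransLinOdd
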