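import Cfsg.Agent.H81.Transitivity
import Cfsg.Agent.H81.TransCriteria
import Cfsg.Agent.H79.CoprimeGen

/-! The transitivity theorem for groups of odd order with solvable `p`-locals. -/

set_option autoImplicit false

namespace H66.TO

open Subgroup
open scoped Pointwise

variable {X : Type*} [Group X] [Finite X] {p : ℕ} [Fact p.Prime]

theorem gen_eq {x y : X} (hx : x ^ p = 1) (hy : y ∈ zpowers x) (hy1 : y ≠ 1) : x ∈ zpowers y := by
  have hle : zpowers y ≤ zpowers x := zpowers_le.mpr hy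
  have hx1 : x ≠ 1 := by
    rintro rfl
    rw [zpowers_one_eq_bot, mem_bot] at hy
    exact hy1 hy
  have hyp : y ^ p = 1 := by
    obtain ⟨n, rfl⟩ := mem_zpowers_iff.mp hy
    rw [← zpow_natCast, ← zpow_mul, mul_comm, zpow_mul, zpow_natCast, hx, one_zpow]
  have : zpowers y = zpowers x := eq_of_le_of_card_ge hle (by
    rw [Nat.card_zpowers, Nat.card_zpowers, orderOf_eq_prime hx hx1, orderOf_eq_prime hyp hy1])
  exact this ▸ mem_zpowers x

theorem card_le_of_isCyclic {F : Subgroup X} (hF : ∀ e ∈ F, e ^ p = 1) (h : IsCyclic F) :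
    Nat.card F ≤ p := by
  obtain ⟨g, hg⟩ := h.exists_generator
  rw [← orderOf_eq_card_of_forall_mem_zpowers hg, ← Subgroup.orderOf_coe]
  exact Nat.le_of_dvd (Fact.out : p.Prime).pos (orderOf_dvd_of_pow_eq_one (hF _ g.2))

/-- Some element of an elementary abelian group of order at least `p ^ 3` has fixed points outside
`D` in both of two given invariant groups. -/
theorem exists_common_fixed {q : ℕ} [Fact q.Prime] (hqp : q ≠ p) {E : Subgroup X}
    (hEc : ∀ a ∈ E, ∀ b ∈ E, a * b = b * a) (hE : ∀ e ∈ E, e ^ p = 1) (hE3 : p ^ 3 ≤ Nat.card E)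
    {R₁ R₂ D : Subgroup X} (hR₁ : IsPGroup q R₁) (hR₂ : IsPGroup q R₂)
    (hn₁ : E ≤ normalizer (R₁ : Set X)) (hn₂ : E ≤ normalizer (R₂ : Set X))
    (h₁ : ¬ R₁ ≤ D) (h₂ : ¬ R₂ ≤ D) :
    ∃ z ∈ E, z ≠ 1 ∧ ¬ R₁ ⊓ centralizer ({z} : Set X) ≤ D ∧ ¬ R₂ ⊓ centralizer ({z} : Set X) ≤ D := by
  have hp := (Fact.out : p.Prime)
  -- generation by fixed points
  have gen : ∀ {F R : Subgroup X}, F ≤ E → ¬ IsCyclic F → IsPGroup q R →
      F ≤ normalizer (R : Set X) → ¬ R ≤ D →
      ∃ z ∈ F, z ≠ 1 ∧ ¬ R ⊓ centralizer ({z} : Set X) ≤ D := by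
    intro F R hFE hF hR hFR hRD
    by_contra hcon
    push Not at hcon
    haveI : IsMulCommutative F :=
      ⟨⟨fun a b => Subtype.ext (hEc _ (hFE a.2) _ (hFE b.2))⟩⟩
    have hcop : (Nat.card R).Coprime p := by
      obtain ⟨n, hn⟩ := IsPGroup.iff_card.mp hR
      rw [hn]
      exact Nat.Coprime.pow_left n ((Nat.coprime_primes Fact.out hp).mpr hqp)
    exact hRD (H79.qgroup_le_of_centralizers_le (p := p) (q := q) (A := F) (H := D)
      (fun a ha => hE a (hFE ha)) hF R hR hFR hcop hcon)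
  have hEnc : ¬ IsCyclic E := fun h => by
    have h1 := (hE3.trans (card_le_of_isCyclic hE h))
    have h2 := Nat.pow_lt_pow_right hp.one_lt (show 1 < 3 by norm_num)
    rw [pow_one] at h2
    omega
  obtain ⟨a, haE, ha1, haD⟩ := gen le_rfl hEnc hR₁ hn₁ h₁
  -- a complement of `a`
  obtain ⟨E₀, -, hmax⟩ := Set.Finite.exists_le_maximal
    (s := {F : Subgroup X | F ≤ E ∧ a ∉ F}) (Set.toFinite _) (a := (⊥ : Subgroup X))
    ⟨bot_le, fun h => ha1 (mem_bot.mp h)⟩
  obtain ⟨hE₀, haE₀⟩ := hmax.prop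
  have normE : ∀ {x : X}, x ∈ E → zpowers x ≤ normalizer (E₀ : Set X) := fun {x} hx =>
    zpowers_le.mpr (centralizer_le_normalizer _
      (mem_centralizer_iff.mpr fun y hy => hEc y (hE₀ hy) x hx))
  have hsup : E ≤ zpowers a ⊔ E₀ := by
    intro x hx
    by_contra hxn
    have hxE₀ : x ∉ E₀ := fun h => hxn (mem_sup_right h)
    have hle : zpowers x ⊔ E₀ ≤ E := sup_le (zpowers_le.mpr hx) hE₀
    have ha : a ∈ zpowers x ⊔ E₀ := by
      by_contra h
      exact hxE₀ (hmax.le_of_ge ⟨hle, h⟩ le_sup_right (mem_sup_left (mem_zpowers x)))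
    rw [← SetLike.mem_coe, coe_mul_of_left_le_normalizer_right _ _ (normE hx)] at ha
    obtain ⟨u, hu, v, hv, huv⟩ := ha
    have hu1 : u ≠ 1 := by
      rintro rfl
      exact haE₀ (by rw [← huv]; simpa using hv)
    have hu' : u ∈ zpowers a ⊔ E₀ := by
      rw [show u = (u * v) * v⁻¹ by group, show u * v = a from huv]
      exact mul_mem (mem_sup_left (mem_zpowers a)) (mem_sup_right (inv_mem hv))
    exact hxn ((zpowers_le.mpr hu') (gen_eq (hE x hx) hu hu1))
  have hE₀c : ¬ IsCyclic E₀ := fun h => by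
    have h1 : Nat.card E ≤ Nat.card (zpowers a) * Nat.card E₀ := by
      refine (card_le_of_le hsup).trans ?_
      rw [show Nat.card ↥(zpowers a ⊔ E₀) = Nat.card ↑((zpowers a : Set X) * (E₀ : Set X)) from
        Nat.card_congr (Equiv.setCongr (coe_mul_of_left_le_normalizer_right _ _ (normE haE)))]
      exact Set.natCard_mul_le
    rw [Nat.card_zpowers, orderOf_eq_prime (hE a haE) ha1] at h1
    have h2 := hE3.trans (h1.trans (Nat.mul_le_mul_left p
      (card_le_of_isCyclic (fun e he => hE e (hE₀ he)) h)))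
    have h3 := Nat.pow_lt_pow_right hp.one_lt (show 2 < 3 by norm_num)
    rw [pow_two] at h3
    omega
  have hn₁' : E₀ ≤ normalizer ((R₁ ⊓ centralizer ({a} : Set X) : Subgroup X) : Set X) :=
    (le_inf (hE₀.trans hn₁) (fun y hy => le_normalizer
      (mem_centralizer_singleton_iff.mpr (hEc y (hE₀ hy) a haE)))).trans
      inf_normalizer_le_normalizer_inf
  obtain ⟨e, heE₀, he1, heD⟩ := gen hE₀ hE₀c (hR₁.to_le inf_le_left) hn₁' haD
  have hea : e ∉ zpowers a := fun h =>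
    haE₀ ((zpowers_le.mpr heE₀) (gen_eq (hE a haE) h he1))
  set F := zpowers a ⊔ zpowers e with hF
  have hFE : F ≤ E := sup_le (zpowers_le.mpr haE) (zpowers_le.mpr (hE₀ heE₀))
  have hFc : ¬ IsCyclic F := fun h => by
    obtain ⟨g, hg⟩ := h.exists_generator
    have hz : ∀ y ∈ F, y ∈ zpowers (g : X) := fun y hy => by
      obtain ⟨n, hn⟩ := mem_zpowers_iff.mp (hg ⟨y, hy⟩)
      exact mem_zpowers_iff.mpr ⟨n, by simpa using congrArg Subtype.val hn⟩
    have hga := gen_eq (hE _ (hFE g.2)) (hz a (mem_sup_left (mem_zpowers a))) ha1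
    exact hea ((zpowers_le.mpr hga) (hz e (mem_sup_right (mem_zpowers e))))
  obtain ⟨z, hzF, hz1, hzD⟩ := gen hFE hFc hR₂ (hFE.trans hn₂) h₂
  refine ⟨z, hFE hzF, hz1, fun hle => heD (le_trans ?_ hle), hzD⟩
  intro w hw
  obtain ⟨⟨hwR, hwa⟩, hwe⟩ := hw
  refine mem_inf.mpr ⟨hwR, ?_⟩
  have h1 : F ≤ centralizer ({w} : Set X) := sup_le
    (zpowers_le.mpr (mem_centralizer_singleton_iff.mpr (mem_centralizer_singleton_iff.mp hwa).symm))
    (zpowers_le.mpr (mem_centralizer_singleton_iff.mpr (mem_centralizer_singleton_iff.mp hwe).symm))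
  exact mem_centralizer_singleton_iff.mpr (mem_centralizer_singleton_iff.mp (h1 hzF)).symm

theorem transitive (hp2 : p ≠ 2)
    (hloc : ∀ T : Subgroup X, IsPGroup p T → T ≠ ⊥ → Group.IsSolvable (normalizer (T : Set X)))
    {P : Sylow p X} {B : Subgroup X} (hB : Cfsg.IsSCN (P : Subgroup X) B) (hBa : IsMulCommutative B)
    {E : Subgroup X} (hEB : E ≤ B) (hE : ∀ e ∈ E, e ^ p = 1) (hE3 : p ^ 3 ≤ Nat.card E)
    {q : ℕ} [Fact q.Prime] (hqp : q ≠ p) :
    ∀ (n : ℕ) {Q₁ Q₂ : Subgroup X}, Q₁ ∈ Cfsg.maxInvSubgroups ⊤ B ({q} : Set ℕ) →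
      Q₂ ∈ Cfsg.maxInvSubgroups ⊤ B ({q} : Set ℕ) → Nat.card X ≤ n + Nat.card ↥(Q₁ ⊓ Q₂) →
      ∃ c ∈ centralizer (B : Set X), Q₂ = H81.cj c Q₁ := by
  intro n
  induction n using Nat.strong_induction_on with
  | _ n IH =>
    intro Q₁ Q₂ h₁ h₂ hn
    obtain ⟨hp₁, hn₁⟩ := H81.mem_inv_iff.mp h₁.1
    obtain ⟨hp₂, hn₂⟩ := H81.mem_inv_iff.mp h₂.1
    by_cases hle : Q₁ ≤ Q₂
    · exact ⟨1, one_mem _, by rw [h₁.2 _ h₂.1 hle]; exact (H82.map_conj_one Q₁).symm⟩
    by_cases hle' : Q₂ ≤ Q₁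
    · exact ⟨1, one_mem _, by rw [← h₂.2 _ h₁.1 hle']; exact (H82.map_conj_one Q₁).symm⟩
    set D := Q₁ ⊓ Q₂ with hD
    have hD1 : D < Q₁ := lt_of_le_of_ne inf_le_left fun h => hle (h ▸ inf_le_right)
    have hD2 : D < Q₂ := lt_of_le_of_ne inf_le_right fun h => hle' (h ▸ inf_le_left)
    have hDn : B ≤ normalizer (D : Set X) := (le_inf hn₁ hn₂).trans inf_normalizer_le_normalizer_inf
    have hDN : B ≤ normalizer ((normalizer (D : Set X) : Subgroup X) : Set X) :=
      hDn.trans le_normalizer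
    set R₁ := Q₁ ⊓ normalizer (D : Set X) with hR₁
    set R₂ := Q₂ ⊓ normalizer (D : Set X) with hR₂
    have hB₁ : B ≤ normalizer (R₁ : Set X) := (le_inf hn₁ hDN).trans inf_normalizer_le_normalizer_inf
    have hB₂ : B ≤ normalizer (R₂ : Set X) := (le_inf hn₂ hDN).trans inf_normalizer_le_normalizer_inf
    have hnot : ∀ {Q : Subgroup X}, IsPGroup q Q → D < Q → ¬ Q ⊓ normalizer (D : Set X) ≤ D :=
      fun hQ hlt h => (H82.exists_normalizer_gt hQ hlt).not_ge h
    have hEc : ∀ a ∈ E, ∀ b ∈ E, a * b = b * a := fun a ha b hb =>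
      congrArg Subtype.val (hBa.is_comm.comm ⟨a, hEB ha⟩ ⟨b, hEB hb⟩)
    obtain ⟨z, hzE, hz1, hz₁, hz₂⟩ := exists_common_fixed hqp hEc hE hE3 (hp₁.to_le inf_le_left)
      (hp₂.to_le inf_le_left) (hEB.trans hB₁) (hEB.trans hB₂) (hnot hp₁ hD1) (hnot hp₂ hD2)
    -- the solvable local subgroup
    set H := centralizer ({z} : Set X) with hH
    have hBH : B ≤ H := fun b hb => mem_centralizer_singleton_iff.mpr
      (congrArg Subtype.val (hBa.is_comm.comm ⟨b, hb⟩ ⟨z, hEB hzE⟩))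
    have hBp : IsPGroup p B := P.isPGroup'.to_le hB.1
    haveI hHs : Group.IsSolvable H := by
      have hz : zpowers z ≤ B := zpowers_le.mpr (hEB hzE)
      haveI := hloc _ (hBp.to_le hz) (fun h => hz1 (zpowers_eq_bot.mp h))
      have hle : H ≤ normalizer (zpowers z : Set X) := by
        rw [hH, ← centralizer_closure, ← zpowers_eq_closure]
        exact centralizer_le_normalizer _
      exact H1.isSolvable_mono ‹_› hle
    set K : Subgroup X := (Cfsg.pPrimeCore p H).map H.subtype with hK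
    have hfull : ∀ x ∈ centralizer ((B.subgroupOf H : Subgroup H) : Set H),
        IsPGroup p (zpowers x) → x ∈ B.subgroupOf H := by
      intro x hx hxp
      refine H81.scn_pElement_mem hB (mem_centralizer_iff.mpr fun a ha => ?_) ?_
      · exact congrArg Subtype.val (mem_centralizer_iff.mp hx ⟨a, hBH ha⟩ ha)
      · have := hxp.map H.subtype
        rwa [MonoidHom.map_zpowers] at this
    have inK : ∀ T : Subgroup X, IsPGroup q T → T ≤ H → B ≤ normalizer (T : Set X) → T ≤ K := by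
      intro T hT hTH hBT x hx
      refine ⟨⟨x, hTH hx⟩, H84.inv_le_pPrimeCore
        (H10.isPConstrained_of_isPSolvable H10.isPSolvable_of_isSolvable)
        (hBp.comap_subtype (K := H)) hfull (fun h => absurd h hp2) (Q := T.subgroupOf H) ?_ ?_ hx,
        rfl⟩
      · rw [Nat.card_congr (subgroupOfEquivOfLe hTH).toEquiv]
        intro hd
        obtain ⟨k, hk⟩ := IsPGroup.iff_card.mp hT
        rw [hk] at hd
        exact hqp ((Nat.prime_dvd_prime_iff_eq Fact.out Fact.out).mp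
          ((Fact.out : p.Prime).dvd_of_dvd_pow hd)).symm
      · intro b hb
        rw [mem_set_normalizer_iff]
        exact fun y => mem_set_normalizer_iff.mp (hBT hb) (y : X)
    set K₀ := K ⊓ normalizer (D : Set X) with hK₀
    have hHK : H ≤ normalizer (K : Set X) := by
      intro h hh
      rw [H82.mem_normalizer_iff_map, hK]
      haveI := H1.pPrimeCore_normal' p H
      have e : (MulAut.conj h).toMonoidHom.comp H.subtype
          = H.subtype.comp (MulAut.conj (⟨h, hh⟩ : H)).toMonoidHom := MonoidHom.ext fun y => rfl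
      rw [map_map, e, ← map_map]
      congr 1
      exact H1.map_pPrimeCore_equiv p (MulAut.conj (⟨h, hh⟩ : H))
    have hBK₀ : B ≤ normalizer (K₀ : Set X) :=
      (le_inf (hBH.trans hHK) hDN).trans inf_normalizer_le_normalizer_inf
    have hcop : (Nat.card B).Coprime (Nat.card K₀) := by
      have h1 : (Nat.card K).Coprime p := by
        rw [hK, card_subtype]
        exact H1.card_pPrimeCore_coprime p H
      obtain ⟨k, hk⟩ := IsPGroup.iff_card.mp hBp
      rw [hk]
      exact Nat.Coprime.pow_left k (h1.coprime_dvd_left (card_dvd_of_le inf_le_left)).symm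
    have hBs : Group.IsSolvable B :=
      Group.isSolvable_of_comm fun a b => hBa.is_comm.comm a b
    have hTn : ∀ {R : Subgroup X}, B ≤ normalizer (R : Set X) →
        B ≤ normalizer ((R ⊓ H : Subgroup X) : Set X) := fun hR =>
      (le_inf hR (hBH.trans le_normalizer)).trans inf_normalizer_le_normalizer_inf
    have hsub : ∀ {Q : Subgroup X}, IsPGroup q Q →
        B ≤ normalizer ((Q ⊓ normalizer (D : Set X) : Subgroup X) : Set X) →
        (Q ⊓ normalizer (D : Set X)) ⊓ H ≤ K₀ := fun hQ hR =>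
      le_inf (inK _ (hQ.to_le (inf_le_left.trans inf_le_left)) inf_le_right (hTn hR))
        (inf_le_left.trans inf_le_right)
    obtain ⟨S₁, hS₁, hA₁⟩ := H1.exists_invariant_sylow_ge hBK₀ hcop (Or.inl hBs) q
      (hsub hp₁ hB₁) (hp₁.to_le (inf_le_left.trans inf_le_left)) (hTn hB₁)
    obtain ⟨S₂, hS₂, hA₂⟩ := H1.exists_invariant_sylow_ge hBK₀ hcop (Or.inl hBs) q
      (hsub hp₂ hB₂) (hp₂.to_le (inf_le_left.trans inf_le_left)) (hTn hB₂)
    obtain ⟨c, hcB, he⟩ := H1.exists_fixed_conj_sylow hBK₀ hcop (Or.inl hBs) q S₁ S₂ hA₁ hA₂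
    set S₀ := (S₂ : Subgroup K₀).map K₀.subtype with hS₀
    have hmap : H81.cj (c : X) ((S₁ : Subgroup K₀).map K₀.subtype) = S₀ := by
      rw [hS₀, ← he]
      exact ((H1.map_subtype_conj_smul c (S₁ : Subgroup K₀)).trans (H81.smul_eq_cj _ _)).symm
    have hS₀D : S₀ ≤ normalizer (D : Set X) := (map_subtype_le _).trans inf_le_right
    have hcD : (c : X) ∈ normalizer (D : Set X) := (mem_inf.mp c.2).2
    have hbig : IsPGroup q ↥(D ⊔ S₀) := sup_comm D S₀ ▸
      IsPGroup.to_sup_of_normal_right' (S₂.isPGroup'.map K₀.subtype) (hp₁.to_le inf_le_left) hS₀D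
    have hbigB : B ≤ normalizer ((D ⊔ S₀ : Subgroup X) : Set X) := by
      intro b hb
      rw [H82.mem_normalizer_iff_map, Subgroup.map_sup, H82.mem_normalizer_iff_map.mp (hDn hb),
        H82.mem_normalizer_iff_map.mp (hA₂ hb)]
    obtain ⟨Q₃, hQ₃, hle₃⟩ := H81.exists_maxInv_ge (H81.mem_inv_iff.mpr ⟨hbig, hbigB⟩)
    have hcN : (c : X) ∈ normalizer (B : Set X) := centralizer_le_normalizer _ hcB
    have hcQ₁ := H81.cj_mem_maxInv hcN h₁
    have lt_card : ∀ {T : Subgroup X}, D < T → Nat.card X ≤ n - 1 + Nat.card T ∧ n - 1 < n := by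
      intro T hT
      have h1 : Nat.card D < Nat.card T := lt_of_le_of_ne (card_le_of_le hT.le)
        fun h => hT.ne (eq_of_le_of_card_ge hT.le h.ge)
      have h2 : Nat.card T ≤ Nat.card X := card_le_card_group T
      omega
    have g₁ : D < H81.cj (c : X) Q₁ ⊓ Q₃ := by
      refine lt_of_le_not_ge (le_inf ?_ (le_sup_left.trans hle₃)) fun h => hz₁ fun w hw => ?_
      · intro d hd
        refine ⟨(c : X)⁻¹ * d * c, ?_, by simp [mul_assoc]⟩
        refine hD1.le ((mem_set_normalizer_iff.mp hcD _).mpr ?_)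
        simpa [mul_assoc] using hd
      · refine (mem_set_normalizer_iff.mp hcD w).mpr (h (mem_inf.mpr ⟨⟨w, ?_, rfl⟩, ?_⟩))
        · exact (mem_inf.mp (mem_inf.mp hw).1).1
        · refine hle₃ (mem_sup_right ?_)
          rw [← hmap]
          exact ⟨w, hS₁ hw, rfl⟩
    have g₂ : D < Q₃ ⊓ Q₂ := by
      refine lt_of_le_not_ge (le_inf (le_sup_left.trans hle₃) hD2.le) fun h => hz₂ fun w hw => ?_
      exact h (mem_inf.mpr ⟨hle₃ (mem_sup_right (hS₂ hw)), (mem_inf.mp (mem_inf.mp hw).1).1⟩)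
    obtain ⟨k₁, hk₁, he₁⟩ := IH _ (lt_card g₁).2 hcQ₁ hQ₃ (lt_card g₁).1
    obtain ⟨k₂, hk₂, he₂⟩ := IH _ (lt_card g₂).2 hQ₃ h₂ (lt_card g₂).1
    refine ⟨k₂ * (k₁ * c), mul_mem hk₂ (mul_mem hk₁ hcB), ?_⟩
    show Q₂ = Q₁.map _
    rw [H82.map_conj_mul, H82.map_conj_mul]
    rw [he₁] at he₂
    exact he₂

end H66.TO
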