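import Cfsg.Agent.H66.Higman
import Cfsg.Agent.H66.RegularField
import Cfsg.Agent.H66.SquareExt
import Cfsg.Agent.H66.FieldMaps
import Cfsg.Prelude.Def_LieRecognition

/-!
A Suzuki 2-group whose order is the square of the order of its centre is of type A.
-/

set_option autoImplicit false

namespace H66

open Matrix

section Mat

variable {F : Type*} [Field F] [CharP F 2] (φ : F →+* F)

/-- the matrix with parameters `x`, `y` of the group of type A -/
def typeAMat (x y : F) : Matrix (Fin 3) (Fin 3) F := !![1, 0, 0; x, 1, 0; y, φ x, 1]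

omit [CharP F 2] in
theorem typeAMat_mul (x y x' y' : F) :
    typeAMat φ x y * typeAMat φ x' y' = typeAMat φ (x + x') (y + y' + φ x * x') := by
  ext i j
  fin_cases i <;> fin_cases j <;>
    simp [typeAMat, Matrix.mul_apply, Fin.sum_univ_three] <;> ring

omit [CharP F 2] in
theorem typeAMat_zero : typeAMat φ 0 0 = 1 := by
  ext i j
  fin_cases i <;> fin_cases j <;> simp [typeAMat]

/-- the element with parameters `x`, `y` -/
def typeAEl (x y : F) : GL (Fin 3) F where
  val := typeAMat φ x y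
  inv := typeAMat φ x (y + φ x * x)
  val_inv := by
    rw [typeAMat_mul, CharTwo.add_self_eq_zero,
      show y + (y + φ x * x) + φ x * x = (y + y) + (φ x * x + φ x * x) by ring,
      CharTwo.add_self_eq_zero, CharTwo.add_self_eq_zero, add_zero, typeAMat_zero]
  inv_val := by
    rw [typeAMat_mul, CharTwo.add_self_eq_zero,
      show y + φ x * x + y + φ x * x = (y + y) + (φ x * x + φ x * x) by ring,
      CharTwo.add_self_eq_zero, CharTwo.add_self_eq_zero, add_zero, typeAMat_zero]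

theorem typeAEl_mem (x y : F) : typeAEl φ x y ∈ Cfsg.suzukiTypeA F φ :=
  Subgroup.subset_closure ⟨x, y, rfl⟩

theorem typeAEl_mul (x y x' y' : F) :
    typeAEl φ x y * typeAEl φ x' y' = typeAEl φ (x + x') (y + y' + φ x * x') :=
  Units.ext (typeAMat_mul φ x y x' y')

theorem exists_typeAEl {g : GL (Fin 3) F} (hg : g ∈ Cfsg.suzukiTypeA F φ) :
    ∃ x y, g = typeAEl φ x y := by
  induction hg using Subgroup.closure_induction with
  | mem g hg =>
    obtain ⟨x, y, h⟩ := hg
    exact ⟨x, y, Units.ext h⟩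
  | one => exact ⟨0, 0, Units.ext (typeAMat_zero φ).symm⟩
  | mul g h _ _ hg hh =>
    obtain ⟨x, y, rfl⟩ := hg
    obtain ⟨x', y', rfl⟩ := hh
    exact ⟨_, _, typeAEl_mul φ x y x' y'⟩
  | inv g _ hg =>
    obtain ⟨x, y, rfl⟩ := hg
    exact ⟨x, y + φ x * x, Units.ext rfl⟩

/-- the two parameters -/
def parX (g : Cfsg.suzukiTypeA F φ) : F := (g : GL (Fin 3) F).val 1 0

/-- the two parameters -/
def parY (g : Cfsg.suzukiTypeA F φ) : F := (g : GL (Fin 3) F).val 2 0

theorem parX_mk (x y : F) : parX φ ⟨typeAEl φ x y, typeAEl_mem φ x y⟩ = x := rfl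

theorem parY_mk (x y : F) : parY φ ⟨typeAEl φ x y, typeAEl_mem φ x y⟩ = y := rfl

theorem eq_mk (g : Cfsg.suzukiTypeA F φ) :
    g = ⟨typeAEl φ (parX φ g) (parY φ g), typeAEl_mem φ _ _⟩ := by
  obtain ⟨x, y, hxy⟩ := exists_typeAEl φ g.2
  have hg : g = ⟨typeAEl φ x y, typeAEl_mem φ x y⟩ := Subtype.ext hxy
  rw [hg, parX_mk, parY_mk]

theorem parX_mul (g h : Cfsg.suzukiTypeA F φ) : parX φ (g * h) = parX φ g + parX φ h := by
  rw [eq_mk φ g, eq_mk φ h]
  show parX φ ⟨_ * _, _⟩ = _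
  simp only [typeAEl_mul]
  rfl

theorem parY_mul (g h : Cfsg.suzukiTypeA F φ) :
    parY φ (g * h) = parY φ g + parY φ h + φ (parX φ g) * parX φ h := by
  rw [eq_mk φ g, eq_mk φ h]
  show parY φ ⟨_ * _, _⟩ = _
  simp only [typeAEl_mul]
  rfl

end Mat

theorem aut_orbit_sum_fixed {F : Type*} [Field F] [Fintype F] (φ : F ≃+* F) {m : ℕ}
    (hm : orderOf φ = 2 * m) (a : F) :
    (φ * φ) (∑ i ∈ Finset.range m, (φ ^ (2 * i)) a) = ∑ i ∈ Finset.range m, (φ ^ (2 * i)) a := by
  rw [map_sum]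
  have h1 := Finset.sum_range_succ' (fun i => (φ ^ (2 * i)) a) m
  rw [Finset.sum_range_succ] at h1
  rw [show φ ^ (2 * m) = φ ^ (2 * 0) by rw [← hm, pow_orderOf_eq_one, mul_zero, pow_zero]] at h1
  refine Eq.trans (Finset.sum_congr rfl fun i _ => ?_) (add_right_cancel h1).symm
  rw [show 2 * (i + 1) = 2 + 2 * i by ring, pow_add, pow_two]
  rfl

theorem exists_norm_one {F : Type*} [Field F] [Fintype F] [CharP F 2] (φ : F ≃+* F)
    (heven : Even (orderOf φ)) : ∃ u : F, u ≠ 1 ∧ u * φ u = 1 := by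
  classical
  haveI : Finite (F ≃+* F) := Finite.of_injective (fun σ : F ≃+* F => (σ : F → F))
    DFunLike.coe_injective
  obtain ⟨m, hm⟩ := heven
  rw [← two_mul] at hm
  have hpos : 0 < orderOf φ := orderOf_pos φ
  obtain ⟨a, ha⟩ : ∃ a : F, φ (∑ i ∈ Finset.range m, (φ ^ (2 * i)) a) ≠
      ∑ i ∈ Finset.range m, (φ ^ (2 * i)) a := by
    by_contra hcon
    push Not at hcon
    have hinj : Function.Injective (fun i : Fin (orderOf φ) => φ ^ (i : ℕ)) := fun i j h =>
      Fin.ext (pow_injOn_Iio_orderOf i.2 j.2 h)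
    have hli := Fintype.linearIndependent_iff.mp
      (aut_linearIndependent.comp _ hinj) (fun _ => (1 : F)) (by
        funext a
        simp only [Function.comp_apply, one_smul, Finset.sum_apply, RingEquiv.coe_toRingHom,
          Pi.zero_apply]
        rw [Fin.sum_univ_eq_sum_range (fun i => (φ ^ i) a), hm]
        have hsplit : ∀ n, ∑ i ∈ Finset.range (2 * n), (φ ^ i) a =
            (∑ i ∈ Finset.range n, (φ ^ (2 * i)) a) +
              φ (∑ i ∈ Finset.range n, (φ ^ (2 * i)) a) := by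
          intro n
          induction n with
          | zero => simp
          | succ n ih =>
            rw [show 2 * (n + 1) = 2 * n + 1 + 1 by ring, Finset.sum_range_succ,
              Finset.sum_range_succ, ih, Finset.sum_range_succ, map_add, pow_succ' φ (2 * n)]
            show _ + φ ((φ ^ (2 * n)) a) = _
            ring
        rw [hsplit, hcon, CharTwo.add_self_eq_zero])
    exact one_ne_zero (hli ⟨0, hpos⟩)
  set v := ∑ i ∈ Finset.range m, (φ ^ (2 * i)) a with hv
  have hφφ : φ (φ v) = v := aut_orbit_sum_fixed φ hm a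
  have hv0 : v ≠ 0 := fun h => ha (by rw [h, map_zero])
  refine ⟨φ v / v, fun h => ha ((div_eq_one_iff_eq hv0).mp h), ?_⟩
  rw [map_div₀, hφφ]
  have : φ v ≠ 0 := fun h => hv0 (φ.injective (h.trans (map_zero φ).symm))
  field_simp

theorem suzuki_typeA {P : Type*} [Group P] (hP : Cfsg.IsSuzukiTwoGroup P)
    (hcard : Nat.card P = Nat.card (Subgroup.center P) ^ 2) :
    ∃ (F : Type) (_ : Field F) (_ : Fintype F) (φ : F ≃+* F),
      Fintype.card F = Nat.card (Subgroup.center P) ∧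
      φ ≠ RingEquiv.refl F ∧ Odd (orderOf φ) ∧
        Nonempty (P ≃* Cfsg.suzukiTypeA F (φ : F →+* F)) := by
  classical
  haveI : Finite P := hP.1
  haveI : Fact (Nat.Prime 2) := ⟨Nat.prime_two⟩
  obtain ⟨hchar, hexp⟩ := Hig.suzuki_center hP
  obtain ⟨-, hp, ⟨x₀, y₀, hna⟩, ⟨s, -, -, hs1, hss, -, -⟩, L, hcyc, hreg⟩ := hP
  haveI := hcyc
  letI : CommGroup L :=
    { (inferInstance : Group L) with mul_comm := (IsCyclic.commGroup (α := L)).mul_comm }
  set Z := Subgroup.center P with hZ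
  have hLZ : ∀ (k : L), ∀ z ∈ Z, (k : MulAut P) z ∈ Z := fun k z hz => by
    rw [hZ, Subgroup.mem_center_iff] at hz ⊢
    intro g
    rw [← (k : MulAut P).apply_symm_apply g, ← map_mul, hz, map_mul]
  have hfree : ∀ (k : L) (x : P), x ≠ 1 → x * x = 1 → (k : MulAut P) x = x → k = 1 :=
    fun k x hx1 hxx h => by
      obtain ⟨m, -, hu⟩ := hreg x x hx1 hxx hx1 hxx
      exact (hu k h).trans (hu 1 rfl).symm
  letI : CommGroup Z :=
    { (inferInstance : Group Z) with
      mul_comm := fun a b => Subtype.ext (Subgroup.mem_center_iff.mp b.2 a) }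
  letI : MulDistribMulAction L Z :=
    { smul := fun k z => ⟨(k : MulAut P) z, hLZ k z z.2⟩
      one_smul := fun z => Subtype.ext rfl
      mul_smul := fun k l z => Subtype.ext rfl
      smul_mul := fun k a b => Subtype.ext (map_mul (k : MulAut P) (a : P) (b : P))
      smul_one := fun k => Subtype.ext (map_one (k : MulAut P)) }
  have hsZ : s ∈ Z := ((hchar s).mp ⟨hs1, hss⟩).1
  haveI : Nontrivial Z := ⟨⟨⟨s, hsZ⟩, 1, fun h => hs1 (congrArg Subtype.val h)⟩⟩
  have htrZ : ∀ a b : Z, a ≠ 1 → b ≠ 1 → ∃ k : L, k • a = b := fun a b ha hb => by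
    obtain ⟨k, hk, -⟩ := hreg (a : P) b (fun h => ha (Subtype.ext h)) (hexp _ a.2)
      (fun h => hb (Subtype.ext h)) (hexp _ b.2)
    exact ⟨k, Subtype.ext hk⟩
  obtain ⟨F, hF, hFfin, e1, χ1, he1b, he1a, he1k, hχ1, hχ1s⟩ := exists_field_of_regular htrZ
    (fun k a ha h => hfree k a (fun h' => ha (Subtype.ext h')) (hexp _ a.2)
      (congrArg Subtype.val h))
  -- the quotient
  set q := Nat.card Z with hq
  have hcardX : Nat.card (P ⧸ Z) = q := by
    have := Subgroup.card_eq_card_quotient_mul_card_subgroup Z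
    rw [hcard, pow_two] at this
    exact (Nat.eq_of_mul_eq_mul_right (Nat.card_pos (α := Z)) this).symm
  have hXnt : Nontrivial (P ⧸ Z) := by
    rw [← Finite.one_lt_card_iff_nontrivial, hcardX]
    exact Finite.one_lt_card
  letI : MulDistribMulAction L (P ⧸ Z) :=
    { smul := fun k => QuotientGroup.map Z Z (k : MulAut P).toMonoidHom (fun z hz => hLZ k z hz)
      one_smul := fun x => by
        obtain ⟨g, rfl⟩ := QuotientGroup.mk_surjective x
        rfl
      mul_smul := fun k l x => by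
        obtain ⟨g, rfl⟩ := QuotientGroup.mk_surjective x
        rfl
      smul_mul := fun k x y => map_mul _ x y
      smul_one := fun k => map_one _ }
  have hsmk : ∀ (k : L) (g : P), k • (g : P ⧸ Z) = (((k : MulAut P) g : P) : P ⧸ Z) :=
    fun k g => rfl
  obtain ⟨x₁, hx₁⟩ : ∃ x : P ⧸ Z, orderOf x = 2 :=
    exists_prime_orderOf_dvd_card' 2
      ((hp.to_quotient Z).card_eq_or_dvd.resolve_left Finite.one_lt_card.ne')
  have hx1ne : x₁ ≠ 1 := fun h => by simp [h] at hx₁
  have hXfree : ∀ k : L, k • x₁ = x₁ → k = 1 := by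
    obtain ⟨g, rfl⟩ := QuotientGroup.mk_surjective x₁
    intro k hk
    rw [hsmk] at hk
    have hz : g⁻¹ * (k : MulAut P) g ∈ Z := by
      rw [← QuotientGroup.eq]; exact hk.symm
    have hggZ : g * g ∈ Z := by
      rw [← QuotientGroup.eq_one_iff, QuotientGroup.mk_mul, ← pow_two, ← hx₁, pow_orderOf_eq_one]
    refine hfree k (g * g) (fun h => hx1ne ((QuotientGroup.eq_one_iff g).mpr ?_)) (hexp _ hggZ) ?_
    · by_cases hg1 : g = 1
      · rw [hg1]; exact one_mem _
      · exact ((hchar g).mp ⟨hg1, h⟩).1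
    · set z := g⁻¹ * (k : MulAut P) g with hzdef
      have e : (k : MulAut P) g = g * z := by rw [hzdef]; group
      rw [map_mul, e]
      calc g * z * (g * z) = g * (z * g) * z := by group
        _ = g * g * (z * z) := by rw [← Subgroup.mem_center_iff.mp hz g]; group
        _ = g * g := by rw [hexp z hz, mul_one]
  have hLcard : Nat.card L + 1 = q := by
    rw [hq, ← Finite.card_option]
    have smul_one_imp : ∀ (k : L) (a : Z), k • a = 1 → a = 1 := fun k a h => by
      rw [← inv_smul_smul k a, h, smul_one]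
    refine Nat.card_eq_of_bijective
      (fun o : Option L => o.elim (1 : Z) (fun k => k • (⟨s, hsZ⟩ : Z))) ⟨?_, ?_⟩
    · rintro (_ | k) (_ | l) h
      · rfl
      · exact absurd (smul_one_imp l ⟨s, hsZ⟩ h.symm) (fun h' => hs1 (congrArg Subtype.val h'))
      · exact absurd (smul_one_imp k ⟨s, hsZ⟩ h) (fun h' => hs1 (congrArg Subtype.val h'))
      · obtain ⟨m, -, hu⟩ := hreg s ((k : MulAut P) s) hs1 hss
          (fun h' => hs1 ((k : MulAut P).injective (h'.trans (map_one _).symm)))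
          (by rw [← map_mul, hss, map_one])
        exact congrArg some ((hu k rfl).trans (hu l (congrArg Subtype.val h).symm).symm)
    · intro z
      by_cases hz : z = 1
      · exact ⟨none, hz.symm⟩
      · obtain ⟨k, hk⟩ := htrZ ⟨s, hsZ⟩ z (fun h => hs1 (congrArg Subtype.val h)) hz
        exact ⟨some k, hk⟩
  have hXorb : ∀ y : P ⧸ Z, y ≠ 1 → ∃ k : L, k • x₁ = y := by
    have hinj : Function.Injective (fun o : Option L => o.elim (1 : P ⧸ Z) (fun k => k • x₁)) := by
      rintro (_ | k) (_ | l) h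
      · rfl
      · exact absurd (show x₁ = 1 by rw [← inv_smul_smul l x₁, show l • x₁ = 1 from h.symm, smul_one]) hx1ne
      · exact absurd (show x₁ = 1 by rw [← inv_smul_smul k x₁, show k • x₁ = 1 from h, smul_one]) hx1ne
      · refine congrArg some (inv_mul_eq_one.mp (hXfree (k⁻¹ * l) ?_))
        rw [mul_smul, ← show k • x₁ = l • x₁ from h, inv_smul_smul]
    intro y hy
    obtain ⟨o, ho⟩ := (hinj.bijective_of_nat_card_le (by
      rw [Finite.card_option, hLcard, hcardX])).2 y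
    cases o with
    | none => exact absurd ho.symm hy
    | some k => exact ⟨k, ho⟩
  have hX2 : ∀ y : P ⧸ Z, y * y = 1 := fun y => by
    by_cases hy : y = 1
    · rw [hy, one_mul]
    · obtain ⟨k, rfl⟩ := hXorb y hy
      rw [← smul_mul', ← pow_two, ← hx₁, pow_orderOf_eq_one, smul_one]
  letI : CommGroup (P ⧸ Z) :=
    { (inferInstance : Group (P ⧸ Z)) with
      mul_comm := fun a b => by
        have hi : ∀ y : P ⧸ Z, y⁻¹ = y := fun y => inv_eq_of_mul_eq_one_right (hX2 y)
        calc a * b = (a * b)⁻¹ := (hi _).symm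
          _ = b * a := by rw [_root_.mul_inv_rev, hi, hi] }
  obtain ⟨F', hF', hF'fin, e2, χ2, he2b, he2a, he2k, hχ2, hχ2s⟩ := exists_field_of_regular
    (E := P ⧸ Z) (K := L) (fun a b ha hb => by
      obtain ⟨k, rfl⟩ := hXorb a ha
      obtain ⟨l, rfl⟩ := hXorb b hb
      exact ⟨l * k⁻¹, by rw [mul_smul, inv_smul_smul]⟩)
    (fun k a ha h => by
      obtain ⟨l, rfl⟩ := hXorb a ha
      refine hXfree k ?_
      rw [← mul_smul, mul_comm, mul_smul] at h
      exact MulAction.injective l h)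
  have hFcard : Fintype.card F = q := by
    rw [hq, Fintype.card_eq_nat_card]; exact (Nat.card_eq_of_bijective e1 he1b).symm
  have hF'card : Fintype.card F' = q := by
    rw [← hcardX, Fintype.card_eq_nat_card]; exact (Nat.card_eq_of_bijective e2 he2b).symm
  let θ : F' ≃+* F := FiniteField.ringEquivOfCardEq (K := F') (K' := F) (by rw [hFcard, hF'card])
  haveI : CharP F 2 := by
    obtain ⟨p, hp'⟩ := CharP.exists F
    haveI := Fact.mk (CharP.char_is_prime F p)
    obtain ⟨n, -, hn⟩ := FiniteField.card F p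
    obtain ⟨m, hm⟩ := (hp.to_subgroup Z).exists_card_eq
    rw [hFcard, hq, hm] at hn
    have hpd : p ∣ 2 ^ m := hn ▸ dvd_pow_self p n.ne_zero
    rw [(Nat.prime_dvd_prime_iff_eq Fact.out Nat.prime_two).mp
      ((Fact.out : p.Prime).dvd_of_dvd_pow hpd)] at hp'
    exact hp'
  have he11 : e1 1 = 0 := by
    have h := he1a 1 1; rw [one_mul] at h; exact left_eq_add.mp h
  have he21 : e2 1 = 0 := by
    have h := he2a 1 1; rw [one_mul] at h; exact left_eq_add.mp h
  set π₀ : P → F := fun g => θ (e2 g) with hπ₀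
  have hπmul : ∀ x y, π₀ (x * y) = π₀ x + π₀ y := fun x y => by
    show θ (e2 ((x * y : P) : P ⧸ Z)) = _
    rw [QuotientGroup.mk_mul, he2a, map_add]
  have hπsurj : Function.Surjective π₀ := fun c => by
    obtain ⟨y, hy⟩ := he2b.2 (θ.symm c)
    obtain ⟨g, rfl⟩ := QuotientGroup.mk_surjective y
    exact ⟨g, by show θ (e2 g) = c; rw [hy, θ.apply_symm_apply]⟩
  have hπker : ∀ x, π₀ x = 0 ↔ x ∈ Z := fun x => by
    show θ (e2 x) = 0 ↔ _
    rw [← map_zero θ, θ.injective.eq_iff, ← he21, he2b.1.eq_iff, QuotientGroup.eq_one_iff]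
  have hsqZ : ∀ x : P, x * x ∈ Z := fun x => by
    rw [← QuotientGroup.eq_one_iff, QuotientGroup.mk_mul]; exact hX2 _
  have hsq1 : ∀ x : P, e1 ⟨x * x, hsqZ x⟩ = 0 → x ∈ Z := fun x hx => by
    have h1 : x * x = 1 := congrArg Subtype.val (he1b.1 (hx.trans he11.symm))
    by_cases hx1 : x = 1
    · rw [hx1]; exact one_mem _
    · exact ((hchar x).mp ⟨hx1, h1⟩).1
  -- normalise
  obtain ⟨u, hu⟩ := hπsurj 1
  set c := e1 ⟨u * u, hsqZ u⟩ with hcdef
  have hc0 : c ≠ 0 := fun h => by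
    have := (hπker u).mpr (hsq1 u h)
    rw [hu] at this
    exact one_ne_zero this
  -- the squaring map
  have hwell : ∀ x y, π₀ x = π₀ y → x * x = y * y := by
    intro x y h
    have h1 : x⁻¹ * y ∈ Z := by
      rw [← hπker]
      have h2 := hπmul x (x⁻¹ * y)
      rw [mul_inv_cancel_left, ← h] at h2
      exact left_eq_add.mp h2
    set z := x⁻¹ * y with hz
    have e : y = x * z := by rw [hz]; group
    rw [e]
    symm
    calc x * z * (x * z) = x * (z * x) * z := by group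
      _ = x * x * (z * z) := by rw [← Subgroup.mem_center_iff.mp h1 x]; group
      _ = x * x := by rw [hexp z h1, mul_one]
  let e' : P → F := fun x => if h : x ∈ Z then c⁻¹ * e1 ⟨x, h⟩ else 0
  have he' : ∀ (x : P) (h : x ∈ Z), e' x = c⁻¹ * e1 ⟨x, h⟩ := fun x h => dif_pos h
  choose lift hlift using hπsurj
  let Qm : F → F := fun a => e' (lift a * lift a)
  have hQ : ∀ x, Qm (π₀ x) = e' (x * x) := fun x => congrArg e' (hwell _ _ (hlift _))
  have hQk : ∀ (k : L) (a : F), Qm (θ (χ2 k) * a) = χ1 k * Qm a := by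
    intro k a
    have e : π₀ ((k : MulAut P) (lift a)) = θ (χ2 k) * a := by
      show θ (e2 (((k : MulAut P) (lift a) : P) : P ⧸ Z)) = _
      rw [← hsmk, he2k, map_mul]
      exact congrArg _ (hlift a)
    rw [← e, hQ, he' _ (hsqZ _)]
    show _ = χ1 k * e' (lift a * lift a)
    rw [he' _ (hsqZ _), mul_left_comm, ← he1k]
    congr 2
    exact Subtype.ext (map_mul (k : MulAut P) (lift a) (lift a)).symm
  have hQ1 : Qm 1 = 1 := by
    have h := hQ u
    rw [hu, he' _ (hsqZ u), ← hcdef, inv_mul_cancel₀ hc0] at h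
    exact h
  have hQ0 : Qm 0 = 0 := by
    have h := hQ 1
    rw [(hπker 1).mpr (one_mem _), one_mul, he' _ (one_mem _)] at h
    rw [h, show (⟨(1 : P), one_mem Z⟩ : Z) = 1 from rfl, he11, mul_zero]
  have hQmul : ∀ a b, Qm (a * b) = Qm a * Qm b := by
    intro a b
    by_cases ha : a = 0
    · rw [ha, zero_mul, hQ0, zero_mul]
    obtain ⟨k, hk⟩ := hχ2s (θ.symm a) (fun h => ha (by rw [← θ.apply_symm_apply a, h, map_zero]))
    have hka : θ (χ2 k) = a := by rw [hk, θ.apply_symm_apply]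
    rw [← hka, hQk]
    congr 1
    have := hQk k 1
    rw [mul_one, hQ1, mul_one] at this
    exact this.symm
  have hQquad : ∀ x y z : F,
      Qm (x + y + z) + Qm (x + y) + Qm (x + z) + Qm (y + z) + Qm x + Qm y + Qm z = 0 := by
    have hcomZ : ∀ x y : P, y * x * y⁻¹ * x⁻¹ ∈ Z := fun x y => by
      rw [← QuotientGroup.eq_one_iff]
      simp only [QuotientGroup.mk_mul, QuotientGroup.mk_inv]
      rw [mul_comm (y : P ⧸ Z) x, mul_inv_cancel_right, mul_inv_cancel]
    have he'mul : ∀ x y, x ∈ Z → y ∈ Z → e' (x * y) = e' x + e' y := fun x y hx hy => by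
      rw [he' _ (mul_mem hx hy), he' _ hx, he' _ hy, ← mul_add, ← he1a]
      rfl
    let B : P → P → F := fun x y => e' (y * x * y⁻¹ * x⁻¹)
    have hpol : ∀ x y, Qm (π₀ (x * y)) = Qm (π₀ x) + Qm (π₀ y) + B x y := fun x y => by
      rw [hQ, hQ, hQ, ← he'mul _ _ (hsqZ x) (hsqZ y),
        ← he'mul _ _ (mul_mem (hsqZ x) (hsqZ y)) (hcomZ x y)]
      congr 1
      calc x * y * (x * y) = x * ((y * x * y⁻¹ * x⁻¹) * x) * y * y := by group
        _ = x * (x * (y * x * y⁻¹ * x⁻¹)) * y * y := by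
          rw [← Subgroup.mem_center_iff.mp (hcomZ x y) x]
        _ = x * x * ((y * x * y⁻¹ * x⁻¹) * (y * y)) := by group
        _ = _ := by rw [← Subgroup.mem_center_iff.mp (hcomZ x y) (y * y)]; group
    have hB : ∀ x y z, B (x * y) z = B x z + B y z := fun x y z => by
      show e' _ = e' _ + e' _
      rw [← he'mul _ _ (hcomZ x z) (hcomZ y z)]
      congr 1
      calc z * (x * y) * z⁻¹ * (x * y)⁻¹
          = (z * x * z⁻¹) * (z * y * z⁻¹ * y⁻¹) * x⁻¹ := by group
        _ = _ := by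
          rw [mul_assoc (z * x * z⁻¹), ← Subgroup.mem_center_iff.mp (hcomZ y z) x⁻¹]; group
    intro a b d
    rw [← hlift a, ← hlift b, ← hlift d, ← hπmul, ← hπmul, ← hπmul, ← hπmul, hpol, hpol, hpol,
      hpol, hB]
    linear_combination (Qm (π₀ (lift a)) + Qm (π₀ (lift b)) + Qm (π₀ (lift d))) *
      (CharTwo.two_eq_zero (R := F)) + (Qm (π₀ (lift a)) + Qm (π₀ (lift b)) + Qm (π₀ (lift d)) +
        B (lift a) (lift b) + B (lift a) (lift d) + B (lift b) (lift d)) *
      (CharTwo.two_eq_zero (R := F))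
  -- `Q` is a product of two automorphisms
  haveI : Finite (F ≃+* F) := Finite.of_injective (fun σ : F ≃+* F => (σ : F → F))
    DFunLike.coe_injective
  letI := Fintype.ofFinite (F ≃+* F)
  obtain ⟨cq, hcq⟩ := quadratic_comb Qm hQquad
  let hQh : F →* F := { toFun := Qm, map_one' := hQ1, map_mul' := hQmul }
  let hh : (F ≃+* F) × (F ≃+* F) → (F →* F) := fun p =>
    { toFun := fun x => p.1 x * p.2 x
      map_one' := by rw [map_one, map_one, one_mul]
      map_mul' := fun x y => by rw [map_mul, map_mul]; ring }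
  obtain ⟨⟨σ, τ⟩, hστ⟩ : ∃ p, hh p = hQh := by
    by_contra hcon
    push Not at hcon
    have hnot : hQh ∉ Set.range hh := by rintro ⟨p, hp'⟩; exact hcon p hp'
    apply (linearIndependent_monoidHom F F).notMem_span_image hnot
    have e : (hQh : F → F) = ∑ p, cq p • (hh p : F → F) := by
      funext x
      simp only [Finset.sum_apply, Pi.smul_apply, smul_eq_mul]
      exact hcq x
    show (hQh : F → F) ∈ _
    rw [e]
    exact Submodule.sum_mem _ fun p _ =>
      Submodule.smul_mem _ _ (Submodule.subset_span ⟨hh p, ⟨p, rfl⟩, rfl⟩)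
  have hQst : ∀ a, Qm a = σ a * τ a := fun a => (DFunLike.congr_fun hστ a).symm
  set φ : F ≃+* F := σ.symm.trans τ with hφ
  set π : P → F := fun x => σ (π₀ x) with hπ
  have hQφ : ∀ x, e' (x * x) = π x * φ (π x) := fun x => by
    rw [← hQ, hQst]
    show _ = σ (π₀ x) * τ (σ.symm (σ (π₀ x)))
    rw [σ.symm_apply_apply]
  have hQinj : ∀ a b, a ≠ 0 → b ≠ 0 → Qm a = Qm b → a = b := by
    intro a b ha hb h
    have hsym : ∀ a : F, a ≠ 0 → θ.symm a ≠ 0 := fun a ha h =>
      ha (by rw [← θ.apply_symm_apply a, h, map_zero])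
    obtain ⟨k, hk⟩ := hχ2s (θ.symm a) (hsym a ha)
    obtain ⟨l, hl⟩ := hχ2s (θ.symm b) (hsym b hb)
    have e : ∀ (k : L) (a : F), χ2 k = θ.symm a → Qm a = χ1 k := fun k a hk => by
      have := hQk k 1
      rwa [hk, θ.apply_symm_apply, mul_one, hQ1, mul_one] at this
    rw [e k a hk, e l b hl] at h
    have hkl := hχ1 h
    rw [← θ.apply_symm_apply a, ← θ.apply_symm_apply b, ← hk, ← hl, hkl]
  have hφne : φ ≠ RingEquiv.refl F := by
    intro h
    apply hna
    have hsqhom : (x₀ * y₀) * (x₀ * y₀) = (x₀ * x₀) * (y₀ * y₀) := by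
      have key : e' ((x₀ * y₀) * (x₀ * y₀)) = e' ((x₀ * x₀) * (y₀ * y₀)) := by
        rw [he' _ (mul_mem (hsqZ x₀) (hsqZ y₀))]
        have e3 : (⟨(x₀ * x₀) * (y₀ * y₀), mul_mem (hsqZ x₀) (hsqZ y₀)⟩ : Z) =
            ⟨_, hsqZ x₀⟩ * ⟨_, hsqZ y₀⟩ := rfl
        rw [e3, he1a, mul_add, ← he' _ (hsqZ x₀), ← he' _ (hsqZ y₀), hQφ, hQφ, hQφ, h]
        show σ (π₀ (x₀ * y₀)) * σ (π₀ (x₀ * y₀)) =
          σ (π₀ x₀) * σ (π₀ x₀) + σ (π₀ y₀) * σ (π₀ y₀)
        rw [hπmul, map_add, CharTwo.add_mul_self]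
      rw [he' _ (hsqZ _), he' _ (mul_mem (hsqZ x₀) (hsqZ y₀))] at key
      exact congrArg Subtype.val (he1b.1 (mul_left_cancel₀ (inv_ne_zero hc0) key))
    have h4 : x₀ * (y₀ * x₀) * y₀ = x₀ * (x₀ * y₀) * y₀ := by
      calc x₀ * (y₀ * x₀) * y₀ = (x₀ * y₀) * (x₀ * y₀) := by group
        _ = _ := by rw [hsqhom]; group
    exact (mul_left_cancel (mul_right_cancel h4)).symm
  have hodd : Odd (orderOf φ) := by
    rw [← Nat.not_even_iff_odd]
    intro heven
    obtain ⟨v, hv1, hv⟩ := exists_norm_one φ heven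
    have hv0 : v ≠ 0 := fun h => by rw [h, zero_mul] at hv; exact zero_ne_one hv
    have hw0 : σ.symm v ≠ 0 := fun h => hv0 (by rw [← σ.apply_symm_apply v, h, map_zero])
    have hQw : Qm (σ.symm v) = Qm 1 := by
      rw [hQst, σ.apply_symm_apply, hQ1]
      exact hv
    exact hv1 (by rw [← σ.apply_symm_apply v, hQinj _ _ hw0 one_ne_zero hQw, map_one])
  refine ⟨F, hF, hFfin, φ, hFcard, hφne, hodd, ?_⟩
  haveI : Finite (Cfsg.suzukiTypeA F (φ : F →+* F)) := inferInstance
  have hker : ∀ x, π x = 0 ↔ x ∈ Z := fun x => by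
    show σ (π₀ x) = 0 ↔ _
    rw [← map_zero σ, σ.injective.eq_iff, hπker]
  refine nonempty_mulEquiv_of_squares π (parX (φ : F →+* F))
    (fun x y => by show σ _ = σ _ + σ _; rw [hπmul, map_add]) (parX_mul _)
    (fun a => ⟨lift (σ.symm a), by show σ _ = a; rw [hlift, σ.apply_symm_apply]⟩)
    (fun a => ⟨_, parX_mk (φ : F →+* F) a 0⟩)
    e' (parY (φ : F →+* F)) (fun x y hx hy => ?_) (fun x y hx hy => ?_)
    (fun x y hx hy h => ?_) (fun x y hx hy h => ?_) (fun z => ?_)
    (fun z => ⟨_, parX_mk (φ : F →+* F) 0 z, parY_mk _ 0 z⟩)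
    (fun x hx y => (Subgroup.mem_center_iff.mp ((hker x).mp hx) y).symm)
    (fun x hx y => ?_) (fun x => (hker _).mpr (hsqZ x))
    (fun x => by rw [parX_mul, CharTwo.add_self_eq_zero]) (fun x y hxy => ?_)
  · rw [hker] at hx hy
    rw [he' _ (mul_mem hx hy), he' _ hx, he' _ hy, ← mul_add, ← he1a]
    rfl
  · rw [parY_mul, hx, map_zero, zero_mul, add_zero]
  · rw [hker] at hx hy
    rw [he' _ hx, he' _ hy] at h
    exact congrArg Subtype.val (he1b.1 (mul_left_cancel₀ (inv_ne_zero hc0) h))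
  · rw [eq_mk _ x, eq_mk _ y]
    simp only [hx, hy, h]
  · obtain ⟨w, hw⟩ := he1b.2 (c * z)
    refine ⟨w, (hker _).mpr w.2, ?_⟩
    rw [he' _ w.2, hw, ← mul_assoc, inv_mul_cancel₀ hc0, one_mul]
  · rw [eq_mk _ (x * y), eq_mk _ (y * x)]
    simp only [parX_mul, parY_mul, hx, map_zero, zero_mul, mul_zero, add_zero, zero_add,
      add_comm (parY (φ : F →+* F) x)]
  · rw [parY_mul, CharTwo.add_self_eq_zero, zero_add, hQφ, hxy, mul_comm]
    rfl

end H66
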