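import Cfsg.Agent.H66.ZassCorollaries

/-!
Characters of a simple Zassenhaus group induced from linear characters of a point stabiliser.
-/

set_option autoImplicit false

open Cfsg
open scoped ComplexConjugate

namespace H66.Feit

open MulAction

universe u v

variable {G : Type u} {Ω : Type v} [Group G] [Fintype G] [MulAction G Ω] [Finite Ω]

theorem induced_linear (hZ : Cfsg.IsZassenhausGroup G Ω) [IsSimpleGroup G] {a b : Ω} (hab : a ≠ b)
    (hodd : Odd (Nat.card ↥(stabilizer G a ⊓ stabilizer G b)))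
    {U : Subgroup G} (hUle : U ≤ stabilizer G a)
    (hnorm : Subgroup.normalizer (U : Set G) = stabilizer G a)
    (hfix : ∀ g : G, ∀ u ∈ U, u ≠ 1 → g⁻¹ * u * g ∈ stabilizer G a → g ∈ stabilizer G a)
    (hΩ : Nat.card Ω = Nat.card U + 1)
    (hdec : ∀ x ∈ stabilizer G a, ∃ u ∈ U, ∃ h ∈ stabilizer G a ⊓ stabilizer G b, x = u * h)
    (hreg : ∀ c : Ω, c ≠ a → ∀ e : Ω, e ≠ a → ∃! u : U, (u : G) • c = e)
    (hC : ∀ k ∈ U, k ≠ 1 → Subgroup.centralizer ({k} : Set G) ≤ U)
    (μ : stabilizer G a → ℂ) (hμ : IsCharacter (stabilizer G a) μ ∧ μ 1 = 1)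
    (hμU : ∀ u : stabilizer G a, (u : G) ∈ U → μ u = 1) (hμne : μ ≠ fun _ => 1) :
    IsIrrCharacter G (indFun (stabilizer G a) μ) ∧
      ∀ u ∈ U, u ≠ 1 → indFun (stabilizer G a) μ u = 1 := by
  classical
  obtain ⟨hfaith, h2, h3, -, -⟩ := id hZ
  letI : Fintype (stabilizer G a) := Fintype.ofFinite (stabilizer G a)
  obtain ⟨f, hf⟩ := H12.exists_monoidHom_of_apply_one_eq_one hμ.1 hμ.2
  obtain ⟨-, v, hv, hva, hvb, hvinv⟩ := H66.Sharp.cyclic_inverted hZ hab
  have hvv : v * v = 1 := H66.mul_self_of_orderOf_two hv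
  have hvi : v⁻¹ = v := H66.inv_eq_self_of_sq hvv
  have hcardA : (Nat.card (stabilizer G a) : ℂ) ≠ 0 := Nat.cast_ne_zero.mpr Nat.card_pos.ne'
  have hμmul : ∀ x y : (stabilizer G a), μ (x * y) = μ x * μ y := fun x y => by
    rw [← hf]; simp
  have hμinv : ∀ x : (stabilizer G a), μ x⁻¹ = conj (μ x) := fun x => by
    rw [← hf]
    simp only [map_inv, Units.val_inv_eq_inv_val]
    refine Complex.inv_eq_conj (Complex.norm_eq_one_of_pow_eq_one (n := Nat.card (stabilizer G a)) ?_
      Nat.card_pos.ne')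
    rw [← Units.val_pow_eq_pow_val, ← map_pow, pow_card_eq_one', map_one, Units.val_one]
  have hμconj : ∀ x z : (stabilizer G a), μ (z⁻¹ * x * z) = μ x := fun x z => by
    rw [hμmul, hμmul, mul_comm (μ z⁻¹), mul_assoc, ← hμmul, inv_mul_cancel, hμ.2, mul_one]
  -- the values of the induced character
  have hone : indFun (stabilizer G a) μ 1 = (Nat.card U : ℂ) + 1 := by
    haveI := MulAction.isPretransitive_of_is_two_pretransitive (G := G) (α := Ω)
    rw [H12.indFun_one, hμ.2, mul_one, index_stabilizer_of_transitive, hΩ]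
    push_cast
    ring
  have hU : ∀ u ∈ U, u ≠ 1 → indFun (stabilizer G a) μ u = 1 := by
    intro u hu hu1
    rw [H12.indFun_apply, ← Finset.sum_subset (s₁ := Finset.univ.filter fun y : G => y ∈ (stabilizer G a))
      (Finset.subset_univ _) (fun y _ hy => H12.extendByZero_of_notMem (stabilizer G a) _ (fun h => hy
        (Finset.mem_filter.mpr ⟨Finset.mem_univ _, hfix y u hu hu1 h⟩))),
      Finset.sum_subtype (Finset.univ.filter fun y : G => y ∈ (stabilizer G a)) (p := fun y => y ∈ (stabilizer G a))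
        (fun y => by simp),
      Finset.sum_congr rfl (fun (y : (stabilizer G a)) _ => show extendByZero (stabilizer G a) μ ((y : G)⁻¹ * u * y) = 1 by
        rw [show ((y : G)⁻¹ * u * y) = ((y⁻¹ * ⟨u, hUle hu⟩ * y : (stabilizer G a)) : G) from rfl,
          H12.extendByZero_coe, hμconj, hμU _ hu]),
      Finset.sum_const, Finset.card_univ, nsmul_eq_mul, mul_one, ← Nat.card_eq_fintype_card,
      inv_mul_cancel₀ hcardA]
  refine ⟨?_, hU⟩
  have hH : ∀ h (hh : h ∈ stabilizer G a ⊓ stabilizer G b), h ≠ 1 →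
      indFun (stabilizer G a) μ h = μ ⟨h, (Subgroup.mem_inf.mp hh).1⟩ + conj (μ ⟨h, (Subgroup.mem_inf.mp hh).1⟩) := by
    intro h hh hh1
    obtain ⟨hha, hhb⟩ := Subgroup.mem_inf.mp hh
    have hterm : ∀ y : G, extendByZero (stabilizer G a) μ (y⁻¹ * h * y)
        = (if y ∈ (stabilizer G a) then μ ⟨h, hha⟩ else 0)
          + (if v * y ∈ (stabilizer G a) then conj (μ ⟨h, hha⟩) else 0) := by
      intro y
      by_cases hy : y ∈ (stabilizer G a)
      · have hvy : v * y ∉ (stabilizer G a) := fun hm => by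
          have hvA : v ∈ (stabilizer G a) := by
            have := mul_mem hm (inv_mem hy)
            simpa using this
          exact hab (hva.symm.trans (mem_stabilizer_iff.mp hvA)).symm
        rw [if_pos hy, if_neg hvy, add_zero,
          show y⁻¹ * h * y = (((⟨y, hy⟩ : (stabilizer G a))⁻¹ * ⟨h, hha⟩ * ⟨y, hy⟩ : (stabilizer G a)) : G) from rfl,
          H12.extendByZero_coe, hμconj]
      · rw [if_neg hy, zero_add]
        by_cases hvy : v * y ∈ (stabilizer G a)
        · have hinv : (⟨h, hha⟩ : (stabilizer G a))⁻¹ = ⟨v * h * v⁻¹, by rw [hvinv h hh]; exact inv_mem hha⟩ :=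
            Subtype.ext (hvinv h hh).symm
          rw [if_pos hvy, ← hμinv, hinv]
          have e : y⁻¹ * h * y = (((⟨v * y, hvy⟩ : (stabilizer G a))⁻¹ * ⟨v * h * v⁻¹, by
              rw [hvinv h hh]; exact inv_mem hha⟩ * ⟨v * y, hvy⟩ : (stabilizer G a)) : G) := by
            show y⁻¹ * h * y = (v * y)⁻¹ * (v * h * v⁻¹) * (v * y)
            group
          rw [e, H12.extendByZero_coe, hμconj]
        · rw [if_neg hvy]
          refine H12.extendByZero_of_notMem (stabilizer G a) _ fun hm => ?_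
          have hfixy : h • (y • a) = y • a := by
            have := mem_stabilizer_iff.mp hm
            rwa [mul_smul, mul_smul, inv_smul_eq_iff] at this
          have hya : y • a ≠ a := hy
          have hyb : y • a ≠ b := fun e => hvy (by
            rw [mem_stabilizer_iff, mul_smul, e, hvb])
          exact hh1 (h3 h a b (y • a) hab hyb.symm hya.symm hha hhb hfixy)
    rw [H12.indFun_apply, Finset.sum_congr rfl (fun y _ => hterm y), Finset.sum_add_distrib,
      Finset.sum_ite, Finset.sum_ite, Finset.sum_const_zero, add_zero, Finset.sum_const_zero,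
      add_zero, Finset.sum_const, Finset.sum_const, nsmul_eq_mul, nsmul_eq_mul]
    have hc1 : (Finset.univ.filter fun y : G => y ∈ (stabilizer G a)).card = Nat.card (stabilizer G a) := by
      rw [Nat.card_eq_fintype_card, Fintype.card_subtype]
    have hc2 : (Finset.univ.filter fun y : G => v * y ∈ (stabilizer G a)).card = Nat.card (stabilizer G a) := by
      rw [Nat.card_eq_fintype_card, Fintype.card_subtype]
      exact Finset.card_equiv (Equiv.mulLeft v) (by simp)
    rw [hc1, hc2, mul_add, ← mul_assoc, inv_mul_cancel₀ hcardA, one_mul, ← mul_assoc,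
      inv_mul_cancel₀ hcardA, one_mul]
  have hcl : ∀ g x : G, indFun (stabilizer G a) μ (g * x * g⁻¹) = indFun (stabilizer G a) μ x := fun g x =>
    H12.indFun_isClassFunction (stabilizer G a) μ x g
  have hrest : ∀ x : (stabilizer G a), (x : G) ∉ U → indFun (stabilizer G a) μ (x : G) = μ x + conj (μ x) := by
    intro x hx
    obtain ⟨u, hu, h, hh, e⟩ := hdec x x.2
    have hh1 : h ≠ 1 := fun h1 => hx (by rw [e, h1, mul_one]; exact hu)
    have hconj : ∀ w ∈ U, h * w * h⁻¹ ∈ U := fun w hw => by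
      have : h ∈ Subgroup.normalizer (U : Set G) := by
        rw [hnorm]; exact (Subgroup.mem_inf.mp hh).1
      exact (Subgroup.mem_normalizer_iff.mp this w).mp hw
    let F : U → U := fun w => ⟨(w : G) * (h * (w : G)⁻¹ * h⁻¹), mul_mem w.2 (hconj _ (inv_mem w.2))⟩
    have hF : Function.Injective F := by
      rintro ⟨w, hw⟩ ⟨w', hw'⟩ e'
      have e'' : w * (h * w⁻¹ * h⁻¹) = w' * (h * w'⁻¹ * h⁻¹) := congrArg Subtype.val e'
      by_contra hne
      have hne' : w⁻¹ * w' ≠ 1 := fun e0 => hne (Subtype.ext (inv_mul_eq_one.mp e0))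
      have hhU : h ∈ U := hC _ (mul_mem (inv_mem hw) hw') hne' (by
        rw [Subgroup.mem_centralizer_singleton_iff]
        calc h * (w⁻¹ * w') = w⁻¹ * (w * (h * w⁻¹ * h⁻¹)) * h * w' := by group
          _ = w⁻¹ * (w' * (h * w'⁻¹ * h⁻¹)) * h * w' := by rw [e'']
          _ = w⁻¹ * w' * h := by group)
      obtain ⟨z, -, hz⟩ := hreg b hab.symm b hab.symm
      exact hh1 (congrArg Subtype.val
        ((hz ⟨h, hhU⟩ (Subgroup.mem_inf.mp hh).2).trans (hz 1 (one_smul _ _)).symm))
    obtain ⟨⟨w, hw⟩, hwe⟩ := (Finite.injective_iff_surjective.mp hF) ⟨u, hu⟩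
    have hwe' : w * (h * w⁻¹ * h⁻¹) = u := congrArg Subtype.val hwe
    have hx' : (x : G) = w * h * w⁻¹ := by rw [e, ← hwe']; group
    have hμx : μ x = μ ⟨h, (Subgroup.mem_inf.mp hh).1⟩ := by
      have ex : x = (⟨u, hUle hu⟩ : (stabilizer G a)) * ⟨h, (Subgroup.mem_inf.mp hh).1⟩ := Subtype.ext e
      rw [ex, hμmul, hμU _ hu, one_mul]
    rw [hμx, hx', hcl, hH h hh hh1]
  -- norm one
  refine H12.isIrrCharacter_of_classInner_self_eq_one (H12.IsCharacter.indFun hμ.1) ?_
  rw [H12.classInner_indFun (stabilizer G a) μ (H12.indFun_isClassFunction (stabilizer G a) μ), H12.classInner_def]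
  have hsq : ∑ x : (stabilizer G a), μ x * μ x = 0 := by
    obtain ⟨x₀, hx₀⟩ : ∃ x₀ : (stabilizer G a), μ x₀ * μ x₀ ≠ 1 := by
      by_contra hall
      push Not at hall
      apply hμne
      funext x
      obtain ⟨u, hu, h, hh, e⟩ := hdec x x.2
      set hA' : (stabilizer G a) := ⟨h, (Subgroup.mem_inf.mp hh).1⟩
      obtain ⟨j, hj⟩ : Odd (orderOf hA') := by
        refine hodd.of_dvd_nat ?_
        rw [← Subgroup.orderOf_coe]
        exact Subgroup.orderOf_dvd_natCard _ hh
      have hpow : ∀ n : ℕ, μ (hA' ^ n) = μ hA' ^ n := fun n => by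
        induction n with
        | zero => rw [pow_zero, pow_zero, hμ.2]
        | succ n ih => rw [pow_succ, pow_succ, hμmul, ih]
      have ex : x = (⟨u, hUle hu⟩ : (stabilizer G a)) * hA' := Subtype.ext e
      rw [ex, hμmul, hμU _ hu, one_mul]
      have h1 := hpow (2 * j + 1)
      rw [← hj, pow_orderOf_eq_one, hμ.2, hj, pow_succ, pow_mul, pow_two, hall hA', one_pow,
        one_mul] at h1
      exact h1.symm
    have h := Fintype.sum_equiv (Equiv.mulLeft x₀) (fun x => μ (x₀ * x) * μ (x₀ * x))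
      (fun x => μ x * μ x) (fun _ => rfl)
    simp only [hμmul] at h
    have h' : (μ x₀ * μ x₀) * ∑ x : (stabilizer G a), μ x * μ x = 1 * ∑ x : (stabilizer G a), μ x * μ x := by
      rw [one_mul, Finset.mul_sum]
      exact (Finset.sum_congr rfl fun x _ => by ring).trans h
    by_contra hne
    exact hx₀ (mul_right_cancel₀ hne h')
  have habs : ∀ x : (stabilizer G a), μ x * conj (μ x) = 1 := fun x => by
    rw [← hμinv, ← hμmul, mul_inv_cancel, hμ.2]
  have hpt : ∀ x : (stabilizer G a), μ x * conj (indFun (stabilizer G a) μ (x : G))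
      = (1 + μ x * μ x) + (if (x : G) ∈ U then -1 else 0) + (if x = 1 then (Nat.card U : ℂ) else 0) := by
    intro x
    by_cases hx : (x : G) ∈ U
    · rw [if_pos hx, hμU x hx]
      by_cases hx1 : x = 1
      · rw [if_pos hx1, hx1, OneMemClass.coe_one, hone, map_add, map_one, Complex.conj_natCast]
        ring
      · rw [if_neg hx1, hU _ hx (fun e => hx1 (Subtype.ext e)), map_one]
        ring
    · rw [if_neg hx, if_neg (fun e : x = 1 => hx (by rw [e]; exact one_mem U)), hrest x hx, map_add, Complex.conj_conj,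
        mul_add, habs]
      ring
  show (Nat.card (stabilizer G a) : ℂ)⁻¹ * ∑ x : (stabilizer G a), μ x * conj (indFun (stabilizer G a) μ (x : G)) = 1
  rw [Finset.sum_congr rfl (fun x _ => hpt x), Finset.sum_add_distrib, Finset.sum_add_distrib,
    Finset.sum_add_distrib, hsq, Finset.sum_ite_eq' Finset.univ (1 : (stabilizer G a)), if_pos (Finset.mem_univ _),
    Finset.sum_ite, Finset.sum_const_zero, add_zero, Finset.sum_const, Finset.sum_const,
    Finset.card_univ, nsmul_eq_mul, nsmul_eq_mul]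
  have hcU : (Finset.univ.filter fun x : (stabilizer G a) => (x : G) ∈ U).card = Nat.card U := by
    rw [← Fintype.card_subtype, ← Nat.card_eq_fintype_card]
    exact Nat.card_congr (Subgroup.subgroupOfEquivOfLe hUle).toEquiv
  rw [hcU, ← Nat.card_eq_fintype_card]
  field_simp
  ring

end H66.Feit
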