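import Cfsg.Agent.H66.RankOne2
import Cfsg.Prelude.Def_LieExceptional

/-!
A Zassenhaus group with a `2`-group `U` normal in `G_a` and regular off `a` gives a rank-one set-up
in which the involution inverts the two-point stabiliser.
-/

set_option autoImplicit false

namespace H66.R1

open MulAction

variable {G Ω : Type*} [Group G] [Finite G] [MulAction G Ω] [Finite Ω]

/-- an involution acting on the non-identity elements of a `2`-group fixes one of them -/
theorem exists_commute_invol {U : Subgroup G} (hU2 : IsPGroup 2 U) (hU1 : U ≠ ⊥) {d : G}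
    (hd2 : d * d = 1) (hdU : ∀ u ∈ U, d * u * d⁻¹ ∈ U) : ∃ u ∈ U, u ≠ 1 ∧ d * u = u * d := by
  classical
  haveI : Fact (Nat.Prime 2) := ⟨Nat.prime_two⟩
  letI := Fintype.ofFinite {u : U // u ≠ 1}
  letI := Fintype.ofFinite U
  let f : {u : U // u ≠ 1} → {u : U // u ≠ 1} := fun u => ⟨⟨d * u.1.1 * d⁻¹, hdU _ u.1.2⟩, fun h => by
    refine u.2 (Subtype.ext ?_)
    have h1 : d * u.1.1 * d⁻¹ = 1 := congrArg Subtype.val h
    have h2 : (u.1.1 : G) = d⁻¹ * (d * u.1.1 * d⁻¹) * d := by group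
    rw [h2, h1]; simp⟩
  have hdi : d⁻¹ = d := inv_eq_self_of_sq hd2
  have hf : Function.Involutive f := fun u => Subtype.ext (Subtype.ext (by
    show d * (d * u.1.1 * d⁻¹) * d⁻¹ = u.1.1
    rw [hdi]
    calc d * (d * u.1.1 * d) * d = (d * d) * u.1.1 * (d * d) := by group
      _ = u.1.1 := by rw [hd2]; group))
  have hodd : ¬ 2 ∣ Fintype.card {u : U // u ≠ 1} := by
    rw [Fintype.card_subtype_compl, Fintype.card_subtype_eq, ← Nat.card_eq_fintype_card]
    haveI : Nontrivial U := U.nontrivial_iff_ne_bot.mpr hU1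
    have h2 : 2 ∣ Nat.card U :=
      hU2.card_eq_or_dvd.resolve_left (Finite.one_lt_card).ne'
    have : 0 < Nat.card U := Nat.card_pos
    omega
  obtain ⟨u, hu⟩ := (hf.toPerm).exists_fixed_point_of_prime (p := 2) (n := 1) hodd
    (Equiv.ext fun u => by rw [pow_one, pow_two, Equiv.Perm.mul_apply]; exact hf u)
  refine ⟨u.1.1, u.1.2, fun h => u.2 (Subtype.ext h), ?_⟩
  exact mul_inv_eq_iff_eq_mul.mp (congrArg (fun x : {u : U // u ≠ 1} => (x.1.1 : G)) hu)

variable (hZ : Cfsg.IsZassenhausGroup G Ω) {a : Ω}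
  {U : Subgroup G} (hUle : U ≤ stabilizer G a)
  (hUn : ∀ h ∈ stabilizer G a, ∀ u ∈ U, h * u * h⁻¹ ∈ U)
  (hreg : ∀ c d : Ω, c ≠ a → d ≠ a → ∃! u : U, (u : G) • c = d)
  (hU2 : IsPGroup 2 U) {v : G} (hv1 : v ≠ 1) (hv2 : v * v = 1) (hva : v • a ≠ a)

include hZ hva in
omit [Finite G] [Finite Ω] in
theorem twoPt_ne_bot : twoPt G a v ≠ ⊥ := by
  obtain ⟨-, htwo, -, ⟨g, hg1, b, c, hbc, hgb, hgc⟩, -⟩ := hZ
  obtain ⟨x, hx1, hx2⟩ := (MulAction.is_two_pretransitive_iff).mp htwo hbc (Ne.symm hva)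
  intro h
  have hm : x * g * x⁻¹ ∈ twoPt G a v := mem_twoPt.mpr
    ⟨by rw [mul_smul, mul_smul, ← hx1, inv_smul_smul, hgb],
     by rw [mul_smul, mul_smul, ← hx2, inv_smul_smul, hgc]⟩
  rw [h, Subgroup.mem_bot] at hm
  exact hg1 (by simpa using hm)

include hZ hUle hUn hreg hU2 hv1 hv2 hva

omit [Finite Ω] in
theorem zass_setup : Cfsg.IsRankOneSetup G Ω a v U := by
  haveI := hZ.1
  have hD1 := twoPt_ne_bot hZ hva
  have hUstab : U ⊓ stabilizer G (v • a) = ⊥ := by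
    rw [eq_bot_iff]
    intro u hu
    obtain ⟨hu1, hu2⟩ := Subgroup.mem_inf.mp hu
    obtain ⟨w, -, hw⟩ := hreg (v • a) (v • a) hva hva
    have h1 := (hw ⟨u, hu1⟩ (mem_stabilizer_iff.mp hu2)).trans (hw 1 (one_smul _ _)).symm
    exact Subgroup.mem_bot.mpr (congrArg Subtype.val h1)
  have hU1 : U ≠ ⊥ := by
    intro h
    refine hD1 (eq_bot_iff.mpr fun g hg => Subgroup.mem_bot.mpr ?_)
    refine eq_of_smul_eq_smul (α := Ω) fun c => ?_
    rw [one_smul]
    by_cases hc : c = a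
    · subst hc; exact (mem_twoPt.mp hg).1
    · obtain ⟨⟨u, hu⟩, hu1, -⟩ := hreg (v • a) c hva hc
      rw [h, Subgroup.mem_bot] at hu
      simp only [hu, one_smul] at hu1
      rw [← hu1]
      exact (mem_twoPt.mp hg).2
  have hodd : Odd (Nat.card ↥(stabilizer G a ⊓ stabilizer G (v • a))) := by
    haveI : Fact (Nat.Prime 2) := ⟨Nat.prime_two⟩
    rw [← Nat.not_even_iff_odd, even_iff_two_dvd]
    intro h2
    obtain ⟨⟨d, hd⟩, hdo⟩ := exists_prime_orderOf_dvd_card' 2 h2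
    rw [Subgroup.orderOf_mk] at hdo
    have hd2 : d * d = 1 := by rw [← pow_two, ← hdo, pow_orderOf_eq_one]
    obtain ⟨u, hu, hu1, hc⟩ := exists_commute_invol hU2 hU1 hd2
      (hUn d (Subgroup.mem_inf.mp hd).1)
    obtain ⟨hda, hdb⟩ := mem_twoPt.mp hd
    have hfix : d • (u • (v • a)) = u • (v • a) := by
      rw [← mul_smul, hc, mul_smul, hdb]
    have hne : u • (v • a) ≠ a := fun h => hva (by
      rw [← inv_smul_smul u (v • a), h]; exact mem_stabilizer_iff.mp (inv_mem (hUle hu)))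
    have hd1 : d ≠ 1 := fun h => by rw [h, orderOf_one] at hdo; norm_num at hdo
    refine hu1 (Subgroup.mem_bot.mp (hUstab ▸ Subgroup.mem_inf.mpr ⟨hu, mem_stabilizer_iff.mpr ?_⟩))
    by_contra h
    exact hd1 (hZ.2.2.1 d a (v • a) (u • (v • a)) (Ne.symm hva) (Ne.symm h) (Ne.symm hne) hda hdb hfix)
  have hsup : U ⊔ (stabilizer G a ⊓ stabilizer G (v • a)) = stabilizer G a := by
    refine le_antisymm (sup_le hUle inf_le_left) fun g hg => ?_
    obtain ⟨⟨u, hu⟩, hu1, -⟩ := hreg (v • a) (g • (v • a)) hva (fun h => hva (by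
      rw [← inv_smul_smul g (v • a), h]; exact mem_stabilizer_iff.mp (inv_mem hg)))
    rw [show g = u * (u⁻¹ * g) by group]
    refine Subgroup.mul_mem_sup hu (Subgroup.mem_inf.mpr ⟨mul_mem (inv_mem (hUle hu)) hg, ?_⟩)
    rw [mem_stabilizer_iff, mul_smul, inv_smul_eq_iff]
    exact hu1.symm
  haveI : Fact (Nat.Prime 2) := ⟨Nat.prime_two⟩
  haveI : Nontrivial U := U.nontrivial_iff_ne_bot.mpr hU1
  exact ⟨hZ.2.1, hv2, hv1, fun h => hva (mem_stabilizer_iff.mp h), hUle, hUn, hUstab, hsup,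
    even_iff_two_dvd.mpr (hU2.card_eq_or_dvd.resolve_left (Finite.one_lt_card).ne'), hodd⟩

omit [Finite Ω] in
theorem zass_inverts {d : G} (hd : d ∈ twoPt G a v) : v * d * v = d⁻¹ := by
  have hS := zass_setup hZ hUle hUn hreg hU2 hv1 hv2 hva
  obtain ⟨c, hc⟩ := invol_fix hS hv2
  have hca : c ≠ a := fun h => hva (h ▸ hc)
  have hcb : c ≠ v • a := fun h => hva (by
    have := hc; rw [h, ← mul_smul, hv2, one_smul] at this; exact this.symm)
  have hV : ∀ x ∈ twoPt G a v, x * v = v * x → x = 1 := by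
    intro x hx hc'
    obtain ⟨h1, h2⟩ := mem_twoPt.mp hx
    refine hZ.2.2.1 x a (v • a) c (Ne.symm hva) (Ne.symm hcb) (Ne.symm hca) h1 h2 ?_
    refine invol_fix_unique hS hv1 hv2 ?_ hc
    rw [← mul_smul, ← hc', mul_smul, hc]
  let f : twoPt G a v → twoPt G a v := fun x =>
    ⟨(x : G)⁻¹ * (v * x * v), mul_mem (inv_mem x.2) (t_conj_mem hS x.2)⟩
  have hf : Function.Injective f := by
    rintro ⟨x, hx⟩ ⟨y, hy⟩ h
    have h' : x⁻¹ * (v * x * v) = y⁻¹ * (v * y * v) := congrArg Subtype.val h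
    refine Subtype.ext ?_
    have h2 : x⁻¹ * (v * x) = y⁻¹ * (v * y) :=
      mul_right_cancel (b := v) (by simpa [mul_assoc] using h')
    have h1 : (y * x⁻¹) * v = v * (y * x⁻¹) := by
      calc (y * x⁻¹) * v = y * (x⁻¹ * (v * x)) * x⁻¹ := by group
        _ = y * (y⁻¹ * (v * y)) * x⁻¹ := by rw [h2]
        _ = _ := by group
    exact (mul_inv_eq_one.mp (hV _ (mul_mem hy (inv_mem hx)) h1)).symm
  obtain ⟨⟨x, hx⟩, hx'⟩ := (Finite.injective_iff_surjective.mp hf) ⟨d, hd⟩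
  have hxd : x⁻¹ * (v * x * v) = d := congrArg Subtype.val hx'
  rw [← hxd]
  calc v * (x⁻¹ * (v * x * v)) * v = v * x⁻¹ * v * x * (v * v) := by group
    _ = (v * x * v)⁻¹ * x := by rw [hv2, mul_inv_rev, mul_inv_rev, inv_eq_self_of_sq hv2]; group
    _ = _ := by group

omit [Finite Ω] in
theorem zass_comm : ∀ d ∈ twoPt G a v, ∀ d' ∈ twoPt G a v, d * d' = d' * d := by
  intro d hd d' hd'
  have h := zass_inverts hZ hUle hUn hreg hU2 hv1 hv2 hva (mul_mem hd hd')
  have h2 : v * (d * d') * v = (v * d * v) * (v * d' * v) := by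
    calc v * (d * d') * v = v * d * (v * v) * d' * v := by rw [hv2]; group
      _ = _ := by group
  rw [h2, zass_inverts hZ hUle hUn hreg hU2 hv1 hv2 hva hd,
    zass_inverts hZ hUle hUn hreg hU2 hv1 hv2 hva hd', mul_inv_rev] at h
  have := congrArg (fun x => x⁻¹) h
  simpa using this.symm

end H66.R1
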