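import Cfsg.Agent.H66.HigmanOrder
import Cfsg.Agent.H66.RankOne3
import Cfsg.Agent.H66.ZassSetup

/-!
Zassenhaus groups whose point stabiliser has a non-abelian regular normal `2`-subgroup `Q`:
the structure of `Q` and of the two-point stabiliser.
-/

set_option autoImplicit false

namespace H66.ZS

open MulAction H66.R1

/-- the standing hypotheses -/
structure Ctx (G Ω : Type*) [Group G] [MulAction G Ω] (a : Ω) (t : G) (Q : Subgroup G) : Prop where
  setup : Cfsg.IsRankOneSetup G Ω a t Q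
  inv : ∀ d ∈ twoPt G a t, t * d * t = d⁻¹
  three : ∀ g : G, ∀ x y z : Ω, x ≠ y → y ≠ z → x ≠ z → g • x = x → g • y = y → g • z = z → g = 1
  two : IsPGroup 2 Q
  ne_bot : twoPt G a t ≠ ⊥

variable {G Ω : Type*} [Group G] [MulAction G Ω] [Finite G] {a : Ω} {t : G} {Q : Subgroup G}
  (hC : Ctx G Ω a t Q)

include hC

omit [Finite G] in
theorem D_comm {d e : G} (hd : d ∈ twoPt G a t) (he : e ∈ twoPt G a t) : d * e = e * d := by
  have h := hC.inv (d * e) (mul_mem hd he)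
  have h2 : t * (d * e) * t = (t * d * t) * (t * e * t) := by
    calc t * (d * e) * t = t * d * (t * t) * e * t := by rw [hC.setup.mul_self]; group
      _ = _ := by group
  rw [h2, hC.inv d hd, hC.inv e he, mul_inv_rev] at h
  simpa using (congrArg (fun x => x⁻¹) h).symm

omit [Finite G] in
theorem mem_K {d : G} (hd : d ∈ twoPt G a t) : d ∈ Cfsg.invertedBy (twoPt G a t) t :=
  ⟨hd, by rw [t_inv hC.setup]; exact hC.inv d hd⟩

omit [Finite G] in
/-- `d t = t d⁻¹` -/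
theorem D_swap {d : G} (hd : d ∈ twoPt G a t) : d * t = t * d⁻¹ := by
  rw [← hC.inv d hd]
  calc d * t = (t * t) * d * t := by rw [hC.setup.mul_self]; group
    _ = t * (t * d * t) := by group

omit [Finite G] in
/-- `t d = d⁻¹ t` -/
theorem D_swap' {d : G} (hd : d ∈ twoPt G a t) : t * d = d⁻¹ * t := by
  rw [D_swap hC (inv_mem hd), inv_inv]

theorem odd_D {d : G} (hd : d ∈ twoPt G a t) : Odd (orderOf d) :=
  odd_orderOf_of_mem_odd_card hC.setup.odd_card d hd

omit [Finite G] in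
/-- `D` acts without fixed points on `Q` -/
theorem semireg {d q : G} (hd : d ∈ twoPt G a t) (hq : q ∈ Q) (h : d * q = q * d) (hq1 : q ≠ 1) :
    d = 1 := by
  obtain ⟨h1, h2⟩ := mem_twoPt.mp hd
  refine hC.three d a (t • a) (q • t • a) (ta_ne hC.setup).symm ?_
    (Q_smul_ne hC.setup hq (ta_ne hC.setup)).symm h1 h2 ?_
  · exact fun he => hq1 (eq_one_of_mem_inf hC.setup hq he.symm)
  · rw [← mul_smul, h, mul_smul, h2]

/-- `G_a` is the union of `Q` and the conjugates of `D` -/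
theorem stab_cases {g : G} (hg : g • a = a) :
    g ∈ Q ∨ ∃ q ∈ Q, ∃ d ∈ twoPt G a t, d ≠ 1 ∧ g = q * d * q⁻¹ := by
  obtain ⟨u, hu, d, hd, rfl⟩ := exists_decomp hC.setup hg
  by_cases hd1 : d = 1
  · left; rw [hd1, mul_one]; exact hu
  right
  let f : Q → Q := fun w => ⟨(w : G) * (d * (w : G)⁻¹ * d⁻¹),
    mul_mem w.2 (twoPt_conj_Q hC.setup hd (inv_mem w.2))⟩
  have hf : Function.Injective f := by
    rintro ⟨w, hw⟩ ⟨w', hw'⟩ h
    have h' : w * (d * w⁻¹ * d⁻¹) = w' * (d * w'⁻¹ * d⁻¹) := congrArg Subtype.val h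
    have h2 : d * (w⁻¹ * w') = (w⁻¹ * w') * d := by
      calc d * (w⁻¹ * w') = w⁻¹ * (w * (d * w⁻¹ * d⁻¹)) * d * w' := by group
        _ = w⁻¹ * (w' * (d * w'⁻¹ * d⁻¹)) * d * w' := by rw [h']
        _ = (w⁻¹ * w') * d := by group
    by_contra hne
    exact hd1 (semireg hC hd (mul_mem (inv_mem hw) hw') h2
      (fun h1 => hne (Subtype.ext (inv_mul_eq_one.mp h1))))
  obtain ⟨⟨w, hw⟩, hw'⟩ := (Finite.injective_iff_surjective.mp hf) ⟨u, hu⟩
  refine ⟨w, hw, d, hd, hd1, ?_⟩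
  rw [← show w * (d * w⁻¹ * d⁻¹) = u from congrArg Subtype.val hw']
  group

theorem mem_Q_iff {g : G} (hg : g • a = a) : g ∈ Q ↔ ∃ k : ℕ, g ^ 2 ^ k = 1 := by
  constructor
  · intro h
    obtain ⟨k, hk⟩ := hC.two ⟨g, h⟩
    exact ⟨k, congrArg Subtype.val hk⟩
  · rintro ⟨k, hk⟩
    rcases stab_cases hC hg with h | ⟨q, -, d, hd, hd1, rfl⟩
    · exact h
    · exfalso
      have h2 : d ^ 2 ^ k = 1 := by
        rw [conj_pow] at hk
        simpa using hk
      obtain ⟨i, hi, hi2⟩ := (Nat.dvd_prime_pow Nat.prime_two).mp (orderOf_dvd_of_pow_eq_one h2)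
      rcases i with _ | i
      · exact hd1 (orderOf_eq_one_iff.mp (by simpa using hi2))
      · exact Nat.not_even_iff_odd.mpr (odd_D hC hd) (hi2 ▸ ⟨2 ^ i, by ring⟩)

/-- elements of odd order fixing `a` are conjugate into `D` -/
theorem odd_fix {g : G} (hg : g • a = a) (ho : Odd (orderOf g)) :
    ∃ q ∈ Q, ∃ d ∈ twoPt G a t, g = q * d * q⁻¹ := by
  rcases stab_cases hC hg with h | ⟨q, hq, d, hd, -, he⟩
  · obtain ⟨k, hk⟩ := hC.two ⟨g, h⟩
    have h2 : g ^ 2 ^ k = 1 := congrArg Subtype.val hk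
    obtain ⟨i, -, hi2⟩ := (Nat.dvd_prime_pow Nat.prime_two).mp (orderOf_dvd_of_pow_eq_one h2)
    rcases i with _ | i
    · exact ⟨1, one_mem _, 1, one_mem _, by simpa using orderOf_eq_one_iff.mp (by simpa using hi2)⟩
    · exact absurd (hi2 ▸ ⟨2 ^ i, by ring⟩ : Even (orderOf g)) (Nat.not_even_iff_odd.mpr ho)
  · exact ⟨q, hq, d, hd, he⟩

/-- the centraliser of an involution of `G_a` lies in `Q` -/
theorem commute_invol {s x : G} (hs : s ∈ Cfsg.involutionsIn (stabilizer G a : Set G))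
    (hx : Commute x s) : x ∈ Q := by
  have hxa : x • a = a :=
    fix_of_commute hC.setup hs.2.1 hs.2.2 hx (mem_stabilizer_iff.mp hs.1)
  rcases stab_cases hC hxa with h | ⟨q, hq, d, hd, hd1, rfl⟩
  · exact h
  · exfalso
    have hsQ : s ∈ Q := invol_mem_Q hC.setup (mem_stabilizer_iff.mp hs.1) hs.2.2
    refine hd1 (semireg hC hd (mul_mem (mul_mem (inv_mem hq) hsQ) hq) ?_ ?_)
    · calc d * (q⁻¹ * s * q) = q⁻¹ * ((q * d * q⁻¹) * s) * q := by group
        _ = q⁻¹ * (s * (q * d * q⁻¹)) * q := by rw [hx.eq]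
        _ = q⁻¹ * s * q * d := by group
    · intro h1
      apply hs.2.1
      calc s = q * (q⁻¹ * s * q) * q⁻¹ := by group
        _ = 1 := by rw [h1]; group

theorem exists_conj_D {s s' : G} (hs : s ∈ Cfsg.involutionsIn (stabilizer G a : Set G))
    (hs' : s' ∈ Cfsg.involutionsIn (stabilizer G a : Set G)) :
    ∃ d ∈ twoPt G a t, d * s * d⁻¹ = s' := by
  obtain ⟨k, hk, hke⟩ := exists_conj_inverted hC.setup hs hs'
  exact ⟨k⁻¹, inv_mem hk.1, by rw [inv_inv]; exact hke⟩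

theorem D_conj_inj {s d e : G} (hs : s ∈ Cfsg.involutionsIn (stabilizer G a : Set G))
    (hd : d ∈ twoPt G a t) (he : e ∈ twoPt G a t) (h : d * s * d⁻¹ = e * s * e⁻¹) : d = e :=
  inv_injective (conj_injective hC.setup hs (mem_K hC (inv_mem hd)) (mem_K hC (inv_mem he))
    (by simpa using h))

/-- involutions of `G_a` are central in `Q` -/
theorem central {s x : G} (hs : s ∈ Cfsg.involutionsIn (stabilizer G a : Set G)) (hx : x ∈ Q) :
    s * x = x * s := by
  haveI : Fact (Nat.Prime 2) := ⟨Nat.prime_two⟩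
  exact invol_central hC.setup hC.two.isNilpotent hs hx

/-- the structure of `Q` and of `D` -/
theorem Q_structure (hna : ∃ u ∈ Q, ∃ v ∈ Q, u * v ≠ v * u) :
    Cfsg.IsSuzukiTwoGroup Q ∧
    Nat.card (twoPt G a t) + 1 = Nat.card (Subgroup.center Q) ∧
    IsCyclic (twoPt G a t) ∧
    (Nat.card Q = Nat.card (Subgroup.center Q) ^ 2 ∨
      Nat.card Q = Nat.card (Subgroup.center Q) ^ 3) ∧
    (∀ x ∈ Q, x ^ 4 = 1) ∧
    (∀ s ∈ Cfsg.involutionsIn (stabilizer G a : Set G), ∀ x ∈ Q, s * x = x * s) := by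
  classical
  have hS := hC.setup
  letI : CommGroup (twoPt G a t) :=
    { (inferInstance : Group (twoPt G a t)) with
      mul_comm := fun x y => Subtype.ext (D_comm hC x.2 y.2) }
  let φ : twoPt G a t →* MulAut Q := (Q.normalizerMonoidHom).comp
    (Subgroup.inclusion (inf_le_left.trans (le_normalizer hS)))
  letI : MulDistribMulAction (twoPt G a t) Q := MulDistribMulAction.compHom Q φ
  have hsm : ∀ (d : twoPt G a t) (x : Q), ((d • x : Q) : G) = d * x * (d : G)⁻¹ :=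
    fun d x => rfl
  have hmem : ∀ x : Q, x ≠ 1 → x * x = 1 →
      (x : G) ∈ Cfsg.involutionsIn (stabilizer G a : Set G) := fun x hx1 hx =>
    ⟨hS.le x.2, fun h => hx1 (Subtype.ext h), congrArg Subtype.val hx⟩
  have hfree : ∀ (d : twoPt G a t) (x : Q), x ≠ 1 → d • x = x → d = 1 := fun d x hx1 h => by
    have h' : (d : G) * x * (d : G)⁻¹ = x := congrArg Subtype.val h
    exact Subtype.ext (semireg hC d.2 x.2 (mul_inv_eq_iff_eq_mul.mp h')
      (fun h => hx1 (Subtype.ext h)))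
  obtain ⟨s, hs⟩ := exists_invol hS
  have hsQ : s ∈ Q := invol_mem_Q hS (mem_stabilizer_iff.mp hs.1) hs.2.2
  obtain ⟨d, hd, hd1⟩ := (Subgroup.bot_or_exists_ne_one _).resolve_left hC.ne_bot
  have hna : ∃ x y : Q, x * y ≠ y * x := by
    obtain ⟨u, hu, v, hv, h⟩ := hna
    exact ⟨⟨u, hu⟩, ⟨v, hv⟩, fun h' => h (congrArg Subtype.val h')⟩
  have htrans : ∀ x y : Q, x ≠ 1 → x * x = 1 → y ≠ 1 → y * y = 1 →
      ∃ k : twoPt G a t, k • x = y := fun x y hx1 hx hy1 hy => by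
    obtain ⟨k, hk, hke⟩ := exists_conj_D hC (hmem x hx1 hx) (hmem y hy1 hy)
    exact ⟨⟨k, hk⟩, Subtype.ext hke⟩
  have hF : Hig.Free Q (twoPt G a t) := by
    refine ⟨⟨hC.two, htrans, fun k => ?_⟩, fun k x hx1 _ h => hfree k x hx1 h, hna,
      ⟨⟨d, hd⟩, fun h => hd1 (congrArg Subtype.val h)⟩⟩
    obtain ⟨r, hr, hr2⟩ := exists_sqrt_of_odd (odd_D hC k.2)
    exact ⟨⟨r, (Subgroup.zpowers_le.mpr k.2) hr⟩, Subtype.ext hr2⟩
  have hcyc : IsCyclic (twoPt G a t) := by
    letI : CommGroup (Subgroup.center Q) :=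
      { (inferInstance : Group (Subgroup.center Q)) with
        mul_comm := fun x y => Subtype.ext (Subgroup.mem_center_iff.mp y.2 x) }
    letI : MulDistribMulAction (twoPt G a t) (Subgroup.center Q) :=
      { smul := fun k z => ⟨k • z.1, Hig.center_smul z.2⟩
        one_smul := fun z => Subtype.ext (one_smul _ z.1)
        mul_smul := fun k l z => Subtype.ext (mul_smul k l z.1)
        smul_mul := fun k x y => Subtype.ext (smul_mul' k x.1 y.1)
        smul_one := fun k => Subtype.ext (smul_one k) }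
    haveI : Nontrivial (Subgroup.center Q) := ⟨⟨⟨⟨s, hsQ⟩, (Hig.mem_center_iff_sq hF).mpr
      (Subtype.ext hs.2.2)⟩, 1, fun h => hs.2.1 (congrArg Subtype.val (congrArg Subtype.val h))⟩⟩
    obtain ⟨F, _, _, e, χ, -, -, -, hχ, -⟩ := exists_field_of_regular
      (E := Subgroup.center Q) (K := twoPt G a t) (fun x y hx hy => by
        obtain ⟨k, hk⟩ := htrans x.1 y.1 (fun h => hx (Subtype.ext h))
          ((Hig.mem_center_iff_sq hF).mp x.2) (fun h => hy (Subtype.ext h))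
          ((Hig.mem_center_iff_sq hF).mp y.2)
        exact ⟨k, Subtype.ext hk⟩)
      (fun k x hx h => hfree k x.1 (fun h' => hx (Subtype.ext h')) (congrArg Subtype.val h))
    exact isCyclic_of_subgroup_isDomain χ hχ
  refine ⟨?_, Hig.card_K hF, hcyc, Hig.card_eq hF, fun x hx => ?_, fun u hu x hx => ?_⟩
  · refine ⟨inferInstance, hC.two, hna, ⟨⟨s, hsQ⟩, (⟨d, hd⟩ : twoPt G a t) • ⟨s, hsQ⟩, fun h => hd1 ?_,
      fun h => hs.2.1 (congrArg Subtype.val h), Subtype.ext hs.2.2, fun h => hs.2.1 ?_,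
      by rw [← smul_mul', show (⟨s, hsQ⟩ : Q) * ⟨s, hsQ⟩ = 1 from Subtype.ext hs.2.2]
         exact smul_one (⟨d, hd⟩ : twoPt G a t)⟩,
      φ.range, isCyclic_of_surjective φ.rangeRestrict φ.rangeRestrict_surjective,
      fun x y hx1 hx hy1 hy => ?_⟩
    · exact congrArg Subtype.val (hfree ⟨d, hd⟩ ⟨s, hsQ⟩
        (fun h' => hs.2.1 (congrArg Subtype.val h')) h.symm)
    · have h' : (d : G) * s * d⁻¹ = 1 := congrArg Subtype.val h
      simpa using h'
    · obtain ⟨k, hk⟩ := htrans x y hx1 hx hy1 hy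
      refine ⟨⟨φ k, k, rfl⟩, hk, ?_⟩
      rintro ⟨_, l, rfl⟩ hl
      have hkl : k⁻¹ * l = 1 := hfree _ x hx1 (by
        rw [mul_smul, inv_smul_eq_iff, hk]; exact hl)
      exact Subtype.ext (congrArg φ (inv_mul_eq_one.mp hkl).symm)
  · have h4 := Monoid.pow_exponent_eq_one (⟨x, hx⟩ : Q)
    rw [Hig.exponent_eq_four hF] at h4
    exact congrArg Subtype.val h4
  · have hz : (⟨u, invol_mem_Q hS (mem_stabilizer_iff.mp hu.1) hu.2.2⟩ : Q) ∈ Subgroup.center Q :=
      (Hig.mem_center_iff_sq hF).mpr (Subtype.ext hu.2.2)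
    exact (congrArg Subtype.val (Subgroup.mem_center_iff.mp hz ⟨x, hx⟩)).symm

end H66.ZS
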