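import Cfsg.Agent.H66.ZassSuzuki

/-!
Products of two involutions with different fixed points in a Zassenhaus group with non-abelian `Q`:
their classes are parametrised by the two-point stabiliser, squaring doubles the parameter, and the
centralisers of those without fixed points are semiregular abelian groups.
-/

set_option autoImplicit false

namespace H66.ZS

open MulAction H66.R1

variable {G Ω : Type*} [Group G] [MulAction G Ω] [Finite G] {a : Ω} {t : G} {Q : Subgroup G}
  (hC : Ctx G Ω a t Q) {s r : G} (hs : s ∈ Cfsg.involutionsIn (stabilizer G a : Set G))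
  (hr : r ∈ Q) (he : t * s * t = r⁻¹ * t * r)

include hC

theorem nilpotent_Q : Group.IsNilpotent Q := by
  haveI : Fact (Nat.Prime 2) := ⟨Nat.prime_two⟩
  exact hC.two.isNilpotent

/-- only `1` has odd order and commutes with an involution -/
theorem eq_one_of_commute {u z : G} (hu1 : u ≠ 1) (hu : u * u = 1) (hz : Commute z u)
    (ho : Odd (orderOf z)) : z = 1 := by
  obtain ⟨s', hs'⟩ := exists_invol hC.setup
  obtain ⟨g, hg⟩ := invol_conj hC.setup hu1 hu hs'.2.1 hs'.2.2
  have hgz : Commute (g * z * g⁻¹) s' := by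
    rw [← hg]
    show g * z * g⁻¹ * (g * u * g⁻¹) = g * u * g⁻¹ * (g * z * g⁻¹)
    rw [conj_mul, conj_mul, hz.eq]
  obtain ⟨k, hk⟩ := hC.two ⟨g * z * g⁻¹, commute_invol hC hs' hgz⟩
  have hk' : (g * z * g⁻¹) ^ 2 ^ k = 1 := congrArg Subtype.val hk
  rw [conj_pow, mul_inv_eq_one, mul_eq_left] at hk'
  obtain ⟨i, -, hi⟩ := (Nat.dvd_prime_pow Nat.prime_two).mp (orderOf_dvd_of_pow_eq_one hk')
  rcases i with _ | i
  · exact orderOf_eq_one_iff.mp (by simpa using hi)
  · exact absurd (hi ▸ ⟨2 ^ i, by ring⟩ : Even (orderOf z)) (Nat.not_even_iff_odd.mpr ho)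

/-- the centraliser of a product of two involutions with different fixed points -/
theorem real_centralizer {u v : G} {c : Ω} (hu1 : u ≠ 1) (hu : u * u = 1) (hv1 : v ≠ 1)
    (hv : v * v = 1) (huc : u • c = c) (hvc : v • c ≠ c) :
    Odd (Nat.card (Subgroup.centralizer {u * v})) ∧
    (∀ z ∈ Subgroup.centralizer {u * v}, u * z * u = z⁻¹) ∧
    ∀ z ∈ Subgroup.centralizer {u * v}, ∀ z' ∈ Subgroup.centralizer {u * v}, z * z' = z' * z := by
  have hx : (u * v) * (u * v) ≠ 1 := fun h => by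
    have h1 := eq_one_of_sq_of_odd (odd_mul hC.setup hu1 hu hv1 hv huc hvc) h
    rw [eq_inv_of_mul_eq_one_left h1, inv_eq_self_of_sq hv] at huc
    exact hvc huc
  obtain ⟨-, hodd⟩ := strongly_real hC.setup (nilpotent_Q hC) hu1 hu hv1 hv hx
  have hui : u⁻¹ = u := inv_eq_self_of_sq hu
  set y := u * v with hy
  have hyinv : u * y * u = y⁻¹ := by
    have := inverts_mul hu hv
    rwa [hui] at this
  have hconj : ∀ z ∈ Subgroup.centralizer {y}, u * z * u ∈ Subgroup.centralizer {y} := by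
    intro z hz
    rw [Subgroup.mem_centralizer_singleton_iff] at hz ⊢
    have hzi : z * y⁻¹ = y⁻¹ * z := (Commute.inv_right (hz : Commute z y)).eq
    have huy : u * y⁻¹ * u = y := by
      rw [← hyinv]
      calc u * (u * y * u) * u = (u * u) * y * (u * u) := by group
        _ = y := by rw [hu, one_mul, mul_one]
    calc u * z * u * y = u * z * u * (u * y⁻¹ * u) := by rw [huy]
      _ = u * z * (u * u) * y⁻¹ * u := by group
      _ = u * (z * y⁻¹) * u := by rw [hu]; group
      _ = u * y⁻¹ * (u * u) * z * u := by rw [hzi, hu]; group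
      _ = (u * y⁻¹ * u) * (u * z * u) := by group
      _ = _ := by rw [huy]
  let f : Subgroup.centralizer {y} → Subgroup.centralizer {y} := fun z =>
    ⟨(z : G)⁻¹ * (u * z * u), mul_mem (inv_mem z.2) (hconj _ z.2)⟩
  have hf : Function.Injective f := by
    rintro ⟨z, hz⟩ ⟨w, hw⟩ h
    have h' : z⁻¹ * (u * z * u) = w⁻¹ * (u * w * u) := congrArg Subtype.val h
    have h2 : z⁻¹ * (u * z) = w⁻¹ * (u * w) :=
      mul_right_cancel (b := u) (by simpa [mul_assoc] using h')
    have h1 : (w * z⁻¹) * u = u * (w * z⁻¹) := by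
      calc (w * z⁻¹) * u = w * (z⁻¹ * (u * z)) * z⁻¹ := by group
        _ = w * (w⁻¹ * (u * w)) * z⁻¹ := by rw [h2]
        _ = _ := by group
    exact Subtype.ext (mul_inv_eq_one.mp (eq_one_of_commute hC hu1 hu h1
      (odd_orderOf_of_mem_odd_card hodd _ (mul_mem hw (inv_mem hz))))).symm
  have hinv : ∀ z ∈ Subgroup.centralizer {y}, u * z * u = z⁻¹ := by
    intro z hz
    obtain ⟨⟨x, hx'⟩, hxe⟩ := (Finite.injective_iff_surjective.mp hf) ⟨z, hz⟩
    rw [← show x⁻¹ * (u * x * u) = z from congrArg Subtype.val hxe]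
    calc u * (x⁻¹ * (u * x * u)) * u = u * x⁻¹ * u * x * (u * u) := by group
      _ = (u * x * u)⁻¹ * x := by rw [hu, mul_inv_rev, mul_inv_rev, hui]; group
      _ = _ := by group
  refine ⟨hodd, hinv, fun z hz w hw => ?_⟩
  have h := hinv _ (mul_mem hz hw)
  have h2 : u * (z * w) * u = (u * z * u) * (u * w * u) := by
    calc u * (z * w) * u = u * z * (u * u) * w * u := by rw [hu]; group
      _ = _ := by group
  rw [h2, hinv z hz, hinv w hw, mul_inv_rev] at h
  simpa using (congrArg (fun x => x⁻¹) h).symm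

include hs

theorem S_invol {x : G} (hx : x ∈ twoPt G a t) :
    x * s * x⁻¹ ∈ Cfsg.involutionsIn (stabilizer G a : Set G) :=
  conj_involutionsIn hC.setup hs (mem_twoPt.mp hx).1

include hr he

/-- `t` times a `D`-conjugate of `s` -/
theorem hts {x : G} (hx : x ∈ twoPt G a t) :
    t * (x * s * x⁻¹) * t = (x⁻¹ * r * x)⁻¹ * (x⁻¹ * x⁻¹) * t * (x⁻¹ * r * x) := by
  have hx' : t * x⁻¹ = x * t := (D_swap hC hx).symm
  have hx2 : t * x = x⁻¹ * t := D_swap' hC hx
  calc t * (x * s * x⁻¹) * t = (t * x) * s * (x⁻¹ * t) := by group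
    _ = (x⁻¹ * t) * s * (t * x) := by rw [← hx2]
    _ = x⁻¹ * (t * s * t) * x := by group
    _ = x⁻¹ * r⁻¹ * t * r * x := by rw [he]; group
    _ = (x⁻¹ * r * x)⁻¹ * (x⁻¹ * (t * x)) * (x⁻¹ * r * x) := by group
    _ = _ := by rw [hx2]; group

theorem cube_eq_one {x : G} (hx : x ∈ twoPt G a t) (h : (x * s * x⁻¹ * t) ^ 3 = 1) :
    x = 1 ∧ r = s := by
  set S := x * s * x⁻¹ with hSdef
  have hSi := (S_invol hC hs hx)
  have hSQ : S ∈ Q := invol_mem_Q hC.setup (mem_stabilizer_iff.mp hSi.1) hSi.2.2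
  have h1 : t * S * t = S * 1 * t * S := by
    calc t * S * t = (S * S) * (t * S * t) * (S * S) := by rw [hSi.2.2]; group
      _ = S * ((S * t) ^ 3 * (S * t)⁻¹ * (S * t) * t⁻¹ * S⁻¹) * S * S := by
          rw [pow_three]; group
      _ = S * (t⁻¹ * S⁻¹ * S) * S := by rw [h]; group
      _ = S * 1 * t * S := by rw [t_inv hC.setup]; group
  have h2 := canonical_unique hC.setup (inv_mem (twoPt_conj_Q' hC.setup hx hr))
    (mul_mem (inv_mem hx) (inv_mem hx)) (twoPt_conj_Q' hC.setup hx hr) hSQ (one_mem _) hSQ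
    ((hts hC hs hr he hx).symm.trans h1)
  have hx1 : x = 1 := inv_eq_one.mp (eq_one_of_sq_of_odd (odd_D hC (inv_mem hx)) h2.2.1)
  refine ⟨hx1, ?_⟩
  have h3 := h2.2.2
  rw [hSdef, hx1] at h3
  simpa using h3

theorem sq_conj {x : G} (hx : x ∈ twoPt G a t) :
    (r * x) * ((x * s * x⁻¹ * t) * (x * s * x⁻¹ * t)) * (r * x)⁻¹
      = (x * x) * s * (x * x)⁻¹ * t := by
  set S := x * s * x⁻¹ with hSdef
  set R := x⁻¹ * r * x with hRdef
  have hRQ : R ∈ Q := twoPt_conj_Q' hC.setup hx hr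
  have hcen : S * R = R * S :=
    central hC (S_invol hC hs hx) hRQ
  have hrx : r * x = x * R := by rw [hRdef]; group
  have hsq : (S * t) * (S * t) = S * R⁻¹ * (x⁻¹ * x⁻¹) * t * R := by
    calc (S * t) * (S * t) = S * (t * S * t) := by group
      _ = _ := by rw [hSdef, hts hC hs hr he hx, ← hRdef]; group
  have hRS : R * S * R⁻¹ = S := by rw [← hcen, mul_inv_cancel_right]
  calc r * x * ((S * t) * (S * t)) * (r * x)⁻¹
      = x * R * (S * R⁻¹ * (x⁻¹ * x⁻¹) * t * R) * (x * R)⁻¹ := by rw [hrx, hsq]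
    _ = x * (R * S * R⁻¹) * (x⁻¹ * x⁻¹) * (t * x⁻¹) := by group
    _ = x * S * (x⁻¹ * x⁻¹) * (x * t) := by rw [hRS, ← D_swap hC hx]
    _ = _ := by rw [hSdef]; group

theorem pow_two_conj {x : G} (hx : x ∈ twoPt G a t) (k : ℕ) :
    ∃ g : G, g * (x * s * x⁻¹ * t) ^ 2 ^ k * g⁻¹ = x ^ 2 ^ k * s * (x ^ 2 ^ k)⁻¹ * t := by
  induction k with
  | zero => exact ⟨1, by simp⟩
  | succ k ih =>
    obtain ⟨g, hg⟩ := ih
    refine ⟨r * x ^ 2 ^ k * g, ?_⟩
    rw [pow_succ 2 k, pow_mul, pow_mul, pow_two, pow_two,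
      ← sq_conj hC hs hr he (pow_mem hx _), ← hg]
    group

omit hr he in
/-- `x ↦ x s x⁻¹ t` meets every class of products of two involutions with different fixed points -/
theorem exists_canon {u v : G} {c : Ω} (hu1 : u ≠ 1) (hu : u * u = 1) (hv1 : v ≠ 1)
    (hv : v * v = 1) (huc : u • c = c) (hvc : v • c ≠ c) :
    ∃ g : G, ∃ x ∈ twoPt G a t, g * (u * v) * g⁻¹ = x * s * x⁻¹ * t := by
  have hx : (u * v) * (u * v) ≠ 1 := fun h => by
    have h1 := eq_one_of_sq_of_odd (odd_mul hC.setup hu1 hu hv1 hv huc hvc) h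
    rw [eq_inv_of_mul_eq_one_left h1, inv_eq_self_of_sq hv] at huc
    exact hvc huc
  obtain ⟨⟨g, u', hu', hg⟩, -⟩ := strongly_real hC.setup (nilpotent_Q hC) hu1 hu hv1 hv hx
  obtain ⟨x, hx, hxe⟩ := exists_conj_D hC hs hu'
  exact ⟨g, x, hx, by rw [hg, hxe]⟩

omit hr he in
theorem canon_centralizer {x : G} (hx : x ∈ twoPt G a t) :
    Odd (Nat.card (Subgroup.centralizer {x * s * x⁻¹ * t})) ∧
    (∀ z ∈ Subgroup.centralizer {x * s * x⁻¹ * t}, x * s * x⁻¹ * z * (x * s * x⁻¹) = z⁻¹) ∧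
    ∀ z ∈ Subgroup.centralizer {x * s * x⁻¹ * t}, ∀ z' ∈ Subgroup.centralizer {x * s * x⁻¹ * t},
      z * z' = z' * z :=
  have hSi := S_invol hC hs hx
  real_centralizer hC hSi.2.1 hSi.2.2 hC.setup.ne_one hC.setup.mul_self
    (mem_stabilizer_iff.mp hSi.1) (ta_ne hC.setup)

omit hr he in
/-- the parameter is a class invariant -/
theorem canon_unique {x x' g : G} (hx : x ∈ twoPt G a t) (hx' : x' ∈ twoPt G a t)
    (h : g * (x * s * x⁻¹ * t) * g⁻¹ = x' * s * x'⁻¹ * t) : x = x' := by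
  set S := x * s * x⁻¹ with hSdef
  set S' := x' * s * x'⁻¹ with hS'def
  have hSi : S ∈ Cfsg.involutionsIn (stabilizer G a : Set G) := S_invol hC hs hx
  have hS'i : S' ∈ Cfsg.involutionsIn (stabilizer G a : Set G) := S_invol hC hs hx'
  obtain ⟨hodd, hinv, hab⟩ := canon_centralizer hC hs hx
  simp only [← hSdef] at hodd hinv hab
  set y := S * t with hy
  set u := g⁻¹ * S' * g with hu
  have huu : u * u = 1 := by
    calc u * u = g⁻¹ * (S' * S') * g := by rw [hu]; group
      _ = 1 := by rw [hS'i.2.2]; group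
  have hi : ∀ (p q : G), p * p = 1 → q * q = 1 → p * (p * q) * p = (p * q)⁻¹ := fun p q hp hq => by
    rw [mul_inv_rev, inv_eq_self_of_sq hp, inv_eq_self_of_sq hq, ← mul_assoc p p q, hp, one_mul]
  have huy : u * y * u = y⁻¹ := by
    have e : y = g⁻¹ * (S' * t) * g := by rw [← h]; group
    rw [e, hu]
    calc g⁻¹ * S' * g * (g⁻¹ * (S' * t) * g) * (g⁻¹ * S' * g)
        = g⁻¹ * (S' * (S' * t) * S') * g := by group
      _ = _ := by rw [hi _ _ hS'i.2.2 hC.setup.mul_self]; group
  have hSy : S * y * S = y⁻¹ := hi _ _ hSi.2.2 hC.setup.mul_self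
  have hz : u * S ∈ Subgroup.centralizer {y} := by
    rw [Subgroup.mem_centralizer_singleton_iff]
    calc u * S * y = u * (S * y * S) * S := by
          rw [mul_assoc (u) (S * y * S) S, mul_assoc (S * y) S S, hSi.2.2, mul_one]; group
      _ = u * (u * y * u) * S := by rw [hSy, huy]
      _ = (u * u) * y * (u * S) := by group
      _ = y * (u * S) := by rw [huu, one_mul]
  obtain ⟨w, hw, hw2⟩ := exists_sqrt_of_odd (odd_orderOf_of_mem_odd_card hodd _ hz)
  have hwC : w ∈ Subgroup.centralizer {y} := (Subgroup.zpowers_le.mpr hz) hw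
  have hwu : w * S * w⁻¹ = u := by
    have h1 : S * w⁻¹ = w * S := by
      rw [← hinv w hwC]
      calc S * (S * w * S) = (S * S) * w * S := by group
        _ = w * S := by rw [hSi.2.2, one_mul]
    calc w * S * w⁻¹ = w * (S * w⁻¹) := by group
      _ = (w * w) * S := by rw [h1]; group
      _ = u * (S * S) := by rw [hw2]; group
      _ = u := by rw [hSi.2.2, mul_one]
  set k := g * w with hk
  have hkS : k * S * k⁻¹ = S' := by
    calc k * S * k⁻¹ = g * (w * S * w⁻¹) * g⁻¹ := by rw [hk]; group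
      _ = S' := by rw [hwu, hu]; group
  have hky : k * y * k⁻¹ = S' * t := by
    calc k * y * k⁻¹ = g * ((w * y) * w⁻¹) * g⁻¹ := by rw [hk]; group
      _ = g * y * g⁻¹ := by rw [Subgroup.mem_centralizer_singleton_iff.mp hwC]; group
      _ = _ := h
  have hkt : Commute k t := by
    have e : k * t * k⁻¹ = t := by
      calc k * t * k⁻¹ = (k * S * k⁻¹)⁻¹ * (k * (S * t) * k⁻¹) := by group
        _ = t := by rw [hkS, ← hy, hky, inv_mul_cancel_left]
    exact mul_inv_eq_iff_eq_mul.mp e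
  obtain ⟨f, hf⟩ := invol_fix hC.setup hC.setup.mul_self
  have hfa : f ≠ a := fun e => ta_ne hC.setup (e ▸ hf)
  have hfb : f ≠ t • a := fun e => by
    rw [e, t_smul_smul hC.setup] at hf; exact ta_ne hC.setup hf.symm
  have hka : k • a = a := by
    refine invol_fix_unique hC.setup hS'i.2.1 hS'i.2.2 ?_ (mem_stabilizer_iff.mp hS'i.1)
    rw [← hkS, mul_smul, inv_smul_smul, mul_smul, mem_stabilizer_iff.mp hSi.1]
  have hk1 : k = 1 := hC.three k a (t • a) f (ta_ne hC.setup).symm (Ne.symm hfb) (Ne.symm hfa) hka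
    (by rw [← mul_smul, hkt.eq, mul_smul, hka])
    (fix_of_commute hC.setup hC.setup.ne_one hC.setup.mul_self hkt hf)
  rw [hk1, one_mul, inv_one, mul_one] at hkS
  exact D_conj_inj hC hs hx hx' hkS

/-- the centraliser `T` of a fixed-point-free product -/
theorem torus {n : ℕ} (hn : Nat.card (twoPt G a t) + 1 = 2 ^ n) {x : G} (hx : x ∈ twoPt G a t)
    (hfp : ∀ p : Ω, (x * s * x⁻¹ * t) • p ≠ p) :
    (Nat.card (Subgroup.centralizer {x * s * x⁻¹ * t}) ∣ Nat.card Q + 1) ∧
    (∀ z ∈ Subgroup.centralizer {x * s * x⁻¹ * t}, z ≠ 1 →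
      Subgroup.centralizer {z} = Subgroup.centralizer {x * s * x⁻¹ * t}) ∧
    ((∀ u ∈ Q, u ^ 4 = 1) →
      ∀ z ∈ Subgroup.centralizer {x * s * x⁻¹ * t}, z ^ ((2 ^ n) ^ 4) = z) ∧
    (∀ z ∈ Subgroup.centralizer {x * s * x⁻¹ * t}, z ≠ 1 →
      ∃ g : G, ∃ x' ∈ twoPt G a t, g * z * g⁻¹ = x' * s * x'⁻¹ * t) := by
  set S := x * s * x⁻¹ with hSdef
  set y := S * t with hy
  have hSi : S ∈ Cfsg.involutionsIn (stabilizer G a : Set G) := S_invol hC hs hx
  have hSa : S • a = a := mem_stabilizer_iff.mp hSi.1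
  obtain ⟨hodd, hinv, hab⟩ := canon_centralizer hC hs hx
  simp only [← hSdef] at hodd hinv hab
  set T := Subgroup.centralizer {y} with hT
  have hTo := odd_orderOf_of_mem_odd_card hodd
  have hyT : y ∈ T := Subgroup.mem_centralizer_singleton_iff.mpr rfl
  have hfree : ∀ z ∈ T, z ≠ 1 → ∀ p : Ω, z • p ≠ p := by
    intro z hz hz1 p hzp
    obtain ⟨g, hg⟩ := exists_smul hC.setup p a
    have hga : (g * z * g⁻¹) • a = a := by
      rw [← hg, mul_smul, inv_smul_smul, mul_smul, hzp]
    obtain ⟨w, hw, d, hd, hde⟩ := odd_fix hC hga (by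
      rw [show g * z * g⁻¹ = MulAut.conj g z from rfl, MulEquiv.orderOf_eq]; exact hTo z hz)
    set k := w⁻¹ * g with hk
    have hkz : k * z * k⁻¹ = d := by
      calc k * z * k⁻¹ = w⁻¹ * (g * z * g⁻¹) * w := by rw [hk]; group
        _ = d := by rw [hde]; group
    have hd1 : d ≠ 1 := fun e => hz1 (by rw [e] at hkz; simpa using hkz)
    set y' := k * y * k⁻¹ with hy'
    have hcomm : d * y' = y' * d := by
      rw [hy', ← hkz, conj_mul, conj_mul, Subgroup.mem_centralizer_singleton_iff.mp hz]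
    have hy'fp : ∀ q : Ω, y' • q ≠ q := fun q e => hfp (k⁻¹ • q) (by
      rw [eq_inv_smul_iff, ← mul_smul, ← mul_smul]; exact e)
    obtain ⟨hd_a, hd_b⟩ := mem_twoPt.mp hd
    have hset : ∀ q : Ω, d • q = q → q = a ∨ q = t • a := by
      intro q hq
      by_contra hne
      push Not at hne
      exact hd1 (hC.three d a (t • a) q (ta_ne hC.setup).symm (Ne.symm hne.2) (Ne.symm hne.1)
        hd_a hd_b hq)
    have h1 : y' • a = t • a := (hset (y' • a) (by rw [← mul_smul, hcomm, mul_smul, hd_a])).resolve_left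
      (hy'fp a)
    have h2 : y' • (t • a) = a :=
      (hset (y' • t • a) (by rw [← mul_smul, hcomm, mul_smul, hd_b])).resolve_right (hy'fp _)
    have hoy : Odd (orderOf y') := by
      rw [hy', show k * y * k⁻¹ = MulAut.conj k y from rfl, MulEquiv.orderOf_eq]; exact hTo y hyT
    obtain ⟨j, hj⟩ := hoy
    have hsq : y' * y' ∈ stabilizer G a := by rw [mem_stabilizer_iff, mul_smul, h1, h2]
    have h3 : y' ∈ stabilizer G a := by
      have e : y' = (y' * y') ^ (j + 1) := by
        rw [← pow_two, ← pow_mul, show 2 * (j + 1) = orderOf y' + 1 by omega, pow_succ,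
          pow_orderOf_eq_one, one_mul]
      rw [e]
      exact pow_mem hsq _
    exact hy'fp a (mem_stabilizer_iff.mp h3)
  have hreal : ∀ z ∈ T, z ≠ 1 → (S * z) ≠ 1 ∧ (S * z) * (S * z) = 1 ∧ (S * z) • a ≠ a ∧
      S * (S * z) = z := by
    intro z hz hz1
    have h3 : (S * z) • a ≠ a := fun e => hfree z hz hz1 a (by
      rw [mul_smul] at e
      exact MulAction.injective S (e.trans hSa.symm))
    refine ⟨fun e => h3 (by rw [e, one_smul]), ?_, h3, by rw [← mul_assoc, hSi.2.2, one_mul]⟩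
    calc S * z * (S * z) = (S * z * S) * z := by group
      _ = 1 := by rw [hinv z hz, inv_mul_cancel]
  have hcanon : ∀ z ∈ T, z ≠ 1 →
      ∃ g : G, ∃ x' ∈ twoPt G a t, g * z * g⁻¹ = x' * s * x'⁻¹ * t := by
    intro z hz hz1
    obtain ⟨h1, h2, h3, h4⟩ := hreal z hz hz1
    have := exists_canon hC hs hSi.2.1 hSi.2.2 h1 h2 hSa h3
    rwa [h4] at this
  have hcent : ∀ z ∈ T, z ≠ 1 → Subgroup.centralizer {z} = T := by
    intro z hz hz1
    obtain ⟨h1, h2, h3, h4⟩ := hreal z hz hz1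
    obtain ⟨-, -, hab'⟩ := real_centralizer hC hSi.2.1 hSi.2.2 h1 h2 hSa h3
    rw [h4] at hab'
    apply le_antisymm
    · intro w hw
      exact Subgroup.mem_centralizer_singleton_iff.mpr (hab' w hw y
        (Subgroup.mem_centralizer_singleton_iff.mpr
          (Subgroup.mem_centralizer_singleton_iff.mp hz).symm))
    · intro w hw
      exact Subgroup.mem_centralizer_singleton_iff.mpr (hab w hw z hz)
  refine ⟨?_, hcent, fun hQ4 z hz => ?_, hcanon⟩
  · haveI := finite_points hC.setup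
    rw [← card_points hC.setup]
    refine Cfsg.Agent.H29.card_dvd_of_free_action (G := T) (α := Ω) fun z p hzp => ?_
    by_contra hz1
    exact hfree z.1 z.2 (fun e => hz1 (Subtype.ext e)) p hzp
  · by_cases hz1 : z = 1
    · rw [hz1, one_pow]
    obtain ⟨g, x', hx', hg⟩ := hcanon z hz hz1
    obtain ⟨g', hg'⟩ := pow_two_conj hC hs hr he hx' n
    have hxn : x' ^ 2 ^ n = x' := by
      have hc : x' ^ Nat.card (twoPt G a t) = 1 :=
        congrArg Subtype.val (pow_card_eq_one' (x := (⟨x', hx'⟩ : twoPt G a t)))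
      rw [← hn, pow_succ, hc, one_mul]
    rw [hxn, ← hg, conj_pow] at hg'
    -- an element conjugating `z` to its `2 ^ n`-th power
    set h := (g' * g)⁻¹ * g with hh
    have hhz : h * z * h⁻¹ = z ^ 2 ^ n := by
      calc h * z * h⁻¹ = (g' * g)⁻¹ * (g * z * g⁻¹) * (g' * g) := by rw [hh]; group
        _ = z ^ 2 ^ n := by rw [← hg']; group
    obtain ⟨h1, h2, h3, h4⟩ := hreal z hz hz1
    -- adjust `h` so that it commutes with `S`
    set u := h⁻¹ * S * h with hu
    have huu : u * u = 1 := by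
      calc u * u = h⁻¹ * (S * S) * h := by rw [hu]; group
        _ = 1 := by rw [hSi.2.2]; group
    have huz : u * z * u = z⁻¹ := by
      have e := hinv _ (pow_mem hz (2 ^ n))
      rw [← hhz] at e
      calc u * z * u = h⁻¹ * (S * (h * z * h⁻¹) * S) * h := by rw [hu]; group
        _ = z⁻¹ := by rw [e]; group
    have hm : u * S ∈ T := by
      rw [← hcent z hz hz1, Subgroup.mem_centralizer_singleton_iff]
      have e1 : S * z = z⁻¹ * S := by
        rw [← hinv z hz]
        calc S * z = S * z * (S * S) := by rw [hSi.2.2, mul_one]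
          _ = _ := by group
      have e2 : u * z⁻¹ = z * u := by
        rw [← huz]
        calc u * (u * z * u) = (u * u) * z * u := by group
          _ = z * u := by rw [huu, one_mul]
      calc u * S * z = u * (S * z) := mul_assoc _ _ _
        _ = u * z⁻¹ * S := by rw [e1]; group
        _ = z * (u * S) := by rw [e2]; group
    obtain ⟨w, hw, hw2⟩ := exists_sqrt_of_odd (hTo _ hm)
    have hwT : w ∈ T := (Subgroup.zpowers_le.mpr hm) hw
    have hwu : w * S * w⁻¹ = u := by
      have e1 : S * w⁻¹ = w * S := by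
        rw [← hinv w hwT]
        calc S * (S * w * S) = (S * S) * w * S := by group
          _ = w * S := by rw [hSi.2.2, one_mul]
      calc w * S * w⁻¹ = w * (S * w⁻¹) := by group
        _ = (w * w) * S := by rw [e1]; group
        _ = u * (S * S) := by rw [hw2]; group
        _ = u := by rw [hSi.2.2, mul_one]
    set k := h * w with hk
    have hkS : Commute k S := by
      refine mul_inv_eq_iff_eq_mul.mp ?_
      calc k * S * k⁻¹ = h * (w * S * w⁻¹) * h⁻¹ := by rw [hk]; group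
        _ = S := by rw [hwu, hu]; group
    have hk4 : k ^ 4 = 1 := hQ4 k (commute_invol hC hSi hkS)
    have hkz : k * z * k⁻¹ = z ^ 2 ^ n := by
      calc k * z * k⁻¹ = h * ((w * z) * w⁻¹) * h⁻¹ := by rw [hk]; group
        _ = h * z * h⁻¹ := by rw [hab w hwT z hz]; group
        _ = _ := hhz
    have hit : ∀ i : ℕ, k ^ i * z * (k ^ i)⁻¹ = z ^ (2 ^ n) ^ i := by
      intro i
      induction i with
      | zero => simp
      | succ i ih =>
        calc k ^ (i + 1) * z * (k ^ (i + 1))⁻¹ = k * (k ^ i * z * (k ^ i)⁻¹) * k⁻¹ := by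
              rw [pow_succ']; group
          _ = (k * z * k⁻¹) ^ (2 ^ n) ^ i := by rw [ih, conj_pow]
          _ = _ := by rw [hkz, ← pow_mul, ← pow_succ']
    rw [← hit 4, hk4]; group

end H66.ZS
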